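import Mathlib
import Cfsg.Agent.H111.Pres

/-!
# Presentations: criterion, Horner words, root groups (helper109)

* `of_hom` : a criterion for `HasPres G k m`.
* `pw h u l` : the word `u^(l 0) * (u^(l 1))^h * …`.
* `root_hom`, `exists_x` : an abelian group of exponent `p` with an operator satisfying the minimal polynomial
  of a generator of a finite field is a module over the field.
* `comm_of_trinomial` : the trick of Campbell, Robertson and Williams.
-/

set_option autoImplicit false

namespace Cfsg.Agent.H109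

open Polynomial

/-- Criterion for a presentation. -/
theorem of_hom {G : Type*} [Group G] {k : ℕ} (g : Fin k → G) (hg : Subgroup.closure (Set.range g) = ⊤)
    (R : List (FreeGroup (Fin k))) (hR : ∀ r ∈ R, FreeGroup.lift g r = 1)
    (H : ∀ (J : Type) [Group J] (a : Fin k → J), Subgroup.closure (Set.range a) = ⊤ →
      (∀ r ∈ R, FreeGroup.lift a r = 1) → (∃ θ : J →* G, ∀ i, θ (a i) = g i) →
      ∃ ψ : G →* J, ∀ i, ψ (g i) = a i) : H111.HasPres G k R.length := by
  classical
  have hsurj : Function.Surjective (FreeGroup.lift g) := by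
    rw [← MonoidHom.range_eq_top, FreeGroup.range_lift_eq_closure, hg]
  refine H111.hasPres_iff.2 (H111.Quo.of_inj (FreeGroup.lift g) hsurj R hR ?_)
  intro φ θ hφ hθ hr
  have hφl : φ = FreeGroup.lift (fun i => φ (FreeGroup.of i)) := by
    ext i
    simp
  obtain ⟨ψ, hψ⟩ := H _ (fun i => φ (FreeGroup.of i)) (by
    rw [← FreeGroup.range_lift_eq_closure, ← hφl]
    exact MonoidHom.range_eq_top.2 hφ) (by
    intro r hr'
    rw [← hφl]
    exact hr r hr') ⟨θ, fun i => by rw [hθ]; simp⟩
  have hc : ψ.comp θ = MonoidHom.id _ := by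
    refine MonoidHom.eq_of_eqOn_dense (s := Set.range fun i => φ (FreeGroup.of i)) ?_ ?_
    · rw [← FreeGroup.range_lift_eq_closure, ← hφl]
      exact MonoidHom.range_eq_top.2 hφ
    · rintro _ ⟨i, rfl⟩
      simp only [MonoidHom.comp_apply, MonoidHom.id_apply]
      rw [hθ, FreeGroup.lift_apply_of, hψ]
  intro a b hab
  have := congrArg ψ hab
  rw [← MonoidHom.comp_apply, ← MonoidHom.comp_apply, hc] at this
  exact this

section words

variable {G : Type*} [Group G]

/-- Horner word: `u ^ (l 0) * (u ^ (l 1)) ^ h * …`, with `x ^ h = h * x * h⁻¹`. -/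
def pw (h u : G) : List ℤ → G
  | [] => 1
  | a :: l => u ^ a * (h * pw h u l * h⁻¹)

@[simp] theorem pw_nil (h u : G) : pw h u [] = 1 := rfl

@[simp] theorem pw_cons (h u : G) (a : ℤ) (l : List ℤ) :
    pw h u (a :: l) = u ^ a * (h * pw h u l * h⁻¹) := rfl

theorem map_pw {K : Type*} [Group K] (φ : G →* K) (h u : G) (l : List ℤ) :
    φ (pw h u l) = pw (φ h) (φ u) l := by
  induction l with
  | nil => simp
  | cons a l ih => simp [ih]

/-- Horner evaluation. -/
def ev {R : Type*} [Ring R] (γ : R) : List ℤ → R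
  | [] => 0
  | a :: l => (a : R) + γ * ev γ l

@[simp] theorem ev_nil {R : Type*} [Ring R] (γ : R) : ev γ [] = 0 := rfl

@[simp] theorem ev_cons {R : Type*} [Ring R] (γ : R) (a : ℤ) (l : List ℤ) :
    ev γ (a :: l) = (a : R) + γ * ev γ l := rfl

theorem map_ev {R S : Type*} [Ring R] [Ring S] (φ : R →+* S) (γ : R) (l : List ℤ) :
    φ (ev γ l) = ev (φ γ) l := by
  induction l with
  | nil => simp
  | cons a l ih => simp [ih]

theorem ev_range {R : Type*} [Ring R] (γ : R) (n : ℕ) : ∀ f : ℕ → ℤ,
    ev γ ((List.range n).map f) = ∑ i ∈ Finset.range n, (f i : R) * γ ^ i := by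
  induction n with
  | zero => intro f; simp
  | succ n ih =>
    intro f
    rw [List.range_succ_eq_map, List.map_cons, ev_cons, List.map_map, ih, Finset.sum_range_succ',
      Finset.mul_sum, add_comm]
    congr 1
    · refine Finset.sum_congr rfl fun i _ => ?_
      simp only [Function.comp_apply, Nat.succ_eq_add_one, pow_succ']
      rw [← mul_assoc, ← mul_assoc, (Int.cast_commute (f (i + 1)) γ).eq]
    · simp

/-- The list of coefficients of a polynomial over `ZMod p`. -/
noncomputable def lst {p : ℕ} (P : (ZMod p)[X]) : List ℤ :=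
  (List.range (P.natDegree + 1)).map fun i => ((P.coeff i).val : ℤ)

theorem ev_lst {p : ℕ} [NeZero p] {A : Type*} [Ring A] [Algebra (ZMod p) A] (P : (ZMod p)[X]) (γ : A) :
    ev γ (lst P) = aeval γ P := by
  rw [lst, ev_range, Polynomial.aeval_eq_sum_range]
  refine Finset.sum_congr rfl fun i _ => ?_
  rw [Algebra.smul_def]
  congr 1
  have : ((P.coeff i).val : ZMod p) = P.coeff i := ZMod.natCast_zmod_val _
  rw [Int.cast_natCast, ← map_natCast (algebraMap (ZMod p) A), this]

/-- Words in a root group. -/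
theorem pw_root {F : Type*} [Ring F] {x : F → G} (hx : ∀ s t, x (s + t) = x s * x t) {h : G} {γ : F}
    (hh : ∀ t, h * x t * h⁻¹ = x (γ * t)) (t : F) (l : List ℤ) : pw h (x t) l = x (ev γ l * t) := by
  have h0 : x 0 = 1 := by
    have := hx 0 0
    rw [add_zero] at this
    exact (mul_eq_left.1 this.symm)
  have hn : ∀ s, x (-s) = (x s)⁻¹ := fun s => by
    rw [eq_inv_iff_mul_eq_one, ← hx, neg_add_cancel, h0]
  have hnat : ∀ (n : ℕ) s, x s ^ n = x (n * s) := by
    intro n s
    induction n with
    | zero => simp [h0]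
    | succ n ih => rw [pow_succ, ih, ← hx]; congr 1; push_cast; rw [add_mul, one_mul]
  have hz : ∀ (n : ℤ) s, x s ^ n = x (n * s) := by
    intro n s
    obtain ⟨m, rfl | rfl⟩ := n.eq_nat_or_neg
    · rw [zpow_natCast, hnat, Int.cast_natCast]
    · rw [zpow_neg, zpow_natCast, hnat, ← hn]; congr 1; push_cast; rw [neg_mul]
  induction l with
  | nil => simp [h0]
  | cons a l ih => rw [pw_cons, ih, hh, hz, ← hx, ev_cons, add_mul, mul_assoc]

end words

section module

/-- An operator annihilated by the minimal polynomial of a generator of the field makes the module a vector space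
over the field. -/
theorem root_hom {p : ℕ} [Fact p.Prime] {F : Type*} [Field F] [Finite F] [Algebra (ZMod p) F] {E : Type*}
    [Ring E] [Algebra (ZMod p) E] (α : F) (hα : Algebra.adjoin (ZMod p) {α} = ⊤)
    (Y : E) (hY : aeval Y (minpoly (ZMod p) α) = 0) :
    ∃ Ψ : F →+* E, Ψ α = Y := by
  have hs : Function.Surjective (aeval α : (ZMod p)[X] →ₐ[ZMod p] F) := by
    rw [← AlgHom.range_eq_top, ← Algebra.adjoin_singleton_eq_range_aeval, hα]
  have hk : RingHom.ker (aeval α : (ZMod p)[X] →ₐ[ZMod p] F).toRingHom ≤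
      RingHom.ker (aeval Y : (ZMod p)[X] →ₐ[ZMod p] E).toRingHom := by
    intro P hP
    rw [RingHom.mem_ker] at hP ⊢
    obtain ⟨Q, rfl⟩ := minpoly.dvd (ZMod p) α hP
    change aeval Y _ = 0
    rw [map_mul, hY, zero_mul]
  refine ⟨RingHom.liftOfSurjective _ hs ⟨(aeval Y : (ZMod p)[X] →ₐ[ZMod p] E).toRingHom, hk⟩, ?_⟩
  have h1 := RingHom.liftOfRightInverse_comp_apply (aeval α : (ZMod p)[X] →ₐ[ZMod p] F).toRingHom
    (Function.surjInv hs) (Function.rightInverse_surjInv hs)
    ⟨(aeval Y : (ZMod p)[X] →ₐ[ZMod p] E).toRingHom, hk⟩ X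
  have e1 : (aeval α : (ZMod p)[X] →ₐ[ZMod p] F).toRingHom X = α := aeval_X α
  have e2 : (aeval Y : (ZMod p)[X] →ₐ[ZMod p] E).toRingHom X = Y := aeval_X Y
  rw [e1] at h1
  exact h1.trans e2

/-- If `f(α) = γ`, where `f` vanishes at the points of `F` which are not conjugate to `α`, and `Y ^ q = Y`,
`f(Y)` is a unit, then `m_α(Y) = 0`. -/
theorem exists_poly {p : ℕ} [Fact p.Prime] {F : Type*} [Field F] [Fintype F] [Algebra (ZMod p) F]
    (α : F) (hα : Algebra.adjoin (ZMod p) {α} = ⊤) (γ : F) :
    ∃ f g : (ZMod p)[X], aeval α f = γ ∧ f * minpoly (ZMod p) α = g * (X ^ Fintype.card F - X) := by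
  have hα' : aeval α ((X : (ZMod p)[X]) ^ Fintype.card F - X) = 0 := by
    simp [FiniteField.pow_card]
  obtain ⟨f0, hf0⟩ := minpoly.dvd (ZMod p) α hα'
  have hne : aeval α f0 ≠ 0 := by
    intro h0
    have hd := congrArg (fun P => aeval α (derivative P)) hf0
    simp only [derivative_mul, map_add, map_mul, h0, minpoly.aeval, mul_zero, zero_mul, add_zero] at hd
    rw [derivative_sub, derivative_X_pow, derivative_X] at hd
    have : ((Fintype.card F : ℕ) : (ZMod p)[X]) = 0 := by
      have hc : ((Fintype.card F : ℕ) : F) = 0 := FiniteField.cast_card_eq_zero F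
      have hch : CharP F p := charP_of_injective_algebraMap (algebraMap (ZMod p) F).injective p
      have hdv := (CharP.cast_eq_zero_iff F p _).1 hc
      exact (CharP.cast_eq_zero_iff (ZMod p)[X] p _).2 hdv
    simp [this] at hd
  have hs : Function.Surjective (aeval α : (ZMod p)[X] →ₐ[ZMod p] F) := by
    rw [← AlgHom.range_eq_top, ← Algebra.adjoin_singleton_eq_range_aeval, hα]
  obtain ⟨g, hg⟩ := hs (γ / aeval α f0)
  refine ⟨g * f0, g, ?_, ?_⟩
  · rw [map_mul, hg, div_mul_cancel₀ _ hne]
  · rw [hf0]; ring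

end module

end Cfsg.Agent.H109
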