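import Mathlib
import Cfsg.Agent.H109.SL2b

/-!
# Cubes span a finite field additively, except for four elements (helper109)
-/

set_option autoImplicit false

namespace Cfsg.Agent.H109

variable {F : Type*} [Field F] [Fintype F]

/-- the cube of a generator of the units generates the field, except for four elements -/
theorem adjoin_cube_eq_top {p : ℕ} [Fact p.Prime] [Algebra (ZMod p) F] {ζ : Fˣ}
    (hζ : ∀ y, y ∈ Subgroup.zpowers ζ) (h4 : Fintype.card F ≠ 4) :
    Algebra.adjoin (ZMod p) {(ζ : F) ^ 3} = ⊤ := by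
  by_contra hne
  obtain ⟨k, h1, h2, h3⟩ := exists_pow_of_adjoin_ne_top hne
  have ho : orderOf ζ = Fintype.card F - 1 := order_gen hζ
  have h5 : ζ ^ (3 * (p ^ k - 1)) = 1 := by
    apply Units.ext
    push_cast
    have h5 : (ζ : F) ^ (3 * (p ^ k - 1)) * (ζ : F) ^ 3 = (ζ : F) ^ 3 := by
      rw [← pow_add]
      rw [← pow_mul] at h3
      have : 3 * (p ^ k - 1) + 3 = 3 * p ^ k := by omega
      rw [this]
      exact h3
    exact mul_right_cancel₀ (pow_ne_zero 3 ζ.ne_zero) (h5.trans (one_mul _).symm)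
  have h6 := orderOf_dvd_of_pow_eq_one h5
  rw [ho] at h6
  have h7 := Nat.le_of_dvd (by omega) h6
  generalize p ^ k = r at *
  obtain ⟨s, rfl⟩ : ∃ s, r = s + 2 := ⟨r - 2, by omega⟩
  have h8 : (s + 2) ^ 2 = s ^ 2 + 4 * s + 4 := by ring
  have hs : s = 0 := by
    rcases Nat.eq_zero_or_pos s with h | h
    · exact h
    · have : 1 ≤ s ^ 2 := Nat.one_le_pow _ _ h
      omega
  subst hs
  norm_num at h2 h7
  omega

theorem cube_span (h4 : Fintype.card F ≠ 4) (M : AddSubgroup F) (h : ∀ k : Fˣ, (k : F) ^ 3 ∈ M) (t : F) : t ∈ M := by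
  obtain ⟨ζ, hζ⟩ := IsCyclic.exists_generator (α := Fˣ)
  obtain ⟨p, hch⟩ := CharP.exists F
  have hpp : p.Prime := (CharP.char_is_prime_or_zero F p).resolve_right (CharP.char_ne_zero_of_finite F p)
  have : Fact p.Prime := ⟨hpp⟩
  let _ : Algebra (ZMod p) F := ZMod.algebra F p
  obtain ⟨l, rfl⟩ := exists_list (adjoin_cube_eq_top (p := p) hζ h4) t
  have key : ∀ (l : List ℤ) (i : ℕ), ((ζ : F) ^ i) ^ 3 * ev ((ζ : F) ^ 3) l ∈ M := by
    intro l
    induction l with
    | nil => intro i; simp [zero_mem]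
    | cons a l ih =>
      intro i
      rw [ev_cons, mul_add]
      refine add_mem ?_ ?_
      · have h1 : ((ζ : F) ^ i) ^ 3 * (a : F) = a • (((ζ ^ i : Fˣ) : F) ^ 3) := by
          rw [zsmul_eq_mul, Units.val_pow_eq_pow_val, mul_comm]
        rw [h1]
        exact zsmul_mem (h _) a
      · have h1 := ih (i + 1)
        have h2 : ((ζ : F) ^ i) ^ 3 * ((ζ : F) ^ 3 * ev ((ζ : F) ^ 3) l) =
            ((ζ : F) ^ (i + 1)) ^ 3 * ev ((ζ : F) ^ 3) l := by ring
        rwa [h2]
  have := key l 0
  simpa using this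

theorem four_span (h4 : Fintype.card F = 4) {η : Fˣ} (hη : η ≠ 1) (M : AddSubgroup F) (h1 : (1 : F) ∈ M)
    (h2 : (η : F) ∈ M) (t : F) : t ∈ M := by
  classical
  have hcard : Fintype.card Fˣ = 3 := by rw [Fintype.card_units, h4]
  have ho : orderOf η = 3 := by
    have hd : orderOf η ∣ 3 := by rw [← hcard]; exact orderOf_dvd_card
    rcases (Nat.dvd_prime Nat.prime_three).1 hd with h | h
    · exact absurd (orderOf_eq_one_iff.1 h) hη
    · exact h
  have hz : ∀ y, y ∈ Subgroup.zpowers η := by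
    have : Nat.card (Subgroup.zpowers η) = Nat.card Fˣ := by
      rw [Nat.card_zpowers, ho, Nat.card_eq_fintype_card, hcard]
    have htop := Subgroup.eq_top_of_card_eq _ this
    intro y
    rw [htop]; trivial
  have e3 : η ^ 3 = 1 := by rw [← ho]; exact pow_orderOf_eq_one η
  have e3' : (η : F) ^ 3 = 1 := by
    have := congrArg Units.val e3
    simpa using this
  have hne : (η : F) - 1 ≠ 0 := by
    intro h
    exact hη (Units.ext (sub_eq_zero.1 h))
  have e4 : (η : F) ^ 2 = -(η : F) - 1 := by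
    have : ((η : F) - 1) * ((η : F) ^ 2 + η + 1) = 0 := by linear_combination e3'
    have h5 := (mul_eq_zero.1 this).resolve_left hne
    linear_combination h5
  have h3 : (η : F) ^ 2 ∈ M := by
    rw [e4]; exact sub_mem (neg_mem h2) h1
  by_cases ht : t = 0
  · rw [ht]; exact zero_mem _
  · obtain ⟨i, hi⟩ := (mem_powers_iff_mem_zpowers).2 (hz (Units.mk0 t ht))
    have hi' : t = (η : F) ^ i := by
      have := congrArg Units.val hi
      simpa using this.symm
    have h6 : (η : F) ^ i = (η : F) ^ (i % 3) := by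
      conv_lhs => rw [← Nat.div_add_mod i 3, pow_add, pow_mul, e3', one_pow, one_mul]
    have h7 : i % 3 < 3 := Nat.mod_lt _ (by norm_num)
    rw [hi', h6]
    interval_cases (i % 3)
    · simpa using h1
    · simpa using h2
    · exact h3

end Cfsg.Agent.H109
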