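import Cfsg.Agent.H820.Par.Base
import Cfsg.Agent.SporadicA.LeechMin

/-!
# Commuting involutions of trace 8 of `Co0` (helper109, S2198 E1)

* `norm_oct` : for an involution `h` of trace 8 and `x` in the lattice `x + h x = 0` or its norm is at least 64;
* `eq_sign` : such an `h` with `h (8 e_i) = - 8 e_i` is a sign change;
* `exists_common` : for commuting `g`, `h`, `g h` of trace 8 there is a vector of norm 64 negated by `g` and `h`.
-/

set_option autoImplicit false

namespace Cfsg.Agent.H109.EOne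

open Cfsg Cfsg.Agent.SporadicA Cfsg.Agent.CoOneType
open Cfsg.Agent.SporadicA.Co0Mono Cfsg.Agent.SporadicA.Co1Simple Cfsg.Agent.CoOneType.SignFacts
open Cfsg.Agent.SporadicStructure.Co0Base (e8 e8_coe)
open Cfsg.Agent.CoOneType.CoOneE (sup_inj sup_add wt_add sup_mem_octads allOne_ne mem_center_iff)
open Cfsg.Agent.H820.Par

/-! ### norms -/

theorem par (v w : leechLattice) : sqNorm ((v + w : leechLattice) : GolayPt → ℤ) +
    sqNorm ((v - w : leechLattice) : GolayPt → ℤ) =
    2 * sqNorm (v : GolayPt → ℤ) + 2 * sqNorm (w : GolayPt → ℤ) := by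
  simp only [sqNorm, ← Finset.sum_add_distrib, Finset.mul_sum]
  refine Finset.sum_congr rfl fun i _ => ?_
  have h1 : ((v + w : leechLattice) : GolayPt → ℤ) i = (v : GolayPt → ℤ) i + (w : GolayPt → ℤ) i := rfl
  have h2 : ((v - w : leechLattice) : GolayPt → ℤ) i = (v : GolayPt → ℤ) i - (w : GolayPt → ℤ) i := rfl
  rw [h1, h2]
  ring

theorem sqNorm_nonneg (v : leechLattice) : 0 ≤ sqNorm (v : GolayPt → ℤ) :=
  Finset.sum_nonneg fun _ _ => sq_nonneg _

theorem eq_zero_of_sqNorm {v : leechLattice} (h : sqNorm (v : GolayPt → ℤ) ≤ 0) : v = 0 := by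
  have h1 : sqNorm (v : GolayPt → ℤ) = 0 := le_antisymm h (sqNorm_nonneg v)
  rw [sqNorm, Finset.sum_eq_zero_iff_of_nonneg fun i _ => sq_nonneg _] at h1
  apply Subtype.ext
  funext i
  have := h1 i (Finset.mem_univ _)
  exact pow_eq_zero_iff two_ne_zero |>.1 this

theorem sqNorm_two (v : leechLattice) : sqNorm ((2 • v : leechLattice) : GolayPt → ℤ) = 4 * sqNorm (v : GolayPt → ℤ) := by
  simp only [sqNorm, Finset.mul_sum]
  refine Finset.sum_congr rfl fun i _ => ?_
  have h1 : ((2 • v : leechLattice) : GolayPt → ℤ) i = 2 * (v : GolayPt → ℤ) i := by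
    show (2 : ℕ) • (v : GolayPt → ℤ) i = _
    rw [nsmul_eq_mul]; rfl
  rw [h1]
  ring

theorem sqNorm_neg (v : leechLattice) : sqNorm ((-v : leechLattice) : GolayPt → ℤ) = sqNorm (v : GolayPt → ℤ) := by
  simp only [sqNorm]
  refine Finset.sum_congr rfl fun i _ => ?_
  have h1 : ((-v : leechLattice) : GolayPt → ℤ) i = -(v : GolayPt → ℤ) i := rfl
  rw [h1]
  ring

theorem sq_of_odd {a : ℤ} (h : a % 2 = 1) : 1 ≤ a ^ 2 := by
  have h1 : a ≠ 0 := by rintro rfl; norm_num at h
  have := Int.one_le_abs h1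
  nlinarith [sq_abs a]

/-- the part of a code word off an octad -/
theorem card_sdiff (c d : golayCode) (hc : wt c = 8) : (sup d \ sup c).card = 0 ∨ 4 ≤ (sup d \ sup c).card := by
  have h1 := wt_add d c
  have h2 := wt_cases d
  have h3 := wt_cases (d + c)
  have h4 : (sup d \ sup c).card + (sup d ∩ sup c).card = wt d := by
    rw [Finset.card_sdiff_add_card_inter]; rfl
  have h5 : (sup d ∩ sup c).card ≤ 8 := by
    rw [← hc]
    exact Finset.card_le_card Finset.inter_subset_right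
  rw [hc] at h1
  omega

theorem norm_sign {c : golayCode} (hc : wt c = 8) (x : leechLattice) :
    x + signCo0 c • x = 0 ∨ 64 ≤ sqNorm ((x + signCo0 c • x : leechLattice) : GolayPt → ℤ) := by
  have hco : ∀ i, ((x + signCo0 c • x : leechLattice) : GolayPt → ℤ) i =
      if i ∈ sup c then 0 else 2 * (x : GolayPt → ℤ) i := by
    intro i
    show (x : GolayPt → ℤ) i + ((signCo0 c • x : leechLattice) : GolayPt → ℤ) i = _
    rw [signCo0_smul, signMap_apply]
    by_cases hi : i ∈ sup c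
    · rw [if_pos hi, (mem_sup c i).1 hi, sgn_one]; ring
    · rw [if_neg hi, (notMem_sup c i).1 hi, sgn_zero]; ring
  have hcard : ((sup c)ᶜ).card = 16 := by
    rw [Finset.card_compl, Cfsg.Agent.Leech.Code.card_golayPt]
    unfold wt at hc
    omega
  have key : (∀ i, i ∉ sup c → (x : GolayPt → ℤ) i = 0) ∨ 16 ≤ ∑ i ∈ (sup c)ᶜ, (x : GolayPt → ℤ) i ^ 2 := by
    rcases Cfsg.Agent.SporadicA.LeechMin.even_or_odd x.2 with ⟨y, hy, -, hyc⟩ | ⟨m, z, hm, hz, -, -⟩
    · obtain ⟨d, hd⟩ : ∃ d : golayCode, d = ⟨_, hyc⟩ := ⟨_, rfl⟩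
      have hd' : ∀ i, i ∈ sup d ↔ y i % 2 = 1 := by
        intro i
        rw [mem_sup, hd]
        show ((y i : ℤ) : ZMod 2) = 1 ↔ _
        rw [← Int.cast_one, ZMod.intCast_eq_intCast_iff]
        unfold Int.ModEq
        norm_num
      rcases card_sdiff c d hc with h0 | h4
      · rw [Finset.card_eq_zero, Finset.sdiff_eq_empty_iff_subset] at h0
        by_cases hall : ∀ i, i ∉ sup c → (x : GolayPt → ℤ) i = 0
        · exact Or.inl hall
        right
        push Not at hall
        obtain ⟨i, hi, hxi⟩ := hall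
        have h1 : y i % 2 ≠ 1 := fun h => hi (h0 ((hd' i).2 h))
        have h2 : 16 ≤ (x : GolayPt → ℤ) i ^ 2 := by
          obtain ⟨k, hk⟩ : ∃ k, (x : GolayPt → ℤ) i = 4 * k := ⟨y i / 2, by rw [hy i]; omega⟩
          rw [hk] at hxi ⊢
          have hk0 : k ≠ 0 := by rintro rfl; exact hxi rfl
          have := Int.one_le_abs hk0
          nlinarith [sq_abs k]
        exact h2.trans (Finset.single_le_sum (f := fun i => (x : GolayPt → ℤ) i ^ 2) (fun i _ => sq_nonneg _)
          (Finset.mem_compl.2 hi))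
      · right
        have h1 : ∀ i ∈ sup d \ sup c, (4 : ℤ) ≤ (x : GolayPt → ℤ) i ^ 2 := by
          intro i hi
          rw [Finset.mem_sdiff, hd'] at hi
          rw [hy i]
          have := sq_of_odd hi.1
          linarith
        have h2 := Finset.card_nsmul_le_sum _ _ _ h1
        have h3 : ∑ i ∈ sup d \ sup c, (x : GolayPt → ℤ) i ^ 2 ≤ ∑ i ∈ (sup c)ᶜ, (x : GolayPt → ℤ) i ^ 2 := by
          apply Finset.sum_le_sum_of_subset_of_nonneg
          · intro i hi
            exact Finset.mem_compl.2 (Finset.mem_sdiff.1 hi).2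
          · intro i _ _
            exact sq_nonneg _
        rw [nsmul_eq_mul] at h2
        have h5 : (4 : ℤ) ≤ ((sup d \ sup c).card : ℤ) := by exact_mod_cast h4
        linarith
    · right
      have h1 : ∀ i ∈ (sup c)ᶜ, (1 : ℤ) ≤ (x : GolayPt → ℤ) i ^ 2 := by
        intro i _
        apply sq_of_odd
        rw [hz i]
        omega
      have h2 := Finset.card_nsmul_le_sum _ _ _ h1
      rw [hcard] at h2
      norm_num at h2
      exact h2
  rcases key with h | h
  · left
    apply Subtype.ext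
    funext i
    rw [hco]
    split_ifs with hi
    · rfl
    · rw [h i hi]; rfl
  · right
    have h1 : sqNorm ((x + signCo0 c • x : leechLattice) : GolayPt → ℤ) = 4 * ∑ i ∈ (sup c)ᶜ, (x : GolayPt → ℤ) i ^ 2 := by
      rw [sqNorm, Finset.mul_sum, ← Finset.sum_subset (Finset.subset_univ (sup c)ᶜ)]
      · refine Finset.sum_congr rfl fun i hi => ?_
        rw [hco, if_neg (Finset.mem_compl.1 hi)]
        ring
      · intro i _ hi
        rw [Finset.mem_compl, not_not] at hi
        rw [hco, if_pos hi]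
        norm_num
    rw [h1]
    linarith

theorem oct_conj {g : Co0} (h : IsOct g) (k : Co0) : IsOct (k * g * k⁻¹) := by
  obtain ⟨l, c, hc, h1⟩ := h
  exact ⟨l * k⁻¹, c, hc, by rw [← h1]; group⟩

theorem oct_exists {g : Co0} (h : IsOct g) : ∃ (k : Co0) (c : golayCode), wt c = 8 ∧ k * g * k⁻¹ = signCo0 c := by
  obtain ⟨l, c, hc, h1⟩ := h
  exact ⟨l, c, (sup_mem_octads c).1 hc, h1⟩

theorem isOct_sign {c : golayCode} (h : wt c = 8) : IsOct (signCo0 c) :=
  ⟨1, c, (sup_mem_octads c).2 h, by group⟩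

/-- conjugate sign changes -/
theorem oct_wt {c : golayCode} (h : IsOct (signCo0 c)) : wt c = 8 := by
  obtain ⟨k, d, hd, h1⟩ := oct_exists h
  rw [← hd]
  exact wt_eq_of_conj c d k (by rw [← h1]; group)

theorem oct_sq {g : Co0} (h : IsOct g) : g * g = 1 := by
  obtain ⟨k, c, -, h1⟩ := oct_exists h
  have h2 : g = k⁻¹ * signCo0 c * k := by rw [← h1]; group
  rw [h2]
  calc k⁻¹ * signCo0 c * k * (k⁻¹ * signCo0 c * k) = k⁻¹ * (signCo0 c * signCo0 c) * k := by group
    _ = 1 := by rw [signCo0_mul_self]; group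

theorem oct_ne {g : Co0} (h : IsOct g) : g ≠ 1 := by
  rintro rfl
  rw [← signCo0_zero] at h
  have h1 := oct_wt h
  rw [show wt 0 = 0 from by unfold SignFacts.wt; rw [CoOneType.CoOneE.sup_zero]; rfl] at h1
  omega

/-- **(P)** -/
theorem norm_oct {h : Co0} (hh : IsOct h) (x : leechLattice) :
    x + h • x = 0 ∨ 64 ≤ sqNorm ((x + h • x : leechLattice) : GolayPt → ℤ) := by
  obtain ⟨k, c, hc, h1⟩ := oct_exists hh
  have h2 : k • (x + h • x) = k • x + signCo0 c • (k • x) := by
    rw [smul_add, ← h1, ← mul_smul, ← mul_smul]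
    congr 2
    group
  rcases norm_sign hc (k • x) with h3 | h3
  · left
    rw [← h2] at h3
    have h4 : k⁻¹ • (k • (x + h • x)) = k⁻¹ • (0 : leechLattice) := by rw [h3]
    rwa [inv_smul_smul, smul_zero] at h4
  · right
    rwa [← h2, sqNorm_smul] at h3

/-! ### sign changes -/

/-- an element mapping every `8 e_i` to `8 e_i` or `- 8 e_i` is a sign change -/
theorem eq_sign_of {h : Co0} (H : ∀ i, h • e8 i = e8 i ∨ h • e8 i = -e8 i) : ∃ c : golayCode, h = signCo0 c := by
  have hN : h ∈ N := by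
    apply mem_N_of_e8
    intro i
    rw [mem_crossSet]
    exact ⟨i, H i⟩
  obtain ⟨c, σ, rfl⟩ := exists_sign_perm hN
  have hσ : σ = 1 := by
    apply Subtype.ext
    apply Equiv.ext
    intro i
    show (σ : Equiv.Perm GolayPt) i = i
    have h1 := H i
    rw [mul_smul, perm_smul_e8] at h1
    rcases sgn_smul_e8 c ((σ : Equiv.Perm GolayPt) i) with h2 | h2 <;> rw [h2] at h1
    · exact e8_inj' h1
    · rcases h1 with h1 | h1
      · exact (e8_ne_neg _ _ h1.symm).elim
      · exact e8_inj (neg_inj.1 h1)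
  exact ⟨c, by rw [hσ, map_one, mul_one]⟩

theorem sign_e8 (c : golayCode) (i : GolayPt) :
    signCo0 c • e8 i = if i ∈ sup c then -e8 i else e8 i := by
  apply Subtype.ext
  funext j
  rw [signCo0_smul, signMap_apply]
  by_cases hi : i ∈ sup c
  · rw [if_pos hi]
    show _ = -((e8 i : leechLattice) : GolayPt → ℤ) j
    rw [e8_coe]
    by_cases hj : j = i
    · subst hj; rw [(mem_sup c j).1 hi, sgn_one]; ring
    · simp [hj]
  · rw [if_neg hi, e8_coe]
    by_cases hj : j = i
    · subst hj; rw [(notMem_sup c j).1 hi, sgn_zero]; ring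
    · simp [hj]

theorem mem_of_neg {c : golayCode} {i : GolayPt} (h : signCo0 c • e8 i = -e8 i) : i ∈ sup c := by
  rw [sign_e8] at h
  by_contra hi
  rw [if_neg hi] at h
  exact e8_ne_neg _ _ h

theorem two_pv (i k : GolayPt) : e8 i + e8 k = 2 • pv i k 1 (Or.inl rfl) := by
  apply Subtype.ext
  funext j
  show ((e8 i : leechLattice) : GolayPt → ℤ) j + ((e8 k : leechLattice) : GolayPt → ℤ) j =
    (2 : ℕ) • ((pv i k 1 (Or.inl rfl) : leechLattice) : GolayPt → ℤ) j
  rw [pv_apply, e8_coe, e8_coe, Pi.single_apply, Pi.single_apply, nsmul_eq_mul]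
  split_ifs <;> norm_num

theorem two_pv' (i k : GolayPt) : e8 i - e8 k = 2 • pv i k (-1) (Or.inr rfl) := by
  apply Subtype.ext
  funext j
  show ((e8 i : leechLattice) : GolayPt → ℤ) j - ((e8 k : leechLattice) : GolayPt → ℤ) j =
    (2 : ℕ) • ((pv i k (-1) (Or.inr rfl) : leechLattice) : GolayPt → ℤ) j
  rw [pv_apply, e8_coe, e8_coe, Pi.single_apply, Pi.single_apply, nsmul_eq_mul]
  split_ifs <;> norm_num

/-- **(D)** an involution of trace 8 negating `8 e_i` is a sign change. -/
theorem eq_sign {h : Co0} (hh : IsOct h) {i : GolayPt} (hi : h • e8 i = -e8 i) :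
    ∃ c : golayCode, wt c = 8 ∧ i ∈ sup c ∧ h = signCo0 c := by
  obtain ⟨c, rfl⟩ : ∃ c : golayCode, h = signCo0 c := by
    apply eq_sign_of
    intro j
    by_cases hij : j = i
    · subst hij; exact Or.inr hi
    obtain ⟨x, hx⟩ : ∃ x, x = pv i j 1 (Or.inl rfl) := ⟨_, rfl⟩
    have h1 : 2 • (x + h • x) = e8 j + h • e8 j := by
      rw [nsmul_add, ← smul_nsmul, hx, ← two_pv, Co0Mono.smul_add, hi]
      abel
    rcases norm_oct hh x with h2 | h2
    · right
      rw [h2, nsmul_zero] at h1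
      exact (eq_neg_of_add_eq_zero_right h1.symm)
    · left
      have h3 := par (e8 j) (h • e8 j)
      rw [← h1, sqNorm_two, Co0Mono.sqNorm_smul, sqNorm_e8] at h3
      have h4 : sqNorm ((e8 j - h • e8 j : leechLattice) : GolayPt → ℤ) ≤ 0 := by linarith
      exact (sub_eq_zero.1 (eq_zero_of_sqNorm h4)).symm
  exact ⟨c, oct_wt hh, mem_of_neg hi, rfl⟩

/-! ### common eigenvectors -/

theorem two_inj {v w : leechLattice} (h : 2 • v = 2 • w) : v = w := by
  apply Subtype.ext
  funext i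
  have h1 : (2 : ℕ) • (v : GolayPt → ℤ) i = (2 : ℕ) • (w : GolayPt → ℤ) i :=
    congrArg (fun u : leechLattice => (u : GolayPt → ℤ) i) h
  rw [nsmul_eq_mul, nsmul_eq_mul] at h1
  push_cast at h1
  omega

/-- If the vectors `4 e_i ± 4 e_j`, `i`, `j` in a set of at least three points, are eigenvectors, then so are the `8 e_i`,
for one eigenvalue. -/
theorem eigen {h : Co0} {T : Finset GolayPt} (hT : 3 ≤ T.card)
    (H : ∀ i ∈ T, ∀ j ∈ T, i ≠ j → ∀ (s : ℤ) (hs : s = 1 ∨ s = -1), h • pv i j s hs = pv i j s hs ∨ h • pv i j s hs = -pv i j s hs) :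
    (∀ i ∈ T, h • e8 i = e8 i) ∨ (∀ i ∈ T, h • e8 i = -e8 i) := by
  have h1 : ∀ i ∈ T, ∀ j ∈ T, i ≠ j → (h • e8 i = e8 i ∨ h • e8 i = -e8 i) ∨ (h • e8 i = e8 j ∨ h • e8 i = -e8 j) := by
    intro i hi j hj hij
    have h2 : pv i j 1 (Or.inl rfl) - pv i j (-1) (Or.inr rfl) = e8 j := by
      apply two_inj
      rw [nsmul_sub, ← two_pv, ← two_pv', two_smul]
      abel
    rw [← pv_add i j, Co0Mono.smul_add]
    rcases H i hi j hj hij 1 (Or.inl rfl) with h3 | h3 <;>
      rcases H i hi j hj hij (-1) (Or.inr rfl) with h4 | h4 <;> rw [h3, h4]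
    · exact Or.inl (Or.inl rfl)
    · right; left
      rw [← sub_eq_add_neg, h2]
    · right; right
      rw [← h2]; abel
    · left; right
      abel
  have h2 : ∀ i ∈ T, h • e8 i = e8 i ∨ h • e8 i = -e8 i := by
    intro i hi
    by_contra hcon
    obtain ⟨j, hj, hji⟩ := Finset.exists_mem_ne (s := T) (by omega) i
    have h3 : 1 < (T.erase i).card := by rw [Finset.card_erase_of_mem hi]; omega
    obtain ⟨k, hk, hkj⟩ := Finset.exists_mem_ne h3 j
    have h4 := (h1 i hi j hj hji.symm).resolve_left hcon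
    have h5 := (h1 i hi k (Finset.mem_of_mem_erase hk) (Finset.ne_of_mem_erase hk).symm).resolve_left hcon
    rcases h4 with h4 | h4 <;> rcases h5 with h5 | h5 <;> rw [h4] at h5
    · exact hkj (e8_inj h5).symm
    · exact e8_ne_neg _ _ h5
    · exact e8_ne_neg _ _ h5.symm
    · exact hkj (e8_inj (neg_inj.1 h5)).symm
  by_contra hcon
  push Not at hcon
  obtain ⟨⟨i, hi, hi'⟩, ⟨j, hj, hj'⟩⟩ := hcon
  have h3 := (h2 i hi).resolve_left hi'
  have h4 := (h2 j hj).resolve_right hj'
  have hij : i ≠ j := by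
    rintro rfl
    exact hi' h4
  have h5 := H i hi j hj hij 1 (Or.inl rfl)
  have h6 : 2 • (h • pv i j 1 (Or.inl rfl)) = -e8 i + e8 j := by
    rw [← smul_nsmul, ← two_pv, Co0Mono.smul_add, h3, h4]
  rcases h5 with h5 | h5 <;> rw [h5] at h6
  · rw [← two_pv] at h6
    exact e8_ne_neg i i (add_right_cancel h6)
  · rw [_root_.smul_neg, ← two_pv, neg_add] at h6
    exact e8_ne_neg j j (add_left_cancel h6).symm

/-- alternative for two involutions of trace 8 -/
theorem half {h f : Co0} (hh : IsOct h) (hf : IsOct f) {x : leechLattice}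
    (hn : sqNorm (x : GolayPt → ℤ) = 32) (hfx : f • x = -(h • x)) :
    (h • x = x ∨ h • x = -x) ∨ (sqNorm ((x - h • x : leechLattice) : GolayPt → ℤ) = 64 ∧
      sqNorm ((x + h • x : leechLattice) : GolayPt → ℤ) = 64) := by
  have h1 := norm_oct hh x
  have h2 := norm_oct hf x
  rw [hfx, ← sub_eq_add_neg] at h2
  have h3 := par x (h • x)
  rw [Co0Mono.sqNorm_smul, hn] at h3
  rcases h1 with h1 | h1
  · left; right
    exact eq_neg_of_add_eq_zero_right h1
  rcases h2 with h2 | h2
  · left; left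
    exact (sub_eq_zero.1 h2).symm
  · right
    constructor <;> linarith

/-- **(I)** -/
theorem exists_common {g h : Co0} (hg : IsOct g) (hh : IsOct h) (hgh : IsOct (g * h)) (hc : g * h = h * g) :
    ∃ v : leechLattice, sqNorm (v : GolayPt → ℤ) = 64 ∧ g • v = -v ∧ h • v = -v := by
  obtain ⟨k, c, hwt, hk⟩ := oct_exists hg
  suffices H : ∃ v : leechLattice, sqNorm (v : GolayPt → ℤ) = 64 ∧ (k * g * k⁻¹) • v = -v ∧ (k * h * k⁻¹) • v = -v by
    obtain ⟨v, h1, h2, h3⟩ := H
    refine ⟨k⁻¹ • v, by rw [Co0Mono.sqNorm_smul, h1], ?_, ?_⟩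
    · rw [mul_smul, mul_smul] at h2
      have h4 := congrArg (fun u : leechLattice => k⁻¹ • u) h2
      simp only [inv_smul_smul, Co0Mono.smul_neg] at h4
      exact h4
    · rw [mul_smul, mul_smul] at h3
      have h4 := congrArg (fun u : leechLattice => k⁻¹ • u) h3
      simp only [inv_smul_smul, Co0Mono.smul_neg] at h4
      exact h4
  have hg' := oct_conj hg k
  have hh' := oct_conj hh k
  have hgh' := oct_conj hgh k
  have hc' : (k * g * k⁻¹) * (k * h * k⁻¹) = (k * h * k⁻¹) * (k * g * k⁻¹) := by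
    calc (k * g * k⁻¹) * (k * h * k⁻¹) = k * (g * h) * k⁻¹ := by group
      _ = k * (h * g) * k⁻¹ := by rw [hc]
      _ = _ := by group
  rw [show k * (g * h) * k⁻¹ = (k * g * k⁻¹) * (k * h * k⁻¹) by group] at hgh'
  rw [hk] at hg' hgh' hc' ⊢
  obtain ⟨h', hh'e⟩ : ∃ h', h' = k * h * k⁻¹ := ⟨_, rfl⟩
  rw [← hh'e] at hh' hgh' hc' ⊢
  clear hh'e hgh hc hh hg hk
  have hpv : ∀ i ∈ sup c, ∀ j ∈ sup c, i ≠ j → ∀ (s : ℤ) (hs : s = 1 ∨ s = -1),
      signCo0 c • pv i j s hs = -pv i j s hs := by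
    intro i hi j hj hij s hs
    apply two_inj
    rw [← smul_nsmul, _root_.smul_neg]
    rcases hs with rfl | rfl
    · rw [← two_pv, Co0Mono.smul_add, sign_e8, sign_e8, if_pos hi, if_pos hj]
      abel
    · rw [← two_pv', Co0Mono.smul_sub, sign_e8, sign_e8, if_pos hi, if_pos hj]
      abel
  by_contra hcon
  have key : ∀ i ∈ sup c, ∀ j ∈ sup c, i ≠ j → ∀ (s : ℤ) (hs : s = 1 ∨ s = -1),
      h' • pv i j s hs = pv i j s hs ∨ h' • pv i j s hs = -pv i j s hs := by
    intro i hi j hj hij s hs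
    have h1 := hpv i hi j hj hij s hs
    have h2 : (signCo0 c * h') • pv i j s hs = -(h' • pv i j s hs) := by
      rw [hc', mul_smul, h1, Co0Mono.smul_neg]
    rcases half hh' hgh' (sqNorm_pv i j hij s hs) h2 with h3 | ⟨h3, -⟩
    · exact h3
    · exfalso
      apply hcon
      refine ⟨_, h3, ?_, ?_⟩
      · rw [Co0Mono.smul_sub, h1, ← mul_smul, h2]
        abel
      · rw [Co0Mono.smul_sub, ← mul_smul, oct_sq hh', one_smul]
        abel
  have h8 : 3 ≤ (sup c).card := by
    unfold wt at hwt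
    omega
  obtain ⟨i, hi⟩ : (sup c).Nonempty := by
    rw [← Finset.card_pos]
    omega
  -- a sign change on the same octad
  have hsub : ∀ d : golayCode, wt d = 8 → (∀ j ∈ sup c, j ∈ sup d) → d = c := by
    intro d hd hsub
    apply sup_inj
    symm
    apply Finset.eq_of_subset_of_card_le hsub
    have h1 : (sup d).card = 8 := hd
    have h2 : (sup c).card = 8 := hwt
    omega
  rcases eigen h8 key with h1 | h1
  · have h2 : ∀ j ∈ sup c, (signCo0 c * h') • e8 j = -e8 j := by
      intro j hj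
      rw [mul_smul, h1 j hj, sign_e8, if_pos hj]
    obtain ⟨d, hd, -, hde⟩ := eq_sign hgh' (h2 i hi)
    have h3 : d = c := hsub d hd fun j hj => mem_of_neg (by rw [← hde]; exact h2 j hj)
    rw [h3] at hde
    exact oct_ne hh' (mul_eq_left.1 hde)
  · obtain ⟨d, hd, -, hde⟩ := eq_sign hh' (h1 i hi)
    have h3 : d = c := hsub d hd fun j hj => mem_of_neg (by rw [← hde]; exact h1 j hj)
    rw [hde, h3, signCo0_mul_self] at hgh'
    exact oct_ne hgh' rfl

end Cfsg.Agent.H109.EOne
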