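import Cfsg.Agent.H109.EOneA

/-!
# The sextet of the case E1 (helper109, S2198 E1)

`exists_sextet` : five commuting involutions `h i` of trace 8, with product `-1`, products of two of them of trace 8, are
simultaneously conjugate to the sign changes on the octads `T ∪ T i` of a sextet.
-/

set_option autoImplicit false

namespace Cfsg.Agent.H109.EOne

open Cfsg Cfsg.Agent.SporadicA Cfsg.Agent.CoOneType
open Cfsg.Agent.SporadicA.Co0Mono Cfsg.Agent.SporadicA.Co1Simple Cfsg.Agent.CoOneType.SignFacts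
open Cfsg.Agent.SporadicStructure.Co0Base (e8 e8_coe)
open Cfsg.Agent.CoOneType.CoOneE (sup_inj sup_add wt_add sup_mem_octads allOne_ne mem_center_iff)
open Cfsg.Agent.MonsterU.Lam2 (L2 cl cl_eq IsType)
open Cfsg.Agent.H820.Par

/-- a vector of norm 64 with class `cl (8 e_i)` is in the cross -/
theorem mem_cross {v : leechLattice} (hv : sqNorm (v : GolayPt → ℤ) = 64) {i : GolayPt} (h : cl v = cl (e8 i)) :
    ∃ j, v = e8 j ∨ v = -e8 j := by
  obtain ⟨u, hu⟩ := cl_eq.1 h
  have h1 := mem_crossSet_of_congr v u i hv (by rw [← hu]; abel)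
  rwa [mem_crossSet] at h1

/-- the vectors of norm 64 -/
theorem exists_smul_e8 {v : leechLattice} (hv : sqNorm (v : GolayPt → ℤ) = 64) :
    ∃ (k : Co0) (j : GolayPt), k • v = e8 j ∨ k • v = -e8 j := by
  obtain ⟨k, hk⟩ := IsType.trans (n := 4) (Or.inr (Or.inr rfl)) (x := cl v) (y := cl (e8 none))
    ⟨v, by rw [hv]; norm_num, rfl⟩ ⟨e8 none, by rw [sqNorm_e8]; norm_num, rfl⟩
  exact ⟨k, mem_cross (by rw [Co0Mono.sqNorm_smul, hv]) hk⟩

theorem conj_neg {k g : Co0} {v : leechLattice} (h : g • v = -v) : (k * g * k⁻¹) • (k • v) = -(k • v) := by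
  rw [← mul_smul, mul_assoc, mul_assoc, inv_mul_cancel, mul_one, mul_smul, h, Co0Mono.smul_neg]

theorem neg_neg_e8 {g : Co0} {w : leechLattice} {j : GolayPt} (hw : w = e8 j ∨ w = -e8 j) (h : g • w = -w) :
    g • e8 j = -e8 j := by
  rcases hw with rfl | rfl
  · exact h
  · rw [Co0Mono.smul_neg] at h
    exact neg_inj.1 h

theorem n_comm (g : Co0) : signCo0 allOne * g = g * signCo0 allOne := (sign_allOne_comm g).symm

/-- no common negated vector of norm 64 -/
theorem no_common {a b : Co0} (ha : IsOct a) (hb : IsOct b) (hab : IsOct (signCo0 allOne * (a * b))) {v : leechLattice}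
    (hv : sqNorm (v : GolayPt → ℤ) = 64) (hav : a • v = -v) (hbv : b • v = -v) : False := by
  obtain ⟨k, j, hk⟩ := exists_smul_e8 hv
  have h1 := neg_neg_e8 hk (conj_neg hav)
  have h2 := neg_neg_e8 hk (conj_neg hbv)
  obtain ⟨c, hc, hjc, hce⟩ := eq_sign (oct_conj ha k) h1
  obtain ⟨d, hd, hjd, hde⟩ := eq_sign (oct_conj hb k) h2
  have h3 := oct_conj hab k
  have h4 : k * (signCo0 allOne * (a * b)) * k⁻¹ = signCo0 (allOne + (c + d)) := by
    rw [signCo0_add, signCo0_add, ← hce, ← hde]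
    calc k * (signCo0 allOne * (a * b)) * k⁻¹ = (k * signCo0 allOne) * (a * b) * k⁻¹ := by group
      _ = (signCo0 allOne * k) * (a * b) * k⁻¹ := by rw [n_comm]
      _ = _ := by group
  rw [h4] at h3
  have h5 := oct_wt h3
  have h6 := wt_add_allOne (c + d)
  rw [add_comm (c + d)] at h6
  have h7 := wt_add c d
  have h8 : 0 < (sup c ∩ sup d).card := Finset.card_pos.2 ⟨j, Finset.mem_inter.2 ⟨hjc, hjd⟩⟩
  omega

/-- a third involution -/
theorem third {h f : Co0} {c d : golayCode} (hc : wt c = 8) (hcd : wt (c + d) = 8) (hd : wt d = 8)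
    (hh : IsOct h) (hf : IsOct f) (hcomm : h * signCo0 c = signCo0 c * h) (hcomm' : h * signCo0 d = signCo0 d * h)
    (hfe : f = signCo0 allOne * (h * (signCo0 c * signCo0 d))) (hhd : IsOct (h * signCo0 d)) :
    ∀ t ∈ sup c ∩ sup d, h • e8 t = -e8 t := by
  have hT : (sup c ∩ sup d).card = 4 := by
    have := wt_add c d
    omega
  have hpv : ∀ (e : golayCode) {i j : GolayPt}, i ∈ sup e → j ∈ sup e → ∀ (s : ℤ) (hs : s = 1 ∨ s = -1),
      signCo0 e • pv i j s hs = -pv i j s hs := by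
    intro e i j hi hj s hs
    apply two_inj
    rw [← smul_nsmul, _root_.smul_neg]
    rcases hs with rfl | rfl
    · rw [← two_pv, Co0Mono.smul_add, sign_e8, sign_e8, if_pos hi, if_pos hj]
      abel
    · rw [← two_pv', Co0Mono.smul_sub, sign_e8, sign_e8, if_pos hi, if_pos hj]
      abel
  have hfx : ∀ x : leechLattice, signCo0 c • x = -x → signCo0 d • x = -x → f • x = -(h • x) := by
    intro x h1 h2
    rw [hfe, mul_smul, allOne_smul, mul_smul, mul_smul, h2, Co0Mono.smul_neg, h1, neg_neg]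
  -- a common negated vector of `signCo0 c` and `f`
  have hno : ∀ v : leechLattice, sqNorm (v : GolayPt → ℤ) = 64 → signCo0 c • v = -v → f • v = -v → False := by
    intro v hv h1 h2
    refine no_common (isOct_sign hc) hf ?_ hv h1 h2
    have h3 : signCo0 allOne * (signCo0 c * f) = h * signCo0 d := by
      rw [hfe]
      calc signCo0 allOne * (signCo0 c * (signCo0 allOne * (h * (signCo0 c * signCo0 d))))
          = signCo0 allOne * ((signCo0 c * signCo0 allOne) * (h * signCo0 c) * signCo0 d) := by group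
        _ = signCo0 allOne * ((signCo0 allOne * signCo0 c) * (signCo0 c * h) * signCo0 d) := by
          rw [hcomm, ← n_comm (signCo0 c)]
        _ = (signCo0 allOne * signCo0 allOne) * (signCo0 c * signCo0 c) * h * signCo0 d := by group
        _ = h * signCo0 d := by rw [signCo0_mul_self, signCo0_mul_self, one_mul, one_mul]
    rw [h3]
    exact hhd
  have key : ∀ i ∈ sup c ∩ sup d, ∀ j ∈ sup c ∩ sup d, i ≠ j → ∀ (s : ℤ) (hs : s = 1 ∨ s = -1),
      h • pv i j s hs = pv i j s hs ∨ h • pv i j s hs = -pv i j s hs := by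
    intro i hi j hj hij s hs
    rw [Finset.mem_inter] at hi hj
    have h1 := hpv c hi.1 hj.1 s hs
    have h2 := hpv d hi.2 hj.2 s hs
    rcases half hh hf (sqNorm_pv i j hij s hs) (hfx _ h1 h2) with h3 | ⟨-, h3⟩
    · exact h3
    exfalso
    have h4 : signCo0 c • (pv i j s hs + h • pv i j s hs) = -(pv i j s hs + h • pv i j s hs) := by
      rw [Co0Mono.smul_add, ← mul_smul, ← hcomm, mul_smul, h1, Co0Mono.smul_neg]
      abel
    have h5 : signCo0 d • (pv i j s hs + h • pv i j s hs) = -(pv i j s hs + h • pv i j s hs) := by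
      rw [Co0Mono.smul_add, ← mul_smul, ← hcomm', mul_smul, h2, Co0Mono.smul_neg]
      abel
    refine hno _ h3 h4 ?_
    rw [hfx _ h4 h5, Co0Mono.smul_add, ← mul_smul, oct_sq hh, one_smul, add_comm]
  rcases eigen (by omega) key with h1 | h1
  · exfalso
    obtain ⟨t, ht⟩ : (sup c ∩ sup d).Nonempty := by
      rw [← Finset.card_pos]
      omega
    have h2 := Finset.mem_inter.1 ht
    have h3 : signCo0 c • e8 t = -e8 t := by rw [sign_e8, if_pos h2.1]
    have h4 : signCo0 d • e8 t = -e8 t := by rw [sign_e8, if_pos h2.2]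
    exact hno _ (sqNorm_e8 t) h3 (by rw [hfx _ h3 h4, h1 t ht])
  · exact h1

/-- the hypotheses of the case E1 -/
structure Five (h : Fin 5 → Co0) : Prop where
  comm : ∀ i j, h i * h j = h j * h i
  prod : h 0 * h 1 * h 2 * h 3 * h 4 = signCo0 allOne
  oct : ∀ i, IsOct (h i)
  octt : ∀ i j, i ≠ j → IsOct (h i * h j)

theorem Five.conj {h : Fin 5 → Co0} (H : Five h) (k : Co0) : Five fun i => k * h i * k⁻¹ where
  comm i j := by
    calc (k * h i * k⁻¹) * (k * h j * k⁻¹) = k * (h i * h j) * k⁻¹ := by group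
      _ = k * (h j * h i) * k⁻¹ := by rw [H.comm]
      _ = _ := by group
  prod := by
    calc (k * h 0 * k⁻¹) * (k * h 1 * k⁻¹) * (k * h 2 * k⁻¹) * (k * h 3 * k⁻¹) * (k * h 4 * k⁻¹) =
        k * (h 0 * h 1 * h 2 * h 3 * h 4) * k⁻¹ := by group
      _ = signCo0 allOne := by rw [H.prod, ← n_comm]; group
  oct i := oct_conj (H.oct i) k
  octt i j hij := by
    rw [show (k * h i * k⁻¹) * (k * h j * k⁻¹) = k * (h i * h j) * k⁻¹ by group]
    exact oct_conj (H.octt i j hij) k

/-- `- h i h 3 h 4` for `i = 0, 1, 2` -/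
theorem Five.triple {h : Fin 5 → Co0} (H : Five h) {i : Fin 5} (h3 : i ≠ 3) (h4 : i ≠ 4) :
    IsOct (signCo0 allOne * (h i * (h 3 * h 4))) := by
  have hs : ∀ i, h i * h i = 1 := fun i => oct_sq (H.oct i)
  -- the product of the two others
  have key : ∀ a b c d e : Co0, a * a = 1 → b * b = 1 → a * b = b * a → (a * b) * (c * (d * e)) = signCo0 allOne →
      signCo0 allOne * (c * (d * e)) = a * b := by
    intro a b c d e ha hb hab h1
    have h2 : (a * b) * (a * b) = 1 := by
      calc (a * b) * (a * b) = (a * b) * (b * a) := by rw [hab]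
        _ = a * (b * b) * a := by group
        _ = 1 := by rw [hb, mul_one, ha]
    have h3 : c * (d * e) = (a * b) * signCo0 allOne := by
      rw [← h1, ← mul_assoc (a * b), h2, one_mul]
    rw [h3, ← n_comm, ← mul_assoc, signCo0_mul_self, one_mul]
  have hp := H.prod
  obtain rfl | rfl | rfl : i = 0 ∨ i = 1 ∨ i = 2 := by
    revert i
    decide
  · rw [key (h 1) (h 2) _ _ _ (hs 1) (hs 2) (H.comm 1 2) (by
      rw [← hp]
      calc (h 1 * h 2) * (h 0 * (h 3 * h 4)) = h 1 * (h 2 * h 0) * h 3 * h 4 := by group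
        _ = (h 1 * h 0) * h 2 * h 3 * h 4 := by rw [H.comm 2 0]; group
        _ = _ := by rw [H.comm 1 0])]
    exact H.octt 1 2 (by decide)
  · rw [key (h 0) (h 2) _ _ _ (hs 0) (hs 2) (H.comm 0 2) (by
      rw [← hp]
      calc (h 0 * h 2) * (h 1 * (h 3 * h 4)) = h 0 * (h 2 * h 1) * h 3 * h 4 := by group
        _ = _ := by rw [H.comm 2 1]; group)]
    exact H.octt 0 2 (by decide)
  · rw [key (h 0) (h 1) _ _ _ (hs 0) (hs 1) (H.comm 0 1) (by
      rw [← hp]
      group)]
    exact H.octt 0 1 (by decide)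

/-- **The sextet.** -/
theorem Five.exists_sextet {h : Fin 5 → Co0} (H : Five h) :
    ∃ (k : Co0) (c : Fin 5 → golayCode) (T : Finset GolayPt), T.card = 4 ∧ (∀ i, wt (c i) = 8) ∧
      (∀ i j, i ≠ j → sup (c i) ∩ sup (c j) = T) ∧ ∀ i, k * h i * k⁻¹ = signCo0 (c i) := by
  obtain ⟨v, hv, h3, h4⟩ := exists_common (H.oct 3) (H.oct 4) (H.octt 3 4 (by decide)) (H.comm 3 4)
  obtain ⟨k, j, hk⟩ := exists_smul_e8 hv
  have K := H.conj k
  have h3' := neg_neg_e8 hk (conj_neg h3)
  have h4' := neg_neg_e8 hk (conj_neg h4)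
  obtain ⟨c, hc, hjc, hce⟩ := eq_sign (K.oct 3) h3'
  obtain ⟨d, hd, hjd, hde⟩ := eq_sign (K.oct 4) h4'
  obtain ⟨g, hg⟩ : ∃ g : Fin 5 → Co0, g = fun i => k * h i * k⁻¹ := ⟨_, rfl⟩
  have hgi : ∀ i, g i = k * h i * k⁻¹ := fun i => by rw [hg]
  rw [← hg] at K
  rw [← hgi] at hce hde
  have hcd : wt (c + d) = 8 := by
    have := K.octt 3 4 (by decide)
    rw [hce, hde, ← signCo0_add] at this
    exact oct_wt this
  have hT : (sup c ∩ sup d).card = 4 := by
    have := wt_add c d
    omega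
  -- all of them are sign changes
  have hneg : ∀ i, ∀ t ∈ sup c ∩ sup d, g i • e8 t = -e8 t := by
    intro i t ht
    by_cases hi3 : i = 3
    · rw [hi3, hce, sign_e8, if_pos (Finset.mem_inter.1 ht).1]
    by_cases hi4 : i = 4
    · rw [hi4, hde, sign_e8, if_pos (Finset.mem_inter.1 ht).2]
    refine third (f := signCo0 allOne * (g i * (signCo0 c * signCo0 d))) hc hcd hd (K.oct i) ?_ ?_ ?_ rfl ?_ t ht
    · rw [← hce, ← hde]
      exact K.triple hi3 hi4
    · rw [← hce]; exact K.comm i 3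
    · rw [← hde]; exact K.comm i 4
    · rw [← hde]
      exact K.octt i 4 hi4
  obtain ⟨t₀, ht₀⟩ : (sup c ∩ sup d).Nonempty := by
    rw [← Finset.card_pos]
    omega
  have hex : ∀ i, ∃ e : golayCode, wt e = 8 ∧ g i = signCo0 e := fun i => by
    obtain ⟨e, h1, -, h2⟩ := eq_sign (K.oct i) (hneg i t₀ ht₀)
    exact ⟨e, h1, h2⟩
  choose e he8 hge using hex
  have hsub : ∀ i, sup c ∩ sup d ⊆ sup (e i) := by
    intro i t ht
    apply mem_of_neg
    rw [← hge]
    exact hneg i t ht
  refine ⟨k, e, sup c ∩ sup d, hT, he8, ?_, fun i => by rw [← hge, hgi]⟩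
  intro i j hij
  symm
  apply Finset.eq_of_subset_of_card_le
  · exact Finset.subset_inter (hsub i) (hsub j)
  · have h1 := K.octt i j hij
    rw [hge i, hge j, ← signCo0_add] at h1
    have h2 := oct_wt h1
    have h3 := wt_add (e i) (e j)
    rw [he8 i, he8 j] at h3
    omega

end Cfsg.Agent.H109.EOne
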