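import Cfsg.Agent.H109.EOneB
import Cfsg.Agent.MonsterU.CoFrameL2

/-!
# Elements of order 5 on a tetrad (helper109, S2198 E1)

`five_fix` : an element `γ` of `Co0` with `γ ^ 5 = 1` preserving the vectors supported on a four-element set `T` fixes
`8 e_t`, `t ∈ T`.
-/

set_option autoImplicit false

namespace Cfsg.Agent.H109.EOne

open Cfsg Cfsg.Agent.SporadicA Cfsg.Agent.CoOneType
open Cfsg.Agent.SporadicA.Co0Mono Cfsg.Agent.SporadicA.Co1Simple Cfsg.Agent.CoOneType.SignFacts
open Cfsg.Agent.SporadicStructure.Co0Base (e8 e8_coe)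
open Cfsg.Agent.CoOneType.CoOneE (sup_inj sup_add wt_add sup_mem_octads allOne_ne mem_center_iff)
open Cfsg.Agent.MonsterU.Lam2 (L2 cl cl_eq IsType)
open Cfsg.Agent.H820.Par

/-- The supports of the even vectors. -/
theorem even_word {y : leechLattice} {i₀ : GolayPt} (h0 : (y : GolayPt → ℤ) i₀ = 0) :
    ∃ (z : GolayPt → ℤ) (d : golayCode), (∀ i, (y : GolayPt → ℤ) i = 2 * z i) ∧ (∀ i, i ∈ sup d ↔ z i % 2 = 1) ∧
      (∑ i, z i) % 4 = 0 := by
  rcases Cfsg.Agent.SporadicA.LeechMin.even_or_odd y.2 with ⟨z, hz, hs, hc⟩ | ⟨m, z, hm, hz, -, -⟩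
  · refine ⟨z, ⟨_, hc⟩, hz, fun i => ?_, hs⟩
    rw [mem_sup]
    show ((z i : ℤ) : ZMod 2) = 1 ↔ _
    rw [← Int.cast_one, ZMod.intCast_eq_intCast_iff]
    unfold Int.ModEq
    norm_num
  · exfalso
    rw [hz] at h0
    omega

/-- the vectors supported on `T` -/
def On (T : Finset GolayPt) (y : leechLattice) : Prop := ∀ i, i ∉ T → (y : GolayPt → ℤ) i = 0

theorem four_dvd {T : Finset GolayPt} (hT : T.card = 4) {y : leechLattice} (hy : On T y) :
    ∃ u : GolayPt → ℤ, (∀ i, (y : GolayPt → ℤ) i = 4 * u i) ∧ (∑ i, u i) % 2 = 0 := by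
  obtain ⟨i₀, hi₀⟩ : ∃ i₀, i₀ ∉ T := by
    by_contra hcon
    push Not at hcon
    have h1 : (Finset.univ : Finset GolayPt).card ≤ T.card := Finset.card_le_card fun i _ => hcon i
    rw [Finset.card_univ, Cfsg.Agent.Leech.Code.card_golayPt] at h1
    omega
  obtain ⟨z, d, hz, hd, hs⟩ := even_word (hy i₀ hi₀)
  have hsub : sup d ⊆ T := by
    intro i hi
    by_contra hiT
    have h1 := hy i hiT
    rw [hz] at h1
    have h2 := (hd i).1 hi
    omega
  have h1 : (sup d).card ≤ 4 := hT ▸ Finset.card_le_card hsub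
  have h2 : sup d = ∅ := by
    rw [← Finset.card_eq_zero]
    have h3 := wt_cases d
    unfold wt at h3
    omega
  have h3 : ∀ i, z i = 2 * (z i / 2) := by
    intro i
    have h4 : i ∉ sup d := by rw [h2]; exact Finset.notMem_empty i
    rw [hd] at h4
    omega
  refine ⟨fun i => z i / 2, fun i => ?_, ?_⟩
  · show _ = 4 * (z i / 2)
    have h4 := h3 i
    rw [hz i]
    omega
  · have h4 : ∑ i, z i = 2 * ∑ i, z i / 2 := by
      rw [Finset.mul_sum]
      exact Finset.sum_congr rfl fun i _ => h3 i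
    show (∑ i, z i / 2) % 2 = 0
    omega

theorem sq_cases {a : ℤ} (h : a ^ 2 ≤ 4) : a = 0 ∨ a = 1 ∨ a = -1 ∨ a = 2 ∨ a = -2 := by
  have h1 : a ≤ 2 := by nlinarith
  have h2 : -2 ≤ a := by nlinarith
  omega

/-- the vectors of norm 64 supported on four points -/
theorem shape {T : Finset GolayPt} (hT : T.card = 4) {y : leechLattice} (hy : On T y)
    (hn : sqNorm (y : GolayPt → ℤ) = 64) :
    (∃ s ∈ T, y = e8 s ∨ y = -e8 s) ∨ ∀ i ∈ T, (y : GolayPt → ℤ) i = 4 ∨ (y : GolayPt → ℤ) i = -4 := by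
  obtain ⟨u, hu, hs⟩ := four_dvd hT hy
  have h1 : ∑ i ∈ T, u i ^ 2 = 4 := by
    have h2 : sqNorm (y : GolayPt → ℤ) = 16 * ∑ i ∈ T, u i ^ 2 := by
      rw [sqNorm, Finset.mul_sum, ← Finset.sum_subset (Finset.subset_univ T)]
      · refine Finset.sum_congr rfl fun i _ => ?_
        rw [hu i]; ring
      · intro i _ hi
        rw [hy i hi]; norm_num
    omega
  have h3 : ∀ i ∈ T, u i ^ 2 ≤ 4 := by
    intro i hi
    rw [← h1]
    exact Finset.single_le_sum (f := fun i => u i ^ 2) (fun i _ => sq_nonneg _) hi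
  by_cases hbig : ∃ s ∈ T, u s ^ 2 = 4
  · left
    obtain ⟨s, hs, hs4⟩ := hbig
    have h4 : ∀ i, i ≠ s → u i = 0 := by
      intro i his
      by_cases hiT : i ∈ T
      · have h5 : ∑ j ∈ ({s, i} : Finset GolayPt), u j ^ 2 ≤ ∑ j ∈ T, u j ^ 2 := by
          apply Finset.sum_le_sum_of_subset_of_nonneg
          · intro j hj
            rw [Finset.mem_insert, Finset.mem_singleton] at hj
            rcases hj with rfl | rfl
            · exact hs
            · exact hiT
          · intro j _ _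
            exact sq_nonneg _
        rw [Finset.sum_pair his.symm, h1, hs4] at h5
        nlinarith [sq_nonneg (u i)]
      · have h5 := hy i hiT
        rw [hu] at h5
        omega
    refine ⟨s, hs, ?_⟩
    have h5 : u s = 2 ∨ u s = -2 := by
      rcases sq_cases (h3 s hs) with h | h | h | h | h
      · rw [h] at hs4; norm_num at hs4
      · rw [h] at hs4; norm_num at hs4
      · rw [h] at hs4; norm_num at hs4
      · exact Or.inl h
      · exact Or.inr h
    rcases h5 with h5 | h5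
    · left
      apply Subtype.ext
      funext i
      rw [e8_coe, Pi.single_apply, hu]
      split_ifs with hi
      · subst hi; rw [h5]; norm_num
      · rw [h4 i hi]; norm_num
    · right
      apply Subtype.ext
      funext i
      show _ = -((e8 s : leechLattice) : GolayPt → ℤ) i
      rw [e8_coe, Pi.single_apply, hu]
      split_ifs with hi
      · subst hi; rw [h5]; norm_num
      · rw [h4 i hi]; norm_num
  · right
    push Not at hbig
    have h4 : ∀ i ∈ T, u i ^ 2 ≤ 1 := by
      intro i hi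
      have h5 := hbig i hi
      rcases sq_cases (h3 i hi) with h | h | h | h | h
      · rw [h]; norm_num
      · rw [h]; norm_num
      · rw [h]; norm_num
      · exact absurd (by rw [h]; norm_num) h5
      · exact absurd (by rw [h]; norm_num) h5
    have h5 : ∀ i ∈ T, u i ^ 2 = 1 := by
      intro i hi
      by_contra hne
      have h6 : ∑ j ∈ T, u j ^ 2 < ∑ j ∈ T, (1 : ℤ) :=
        Finset.sum_lt_sum h4 ⟨i, hi, lt_of_le_of_ne (h4 i hi) hne⟩
      rw [h1, Finset.sum_const, hT] at h6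
      norm_num at h6
    intro i hi
    have h6 := h5 i hi
    have h7 : (u i - 1) * (u i + 1) = 0 := by linear_combination h6
    rw [hu i]
    rcases mul_eq_zero.1 h7 with h8 | h8
    · left
      have : u i = 1 := by omega
      rw [this]; norm_num
    · right
      have : u i = -1 := by omega
      rw [this]; norm_num

/-- all the classes `cl (8 e_i)` are equal -/
theorem cl_e8 (i : GolayPt) : cl (e8 i) = Cfsg.Agent.MonsterU.CoFrameL2.f0 := by
  obtain ⟨u, hu⟩ := e8_sub i none
  show cl (e8 i) = cl (e8 none)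
  rw [cl_eq]
  exact ⟨u, by rw [hu]; abel⟩

/-- the classes of the vectors with all coordinates `± 4` on `T` -/
theorem cl_four {T : Finset GolayPt} {y y' : leechLattice} (hy : On T y) (hy' : On T y')
    (h : ∀ i ∈ T, (y : GolayPt → ℤ) i = 4 ∨ (y : GolayPt → ℤ) i = -4)
    (h' : ∀ i ∈ T, (y' : GolayPt → ℤ) i = 4 ∨ (y' : GolayPt → ℤ) i = -4) :
    cl y = cl y' ∨ cl y = Cfsg.Agent.MonsterU.CoFrameL2.f0 + cl y' := by
  have h1 : ∀ i, ∃ r : ℤ, (y : GolayPt → ℤ) i - (y' : GolayPt → ℤ) i = 8 * r := by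
    intro i
    by_cases hi : i ∈ T
    · rcases h i hi with h2 | h2 <;> rcases h' i hi with h3 | h3 <;> rw [h2, h3]
      · exact ⟨0, by norm_num⟩
      · exact ⟨1, by norm_num⟩
      · exact ⟨-1, by norm_num⟩
      · exact ⟨0, by norm_num⟩
    · rw [hy i hi, hy' i hi]
      exact ⟨0, by norm_num⟩
  choose r hr using h1
  rcases Int.emod_two_eq_zero_or_one (∑ i, r i) with h2 | h2
  · left
    rw [cl_eq]
    refine ⟨⟨fun i => 4 * r i, SporadicStructure.Co0Base.four_mul_mem _ (Int.dvd_of_emod_eq_zero h2)⟩, ?_⟩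
    apply Subtype.ext
    funext i
    show (y : GolayPt → ℤ) i - (y' : GolayPt → ℤ) i = (2 : ℕ) • (4 * r i)
    rw [hr i, nsmul_eq_mul]
    push_cast
    ring
  · right
    have h3 : ∑ i, (r i - if i = none then 1 else 0) = ∑ i, r i - 1 := by
      rw [Finset.sum_sub_distrib]
      simp
    rw [← cl_e8 none, ← map_add, cl_eq]
    refine ⟨⟨fun i => 4 * (r i - if i = none then 1 else 0), SporadicStructure.Co0Base.four_mul_mem _ ?_⟩, ?_⟩
    · rw [h3]; omega
    · apply Subtype.ext
      funext i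
      show (y : GolayPt → ℤ) i - (((e8 none : leechLattice) : GolayPt → ℤ) i + (y' : GolayPt → ℤ) i) =
        (2 : ℕ) • (4 * (r i - if i = none then 1 else 0))
      have h4 := hr i
      rw [e8_coe, Pi.single_apply, nsmul_eq_mul]
      push_cast
      split_ifs <;> linarith

theorem fix_of_pow {G X : Type*} [Group G] [MulAction G X] {γ : G} {v : X} {n d : ℕ} (hn : γ ^ n = 1) (h1 : 1 < n)
    (hd : γ ^ d • v = v) (hc : Nat.Coprime d n) : γ • v = v := by
  have hpow : ∀ k, γ ^ (d * k) • v = v := by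
    intro k
    induction k with
    | zero => rw [mul_zero, pow_zero, one_smul]
    | succ k ih => rw [mul_add, mul_one, pow_add, mul_smul, hd, ih]
  obtain ⟨m, hm⟩ := Nat.exists_mul_mod_eq_one_of_coprime hc h1
  have h2 : γ ^ (d * m) = γ := by
    conv_rhs => rw [← pow_one γ]
    rw [← Nat.div_add_mod (d * m) n, hm.2, pow_add, pow_mul, hn, one_pow, one_mul]
  rw [← h2]
  exact hpow m

/-- **elements of order 5 on a tetrad** -/
theorem five_fix {γ : Co0} (h5 : γ ^ 5 = 1) {T : Finset GolayPt} (hT : T.card = 4)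
    (hγ : ∀ y : leechLattice, On T y → On T (γ • y)) : ∀ t ∈ T, γ • e8 t = e8 t := by
  have hon : ∀ t ∈ T, On T (e8 t) := by
    intro t ht i hi
    rw [e8_coe, Pi.single_apply, if_neg]
    rintro rfl
    exact hi ht
  set a := Cfsg.Agent.MonsterU.CoFrameL2.f0 with ha
  -- the class is fixed
  have key : ∀ t ∈ T, γ • a = a := by
    intro t ht
    by_contra hne
    have hy : On T (γ • e8 t) := hγ _ (hon t ht)
    have hy2 : On T (γ • γ • e8 t) := hγ _ hy
    have hn : sqNorm ((γ • e8 t : leechLattice) : GolayPt → ℤ) = 64 := by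
      rw [Co0Mono.sqNorm_smul, sqNorm_e8]
    have hn2 : sqNorm ((γ • γ • e8 t : leechLattice) : GolayPt → ℤ) = 64 := by
      rw [Co0Mono.sqNorm_smul, hn]
    have hcl : cl (γ • e8 t) = γ • a := by
      rw [ha, ← cl_e8 t]; rfl
    have hcl2 : cl (γ • γ • e8 t) = γ • γ • a := by
      rw [ha, ← cl_e8 t]; rfl
    have h4 : ∀ i ∈ T, ((γ • e8 t : leechLattice) : GolayPt → ℤ) i = 4 ∨
        ((γ • e8 t : leechLattice) : GolayPt → ℤ) i = -4 := by
      refine (shape hT hy hn).resolve_left ?_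
      rintro ⟨s, -, h1 | h1⟩
      · exact hne (by rw [← hcl, h1, cl_e8])
      · exact hne (by rw [← hcl, h1, Cfsg.Agent.MonsterU.Lam2.cl_neg, cl_e8])
    have hadd : ∀ x : L2, x + x = 0 := Cfsg.Agent.MonsterU.Lam2.add_self
    have h3 : γ • γ • a = a ∨ γ • γ • a = γ • a ∨ γ • γ • a = a + γ • a := by
      rcases shape hT hy2 hn2 with ⟨s, -, h1 | h1⟩ | h1
      · left
        rw [← hcl2, h1, cl_e8]
      · left
        rw [← hcl2, h1, Cfsg.Agent.MonsterU.Lam2.cl_neg, cl_e8]
      · right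
        rw [← hcl2, ← hcl]
        exact cl_four hy2 hy h1 h4
    have h5' : γ • γ • γ • γ • γ • a = a := by
      rw [← mul_smul, ← mul_smul, ← mul_smul, ← mul_smul, show γ * γ * γ * γ * γ = γ ^ 5 by
        rw [pow_succ, pow_succ, pow_succ, pow_succ, pow_one], h5, one_smul]
    rcases h3 with h3 | h3 | h3
    · rw [h3, h3] at h5'
      exact hne h5'
    · exact hne (smul_left_cancel γ h3)
    · have h6 : γ • γ • γ • a = a := by
        rw [h3, _root_.smul_add, h3, add_comm a, ← add_assoc, hadd, zero_add]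
      rw [h6, h3] at h5'
      have h7 : γ • a = 0 := by simpa using h5'
      have h8 : a = 0 := by
        rw [← inv_smul_smul γ a, h7, _root_.smul_zero]
      exact Cfsg.Agent.MonsterU.CoFrameL2.f0_ne h8
  -- the signed points
  have hstep : ∀ t ∈ T, ∃ s ∈ T, γ • e8 t = e8 s ∨ γ • e8 t = -e8 s := by
    intro t ht
    have hn : sqNorm ((γ • e8 t : leechLattice) : GolayPt → ℤ) = 64 := by
      rw [Co0Mono.sqNorm_smul, sqNorm_e8]
    have hcl : cl (γ • e8 t) = cl (e8 t) := by
      rw [cl_e8, ← ha]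
      conv_rhs => rw [← key t ht, ha, ← cl_e8 t]
      rfl
    obtain ⟨s, hs⟩ := mem_cross hn hcl
    refine ⟨s, ?_, hs⟩
    by_contra hsT
    have h1 := hγ _ (hon t ht) s hsT
    rcases hs with hs | hs <;> rw [hs] at h1
    · rw [e8_coe, Pi.single_eq_same] at h1
      norm_num at h1
    · have h2 : ((-e8 s : leechLattice) : GolayPt → ℤ) s = -((e8 s : leechLattice) : GolayPt → ℤ) s := rfl
      rw [h2, e8_coe, Pi.single_eq_same] at h1
      norm_num at h1
  intro t ht
  have hall : ∀ n : ℕ, ∃ s ∈ T, γ ^ n • e8 t = e8 s ∨ γ ^ n • e8 t = -e8 s := by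
    intro n
    induction n with
    | zero => exact ⟨t, ht, Or.inl (by rw [pow_zero, one_smul])⟩
    | succ n ih =>
      obtain ⟨s, hs, h1⟩ := ih
      obtain ⟨r, hr, h2⟩ := hstep s hs
      refine ⟨r, hr, ?_⟩
      rw [pow_succ', mul_smul]
      rcases h1 with h1 | h1 <;> rw [h1]
      · exact h2
      · rw [Co0Mono.smul_neg]
        rcases h2 with h2 | h2 <;> rw [h2]
        · exact Or.inr rfl
        · exact Or.inl (neg_neg _)
  choose s hsT hs using hall
  obtain ⟨i, hi, j, hj, hij, hse⟩ := Finset.exists_ne_map_eq_of_card_lt_of_maps_to (s := Finset.range 5) (t := T)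
    (by rw [hT, Finset.card_range]; norm_num) (fun n _ => hsT n)
  wlog hlt : i < j generalizing i j
  · exact this j hj i hi hij.symm hse.symm (by omega)
  rw [Finset.mem_range] at hi hj
  have h1 : γ ^ (j - i) • e8 t = e8 t ∨ γ ^ (j - i) • e8 t = -e8 t := by
    have h2 := hs i
    have h3 := hs j
    rw [← hse] at h3
    have h4 : γ ^ j = γ ^ i * γ ^ (j - i) := by rw [← pow_add]; congr 1; omega
    rw [h4, mul_smul] at h3
    have h5 : γ ^ i • γ ^ (j - i) • e8 t = γ ^ i • e8 t ∨ γ ^ i • γ ^ (j - i) • e8 t = γ ^ i • (-e8 t) := by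
      rw [Co0Mono.smul_neg]
      rcases h2 with h2 | h2 <;> rcases h3 with h3 | h3 <;> rw [h2, h3]
      · exact Or.inl rfl
      · exact Or.inr rfl
      · exact Or.inr (neg_neg _).symm
      · exact Or.inl rfl
    rcases h5 with h5 | h5
    · exact Or.inl (smul_left_cancel _ h5)
    · exact Or.inr (smul_left_cancel _ h5)
  refine fix_of_pow h5 (by norm_num) (d := (j - i) + (j - i)) ?_ ?_
  · rw [pow_add, mul_smul]
    rcases h1 with h1 | h1
    · rw [h1, h1]
    · rw [h1, Co0Mono.smul_neg, h1, neg_neg]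
  · have h2 : j - i = 1 ∨ j - i = 2 ∨ j - i = 3 ∨ j - i = 4 := by omega
    rcases h2 with h2 | h2 | h2 | h2 <;> rw [h2] <;> decide

end Cfsg.Agent.H109.EOne
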