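import Cfsg.Agent.H109.EOneC
import Cfsg.Agent.SigZeroCo2.M24Fix

/-!
# The element of order 3 on the sextet (helper109, S2198 E1)

`sixteen_dvd` : for `κ` of order 3 fixing the tetrad `T` pointwise, permuting the octads `c 0`, `c 1`, `c 2` cyclically and
fixing the octad `c 3`, the vectors fixed by `κ` and supported off `c 4` have inner products divisible by 16.
-/

set_option autoImplicit false

namespace Cfsg.Agent.H109.EOne

open Cfsg Cfsg.Agent.SporadicA Cfsg.Agent.CoOneType
open Cfsg.Agent.SporadicA.Co0Mono Cfsg.Agent.SporadicA.Co1Simple Cfsg.Agent.CoOneType.SignFacts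
open Cfsg.Agent.SporadicStructure.Co0Base (e8 e8_coe)
open Cfsg.Agent.CoOneType.CoOneE (sup_inj sup_add wt_add sup_mem_octads allOne_ne mem_center_iff sup_wordPerm sup_zero)
open Cfsg.Agent.MonsterU.Lam2 (L2 cl cl_eq IsType)
open Cfsg.Agent.H820.Par
open scoped Pointwise

/-- the octads of a sextet containing the tetrad `T` -/
structure Sx (c : Fin 5 → golayCode) (T : Finset GolayPt) : Prop where
  card : T.card = 4
  wt : ∀ i, wt (c i) = 8
  inter : ∀ i j, i ≠ j → sup (c i) ∩ sup (c j) = T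

variable {c : Fin 5 → golayCode} {T : Finset GolayPt}

theorem Sx.sub (S : Sx c T) (i : Fin 5) : T ⊆ sup (c i) := by
  obtain ⟨j, hj⟩ : ∃ j : Fin 5, i ≠ j := by
    revert i; decide
  rw [← S.inter i j hj]
  exact Finset.inter_subset_left

theorem Sx.cover (S : Sx c T) (i : GolayPt) : ∃ j, i ∈ sup (c j) := by
  classical
  by_cases hi : i ∈ T
  · exact ⟨0, S.sub 0 hi⟩
  have h1 : ((Finset.univ : Finset (Fin 5)).biUnion fun j => sup (c j) \ T).card = 20 := by
    rw [Finset.card_biUnion]
    · rw [Finset.sum_congr rfl (g := fun _ => 4)]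
      · rfl
      · intro j _
        have h2 := Finset.card_sdiff_of_subset (S.sub j)
        have h3 : (sup (c j)).card = 8 := S.wt j
        rw [h2, h3, S.card]
    · intro a _ b _ hab
      show Disjoint _ _
      rw [Finset.disjoint_left]
      intro x hx hx'
      rw [Finset.mem_sdiff] at hx hx'
      apply hx.2
      rw [← S.inter a b hab]
      exact Finset.mem_inter.2 ⟨hx.1, hx'.1⟩
  have h2 : ((Finset.univ : Finset (Fin 5)).biUnion fun j => sup (c j) \ T) = Tᶜ := by
    apply Finset.eq_of_subset_of_card_le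
    · intro x hx
      rw [Finset.mem_biUnion] at hx
      obtain ⟨j, -, hj⟩ := hx
      exact Finset.mem_compl.2 (Finset.mem_sdiff.1 hj).2
    · rw [h1, Finset.card_compl, Cfsg.Agent.Leech.Code.card_golayPt, S.card]
  have h3 : i ∈ Tᶜ := Finset.mem_compl.2 hi
  rw [← h2, Finset.mem_biUnion] at h3
  obtain ⟨j, -, hj⟩ := h3
  exact ⟨j, (Finset.mem_sdiff.1 hj).1⟩

/-- a set off `T` -/
theorem Sx.card_eq (S : Sx c T) {A : Finset GolayPt} (hA : A ∩ T = ∅) :
    A.card = (A ∩ sup (c 0)).card + (A ∩ sup (c 1)).card + (A ∩ sup (c 2)).card + (A ∩ sup (c 3)).card +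
      (A ∩ sup (c 4)).card := by
  classical
  have h1 : A = (Finset.univ : Finset (Fin 5)).biUnion fun j => A ∩ sup (c j) := by
    ext x
    rw [Finset.mem_biUnion]
    constructor
    · intro hx
      obtain ⟨j, hj⟩ := S.cover x
      exact ⟨j, Finset.mem_univ _, Finset.mem_inter.2 ⟨hx, hj⟩⟩
    · rintro ⟨j, -, hj⟩
      exact (Finset.mem_inter.1 hj).1
  have h2 : A.card = ∑ j : Fin 5, (A ∩ sup (c j)).card := by
    conv_lhs => rw [h1]
    apply Finset.card_biUnion
    intro a _ b _ hab
    show Disjoint _ _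
    rw [Finset.disjoint_left]
    intro x hx hx'
    rw [Finset.mem_inter] at hx hx'
    have h3 : x ∈ A ∩ T := by
      rw [← S.inter a b hab]
      exact Finset.mem_inter.2 ⟨hx.1, Finset.mem_inter.2 ⟨hx.2, hx'.2⟩⟩
    rw [hA] at h3
    exact Finset.notMem_empty _ h3
  rw [h2, Fin.sum_univ_five]

theorem sign_inj {c d : golayCode} (h : signCo0 c = signCo0 d) : c = d := by
  apply sup_inj
  ext i
  constructor
  · intro hi
    apply mem_of_neg
    rw [← h, sign_e8, if_pos hi]
  · intro hi
    apply mem_of_neg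
    rw [h, sign_e8, if_pos hi]

/-- a permutation of order 3 of a set of two points -/
theorem fix_two {f : Equiv.Perm GolayPt} (h3 : ∀ x, f (f (f x)) = x) {A : Finset GolayPt} (hA : A.card = 2)
    (hf : ∀ x ∈ A, f x ∈ A) : ∀ x ∈ A, f x = x := by
  intro x hx
  by_contra hne
  have h1 := hf x hx
  have h2 := hf _ h1
  have h4 : f (f x) ≠ f x := fun h => hne (f.injective h)
  have h5 : f (f x) ≠ x := by
    intro h
    have := h3 x
    rw [h] at this
    exact hne this
  have h6 : ({x, f x, f (f x)} : Finset GolayPt).card = 3 := by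
    rw [Finset.card_eq_three]
    exact ⟨_, _, _, Ne.symm hne, Ne.symm h5, Ne.symm h4, rfl⟩
  have h7 : ({x, f x, f (f x)} : Finset GolayPt) ⊆ A := by
    intro y hy
    simp only [Finset.mem_insert, Finset.mem_singleton] at hy
    rcases hy with rfl | rfl | rfl
    · exact hx
    · exact h1
    · exact h2
  have h8 := Finset.card_le_card h7
  omega

/-- hypotheses on the element of order 3 -/
structure Three (c : Fin 5 → golayCode) (T : Finset GolayPt) (κ : Co0) : Prop where
  pow : κ ^ 3 = 1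
  fix : ∀ t ∈ T, κ • e8 t = e8 t
  c01 : κ * signCo0 (c 0) = signCo0 (c 1) * κ
  c12 : κ * signCo0 (c 1) = signCo0 (c 2) * κ
  c33 : κ * signCo0 (c 3) = signCo0 (c 3) * κ

/-- the element of order 3 is monomial -/
theorem Three.mono (S : Sx c T) {κ : Co0} (K : Three c T κ) :
    ∃ (e : golayCode) (π : M24), κ = signCo0 e * permCo0 π ∧ (∀ t ∈ T, (π : Equiv.Perm GolayPt) t = t) ∧
      (∀ x, (π : Equiv.Perm GolayPt) ((π : Equiv.Perm GolayPt) ((π : Equiv.Perm GolayPt) x)) = x) ∧
      π • sup (c 0) = sup (c 1) ∧ π • sup (c 1) = sup (c 2) ∧ π • sup (c 3) = sup (c 3) := by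
  obtain ⟨t₀, ht₀⟩ : T.Nonempty := by
    rw [← Finset.card_pos, S.card]; norm_num
  have hN : κ ∈ N := by
    apply mem_N_of_e8
    intro i
    rw [mem_crossSet]
    apply mem_cross (i := t₀)
    · rw [Co0Mono.sqNorm_smul, sqNorm_e8]
    · have h1 : cl (κ • e8 i) = κ • cl (e8 i) := rfl
      have h2 : κ • cl (e8 t₀) = cl (κ • e8 t₀) := rfl
      rw [h1, cl_e8, ← cl_e8 t₀, h2, K.fix t₀ ht₀]
  obtain ⟨e, π, hκ⟩ := exists_sign_perm hN
  have hc : ∀ a b : golayCode, κ * signCo0 a = signCo0 b * κ → π • sup a = sup b := by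
    intro a b h
    rw [hκ, mul_assoc, perm_mul_sign, ← mul_assoc, ← mul_assoc, ← signCo0_add, ← signCo0_add] at h
    have h1 := sign_inj (mul_right_cancel h)
    rw [add_comm b e] at h1
    rw [← sup_wordPerm, add_left_cancel h1]
  refine ⟨e, π, hκ, ?_, ?_, hc _ _ K.c01, hc _ _ K.c12, hc _ _ K.c33⟩
  · intro t ht
    have h1 := K.fix t ht
    rw [hκ, mul_smul, perm_smul_e8, sign_e8] at h1
    split_ifs at h1 with h2
    · exact (e8_ne_neg _ _ h1.symm).elim
    · exact e8_inj h1
  · obtain ⟨d, hd⟩ := sign_perm_pow e π 3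
    rw [← hκ, K.pow] at hd
    have h1 := perm_eq_one hd.symm
    intro x
    have h2 : ((π ^ 3 : M24) : Equiv.Perm GolayPt) x = x := by rw [h1]; rfl
    have h3 : ((π ^ 3 : M24) : Equiv.Perm GolayPt) = (π : Equiv.Perm GolayPt) * ((π : Equiv.Perm GolayPt) * (π : Equiv.Perm GolayPt)) := by
      rw [Subgroup.coe_pow, pow_succ, pow_two, mul_assoc]
    rw [h3] at h2
    exact h2

/-- **the supports of the fixed vectors off `c 4`** -/
theorem Three.word (S : Sx c T) {κ : Co0} (K : Three c T κ) {y : leechLattice} (hy : κ • y = y)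
    (hs : ∀ i ∈ sup (c 4), (y : GolayPt → ℤ) i = 0) {z : GolayPt → ℤ} {d : golayCode}
    (hz : ∀ i, (y : GolayPt → ℤ) i = 2 * z i) (hd : ∀ i, i ∈ sup d ↔ z i % 2 = 1) :
    sup d = ∅ ∨ sup d = (sup (c 4))ᶜ := by
  classical
  obtain ⟨e, π, hκ, hT, h3, h01, h12, h33⟩ := K.mono S
  -- `sup d` is invariant
  have hinv : ∀ i, (π : Equiv.Perm GolayPt) i ∈ sup d ↔ i ∈ sup d := by
    intro i
    have h1 : ((κ • y : leechLattice) : GolayPt → ℤ) ((π : Equiv.Perm GolayPt) i) = (y : GolayPt → ℤ) ((π : Equiv.Perm GolayPt) i) := by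
      rw [hy]
    rw [hκ, mul_smul, signCo0_smul, signMap_apply, permCo0_smul, permMap_apply, Equiv.symm_apply_apply, hz, hz] at h1
    rw [hd, hd]
    rcases SporadicStructure.LeechBase.zmod2_cases ((e : GolayPt → ZMod 2) ((π : Equiv.Perm GolayPt) i)) with h2 | h2
    · rw [h2, sgn_zero] at h1
      omega
    · rw [h2, sgn_one] at h1
      omega
  have hinvs : ∀ A : Finset GolayPt, (A = sup d ∨ A = sup (c 3)) → π • A = A := by
    rintro A (rfl | rfl)
    · ext i
      rw [Finset.mem_smul_finset]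
      constructor
      · rintro ⟨j, hj, rfl⟩
        exact (hinv j).2 hj
      · intro hi
        refine ⟨(π : Equiv.Perm GolayPt).symm i, ?_, (π : Equiv.Perm GolayPt).apply_symm_apply i⟩
        rw [← hinv, Equiv.apply_symm_apply]
        exact hi
    · exact h33
  have hdc4 : sup d ∩ sup (c 4) = ∅ := by
    rw [Finset.eq_empty_iff_forall_notMem]
    intro i hi
    rw [Finset.mem_inter, hd] at hi
    have h1 := hs i hi.2
    rw [hz] at h1
    omega
  have hdT : sup d ∩ T = ∅ := by
    rw [Finset.eq_empty_iff_forall_notMem]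
    intro i hi
    rw [Finset.mem_inter] at hi
    have h1 : i ∈ sup d ∩ sup (c 4) := Finset.mem_inter.2 ⟨hi.1, S.sub 4 hi.2⟩
    rw [hdc4] at h1
    exact Finset.notMem_empty _ h1
  have hsub : sup d ⊆ (sup (c 4))ᶜ := by
    intro i hi
    rw [Finset.mem_compl]
    intro h1
    have h2 : i ∈ sup d ∩ sup (c 4) := Finset.mem_inter.2 ⟨hi, h1⟩
    rw [hdc4] at h2
    exact Finset.notMem_empty _ h2
  have hc16 : ((sup (c 4))ᶜ).card = 16 := by
    have h1 : (sup (c 4)).card = 8 := S.wt 4
    rw [Finset.card_compl, Cfsg.Agent.Leech.Code.card_golayPt, h1]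
  have hadd : ∀ j, wt (d + c j) + 2 * (sup d ∩ sup (c j)).card = wt d + 8 := by
    intro j
    rw [wt_add, S.wt]
  have hcas : ∀ j, wt (d + c j) = 0 ∨ wt (d + c j) = 8 ∨ wt (d + c j) = 12 ∨ wt (d + c j) = 16 ∨ wt (d + c j) = 24 :=
    fun j => wt_cases _
  have h4 := hadd 4
  rw [hdc4, Finset.card_empty] at h4
  have h4' := hcas 4
  have hwd : wt d = (sup d).card := rfl
  rcases wt_cases d with h0 | h8 | h12' | h16 | h24
  · left
    rw [← Finset.card_eq_zero]
    exact h0
  · exfalso
    have hcard := S.card_eq hdT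
    rw [hdc4, Finset.card_empty, ← hwd, h8] at hcard
    -- the sizes of the intersections
    have hsm : ∀ A B : Finset GolayPt, π • A = B → (sup d ∩ A).card = (sup d ∩ B).card := by
      intro A B hAB
      have h1 : π • (sup d ∩ A) = sup d ∩ B := by
        rw [Finset.smul_finset_inter, hinvs _ (Or.inl rfl), hAB]
      rw [← h1, Finset.card_smul_finset]
    have e1 := hsm _ _ h01
    have e2 := hsm _ _ h12
    have k0 := hadd 0
    have k3 := hadd 3
    have m0 := hcas 0
    have m3 := hcas 3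
    rw [h8] at k0 k3
    have h33' : (sup d ∩ sup (c 3)).card = 2 ∨ (sup d ∩ sup (c 3)).card = 8 := by omega
    rcases h33' with h33' | h33'
    · -- `π` fixes `c 3` pointwise
      obtain ⟨B, hB⟩ : ∃ B, B = (sup (c 3) \ T) \ (sup d ∩ sup (c 3)) := ⟨_, rfl⟩
      have hTsm : ∀ x, (π : Equiv.Perm GolayPt) x ∈ T → x ∈ T := by
        intro x hx
        have h1 := hT _ hx
        rw [← (π : Equiv.Perm GolayPt).injective h1]
        exact hx
      have hc3 : ∀ x, (π : Equiv.Perm GolayPt) x ∈ sup (c 3) ↔ x ∈ sup (c 3) := by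
        intro x
        conv_lhs => rw [← h33]
        rw [Finset.mem_smul_finset]
        constructor
        · rintro ⟨w, hw, hwx⟩
          rw [← (π : Equiv.Perm GolayPt).injective hwx]
          exact hw
        · intro hx
          exact ⟨x, hx, rfl⟩
      have hf1 := fix_two h3 h33' (by
        intro x hx
        rw [Finset.mem_inter] at hx ⊢
        exact ⟨(hinv x).2 hx.1, (hc3 x).2 hx.2⟩)
      have hBc : B.card = 2 := by
        have h1 : (sup d ∩ sup (c 3)) ⊆ sup (c 3) \ T := by
          intro x hx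
          rw [Finset.mem_inter] at hx
          rw [Finset.mem_sdiff]
          refine ⟨hx.2, fun hxT => ?_⟩
          have h2 : x ∈ sup d ∩ T := Finset.mem_inter.2 ⟨hx.1, hxT⟩
          rw [hdT] at h2
          exact Finset.notMem_empty _ h2
        have h5 : (sup (c 3)).card = 8 := S.wt 3
        rw [hB, Finset.card_sdiff_of_subset h1, Finset.card_sdiff_of_subset (S.sub 3), h5, S.card, h33']
      have hf2 := fix_two h3 hBc (by
        intro x hx
        rw [hB, Finset.mem_sdiff, Finset.mem_sdiff, Finset.mem_inter] at hx ⊢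
        refine ⟨⟨(hc3 x).2 hx.1.1, fun h1 => hx.1.2 (hTsm x h1)⟩, fun h1 => hx.2 ⟨(hinv x).1 h1.1, hx.1.1⟩⟩)
      have h1 : (π : Equiv.Perm GolayPt) = 1 := by
        apply Cfsg.Agent.SigZeroCo2.M24Fix.eq_one_of_fix_seven π.2 h3 (s := sup (c 3))
        · have h5 : (sup (c 3)).card = 8 := S.wt 3
          omega
        · intro x hx
          by_cases hxT : x ∈ T
          · exact hT x hxT
          by_cases hxd : x ∈ sup d
          · exact hf1 x (Finset.mem_inter.2 ⟨hxd, hx⟩)
          · apply hf2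
            rw [hB, Finset.mem_sdiff, Finset.mem_sdiff]
            exact ⟨⟨hx, hxT⟩, fun h => hxd (Finset.mem_inter.1 h).1⟩
      have h2 : π = 1 := Subtype.ext h1
      rw [h2, one_smul] at h01
      have h5 := S.inter 0 1 (by decide)
      rw [← h01, Finset.inter_self] at h5
      have h6 := S.wt 0
      unfold SignFacts.wt at h6
      rw [h5, S.card] at h6
      omega
    · -- then `sup d = sup (c 3)`
      have h5 : sup d ∩ sup (c 3) = sup (c 3) := by
        apply Finset.eq_of_subset_of_card_le Finset.inter_subset_right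
        rw [h33']
        exact (S.wt 3).le
      obtain ⟨t₀, ht₀⟩ : T.Nonempty := by
        rw [← Finset.card_pos, S.card]; norm_num
      have h6 : t₀ ∈ sup d ∩ sup (c 3) := by
        rw [h5]
        exact S.sub 3 ht₀
      have h7 : t₀ ∈ sup d ∩ T := Finset.mem_inter.2 ⟨(Finset.mem_inter.1 h6).1, ht₀⟩
      rw [hdT] at h7
      exact Finset.notMem_empty _ h7
  · exfalso
    omega
  · right
    apply Finset.eq_of_subset_of_card_le hsub
    rw [hc16]
    exact h16.ge
  · exfalso
    have := Finset.card_le_card hsub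
    omega

/-- **inner products** -/
theorem dot_of_word {A : Finset GolayPt} {y y' : leechLattice} (hA : On A y) (hA' : On A y')
    {z z' : GolayPt → ℤ} {d d' : golayCode} (hz : ∀ i, (y : GolayPt → ℤ) i = 2 * z i) (hd : ∀ i, i ∈ sup d ↔ z i % 2 = 1)
    (hs : (∑ i, z i) % 4 = 0) (hz' : ∀ i, (y' : GolayPt → ℤ) i = 2 * z' i) (hd' : ∀ i, i ∈ sup d' ↔ z' i % 2 = 1)
    (hs' : (∑ i, z' i) % 4 = 0) (h : sup d = ∅ ∨ sup d = A) (h' : sup d' = ∅ ∨ sup d' = A) :
    (16 : ℤ) ∣ dotInt (y : GolayPt → ℤ) (y' : GolayPt → ℤ) := by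
  have hdot : dotInt (y : GolayPt → ℤ) (y' : GolayPt → ℤ) = 4 * ∑ i, z i * z' i := by
    unfold dotInt
    rw [Finset.mul_sum]
    refine Finset.sum_congr rfl fun i _ => ?_
    rw [hz, hz']
    ring
  -- one of the words is zero
  have key : ∀ (w w' : GolayPt → ℤ), (∀ i, w i % 2 = 0) → (∑ i, w i) % 4 = 0 → (∀ i, i ∉ A → w i = 0) →
      ((∀ i, w' i % 2 = 0) ∨ (∀ i ∈ A, w' i % 2 = 1)) → (4 : ℤ) ∣ ∑ i, w i * w' i := by
    intro w w' h1 h2 h3 h4
    have h5 : ∑ i, w i * w' i = 2 * ∑ i, w i / 2 * w' i := by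
      rw [Finset.mul_sum]
      refine Finset.sum_congr rfl fun i _ => ?_
      have h6 : w i = 2 * (w i / 2) := by have := h1 i; omega
      rw [← mul_assoc, ← h6]
    have h7 : (2 : ℤ) ∣ ∑ i, w i / 2 * w' i := by
      rcases h4 with h4 | h4
      · apply Finset.dvd_sum
        intro i _
        exact Dvd.dvd.mul_left (Int.dvd_of_emod_eq_zero (h4 i)) _
      · have h8 : (2 : ℤ) ∣ ∑ i, (w i / 2 * w' i - w i / 2) := by
          apply Finset.dvd_sum
          intro i _
          by_cases hi : i ∈ A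
          · have h9 := h4 i hi
            rw [show w i / 2 * w' i - w i / 2 = w i / 2 * (w' i - 1) by ring]
            exact Dvd.dvd.mul_left (by omega) _
          · rw [h3 i hi]
            simp
        rw [Finset.sum_sub_distrib] at h8
        have h10 : ∑ i, w i = 2 * ∑ i, w i / 2 := by
          rw [Finset.mul_sum]
          refine Finset.sum_congr rfl fun i _ => ?_
          have := h1 i
          omega
        omega
    rw [h5]
    obtain ⟨k, hk⟩ := h7
    exact ⟨k, by rw [hk]; ring⟩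
  have hzA : ∀ i, i ∉ A → z i = 0 := by
    intro i hi
    have := hA i hi
    rw [hz] at this
    omega
  have hzA' : ∀ i, i ∉ A → z' i = 0 := by
    intro i hi
    have := hA' i hi
    rw [hz'] at this
    omega
  rcases h with h | h
  · have h1 : ∀ i, z i % 2 = 0 := by
      intro i
      have h2 : i ∉ sup d := by rw [h]; exact Finset.notMem_empty i
      rw [hd] at h2
      omega
    have h2 : (∀ i, z' i % 2 = 0) ∨ (∀ i ∈ A, z' i % 2 = 1) := by
      rcases h' with h' | h'
      · left
        intro i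
        have h2 : i ∉ sup d' := by rw [h']; exact Finset.notMem_empty i
        rw [hd'] at h2
        omega
      · right
        intro i hi
        rw [← hd', h']
        exact hi
    rw [hdot]
    obtain ⟨k, hk⟩ := key z z' h1 hs hzA h2
    exact ⟨k, by rw [hk]; ring⟩
  rcases h' with h' | h'
  · have h1 : ∀ i, z' i % 2 = 0 := by
      intro i
      have h2 : i ∉ sup d' := by rw [h']; exact Finset.notMem_empty i
      rw [hd'] at h2
      omega
    rw [hdot]
    obtain ⟨k, hk⟩ := key z' z h1 hs' hzA' (Or.inr fun i hi => by rw [← hd, h]; exact hi)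
    refine ⟨k, ?_⟩
    have h2 : ∑ i, z i * z' i = ∑ i, z' i * z i := Finset.sum_congr rfl fun i _ => mul_comm _ _
    rw [h2, hk]
    ring
  · -- both words are `A`
    have h1 : ∀ i, (z i - z' i) % 2 = 0 := by
      intro i
      by_cases hi : i ∈ A
      · have h2 := (hd i).1 (by rw [h]; exact hi)
        have h3 := (hd' i).1 (by rw [h']; exact hi)
        omega
      · rw [hzA i hi, hzA' i hi]
        norm_num
    obtain ⟨k, hk⟩ := key (fun i => z i - z' i) z' h1 (by
      rw [Finset.sum_sub_distrib]; omega) (fun i hi => by show z i - z' i = 0; rw [hzA i hi, hzA' i hi]; norm_num)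
      (Or.inr fun i hi => by rw [← hd', h']; exact hi)
    obtain ⟨l, hl⟩ := Cfsg.Agent.MonsterU.Lam2.dvd_norm y'
    have h2 : sqNorm (y' : GolayPt → ℤ) = 4 * ∑ i, z' i * z' i := by
      unfold sqNorm
      rw [Finset.mul_sum]
      refine Finset.sum_congr rfl fun i _ => ?_
      rw [hz']
      ring
    have h3 : ∑ i, z i * z' i = ∑ i, (z i - z' i) * z' i + ∑ i, z' i * z' i := by
      rw [← Finset.sum_add_distrib]
      refine Finset.sum_congr rfl fun i _ => ?_
      ring
    have hk' : ∑ i, (z i - z' i) * z' i = 4 * k := hk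
    rw [hdot, h3, mul_add, hk', ← h2, hl]
    exact ⟨k + l, by ring⟩

/-- **fixed vectors off `c 4`** -/
theorem Three.dvd_dot (S : Sx c T) {κ : Co0} (K : Three c T κ) {y y' : leechLattice} (hy : κ • y = y) (hy' : κ • y' = y')
    (hs : On (sup (c 4))ᶜ y) (hs' : On (sup (c 4))ᶜ y') :
    (16 : ℤ) ∣ dotInt (y : GolayPt → ℤ) (y' : GolayPt → ℤ) := by
  obtain ⟨i₀, hi₀⟩ : (sup (c 4)).Nonempty := by
    have h5 : (sup (c 4)).card = 8 := S.wt 4
    rw [← Finset.card_pos, h5]; norm_num
  have h1 : ∀ i ∈ sup (c 4), (y : GolayPt → ℤ) i = 0 := fun i hi => hs i (by rw [Finset.mem_compl, not_not]; exact hi)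
  have h1' : ∀ i ∈ sup (c 4), (y' : GolayPt → ℤ) i = 0 := fun i hi => hs' i (by rw [Finset.mem_compl, not_not]; exact hi)
  obtain ⟨z, d, hz, hd, hsz⟩ := even_word (h1 i₀ hi₀)
  obtain ⟨z', d', hz', hd', hsz'⟩ := even_word (h1' i₀ hi₀)
  exact dot_of_word hs hs' hz hd hsz hz' hd' hsz' (K.word S hy h1 hz hd) (K.word S hy' h1' hz' hd')

/-- **vectors supported on an octad** -/
theorem dvd_dot_octad {a : golayCode} (ha : wt a = 8) {y y' : leechLattice} (hs : On (sup a) y) (hs' : On (sup a) y') :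
    (16 : ℤ) ∣ dotInt (y : GolayPt → ℤ) (y' : GolayPt → ℤ) := by
  obtain ⟨i₀, hi₀⟩ : ∃ i₀, i₀ ∉ sup a := by
    by_contra hcon
    push Not at hcon
    have h1 : (Finset.univ : Finset GolayPt).card ≤ (sup a).card := Finset.card_le_card fun i _ => hcon i
    rw [Finset.card_univ, Cfsg.Agent.Leech.Code.card_golayPt] at h1
    unfold wt at ha
    omega
  have hw : ∀ {y : leechLattice} {z : GolayPt → ℤ} {d : golayCode}, On (sup a) y →
      (∀ i, (y : GolayPt → ℤ) i = 2 * z i) → (∀ i, i ∈ sup d ↔ z i % 2 = 1) → sup d = ∅ ∨ sup d = sup a := by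
    intro y z d hs hz hd
    have hsub : sup d ⊆ sup a := by
      intro i hi
      by_contra h1
      have h2 := hs i h1
      rw [hz] at h2
      rw [hd] at hi
      omega
    have h2 := Finset.card_le_card hsub
    have h3 := wt_cases d
    unfold wt at h3 ha
    rcases h3 with h3 | h3 | h3
    · exact Or.inl (Finset.card_eq_zero.1 h3)
    · exact Or.inr (Finset.eq_of_subset_of_card_le hsub (by omega))
    · omega
  obtain ⟨z, d, hz, hd, hsz⟩ := even_word (hs i₀ hi₀)
  obtain ⟨z', d', hz', hd', hsz'⟩ := even_word (hs' i₀ hi₀)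
  exact dot_of_word hs hs' hz hd hsz hz' hd' hsz' (hw hs hz hd) (hw hs' hz' hd')

end Cfsg.Agent.H109.EOne
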