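import Cfsg.Agent.H109.EOneD

/-!
# The form on the fixed space (helper109, S2198 E1)

* `bf_zero` : a vector fixed by the octad involution `g = c 4`, whose product with the fixed vectors is invariant under `κ`,
  is orthogonal to the fixed vectors;
* `exists_add` : hence it is of the form `v + g v`.
-/

set_option autoImplicit false

namespace Cfsg.Agent.H109.EOne

open Cfsg Cfsg.Agent.SporadicA Cfsg.Agent.CoOneType
open Cfsg.Agent.SporadicA.Co0Mono Cfsg.Agent.SporadicA.Co1Simple Cfsg.Agent.CoOneType.SignFacts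
open Cfsg.Agent.SporadicStructure.Co0Base (e8 e8_coe)
open Cfsg.Agent.MonsterU.Lam2 (L2 cl cl_eq IsType bf bf_add_left bf_add_right bf_smul bf_cl_eq_zero bf_comm bf_nondeg
  cl_surjective)
open Cfsg.Agent.H820.Par

variable {c : Fin 5 → golayCode} {T : Finset GolayPt}

theorem cl_smul (g : Co0) (v : leechLattice) : g • cl v = cl (g • v) := rfl

theorem zmod_three (a : ZMod 2) : a + a + a = a := by
  revert a; decide

theorem cube (κ : Co0) {X : Type*} [MulAction Co0 X] (h : κ ^ 3 = 1) (x : X) : κ • κ • κ • x = x := by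
  rw [← mul_smul, ← mul_smul, show κ * κ * κ = κ ^ 3 by rw [pow_succ, pow_two], h, one_smul]

/-- the form vanishes -/
theorem Three.bf_zero (S : Sx c T) {κ : Co0} (K : Three c T κ) (h44 : κ * signCo0 (c 4) = signCo0 (c 4) * κ) {w : L2}
    (hw : signCo0 (c 4) • w = w) (hinv : ∀ v : L2, signCo0 (c 4) • v = v → bf (κ • v) w = bf v w) :
    ∀ v : L2, signCo0 (c 4) • v = v → bf v w = 0 := by
  intro v hv
  obtain ⟨g, hg⟩ : ∃ g, g = signCo0 (c 4) := ⟨_, rfl⟩
  rw [← hg] at h44 hw hinv hv
  have hgk : ∀ v : L2, g • v = v → g • κ • v = κ • v := by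
    intro v hv
    rw [← mul_smul, ← h44, mul_smul, hv]
  have h1 := hinv v hv
  have h2 := hinv (κ • v) (hgk v hv)
  rw [h1] at h2
  obtain ⟨x, rfl⟩ := cl_surjective v
  obtain ⟨x', rfl⟩ := cl_surjective w
  obtain ⟨y, hy⟩ : ∃ y : leechLattice, y = x + κ • x + κ • κ • x := ⟨_, rfl⟩
  obtain ⟨y', hy'⟩ : ∃ y' : leechLattice, y' = x' + κ • x' + κ • κ • x' := ⟨_, rfl⟩
  have hκ : ∀ x : leechLattice, κ • (x + κ • x + κ • κ • x) = x + κ • x + κ • κ • x := by
    intro x
    rw [Co0Mono.smul_add, Co0Mono.smul_add, cube κ K.pow]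
    abel
  have hκy : κ • y = y := by rw [hy]; exact hκ x
  have hκy' : κ • y' = y' := by rw [hy']; exact hκ x'
  -- the form of the norms
  have h3 : bf (cl y) (cl x') = bf (cl x) (cl x') := by
    rw [hy, map_add, map_add, bf_add_left, bf_add_left, ← cl_smul, ← cl_smul, ← cl_smul, h2, h1]
    exact zmod_three _
  have h4 : ∀ u : L2, bf (cl y) (κ • u) = bf (cl y) u := by
    intro u
    conv_lhs => rw [← hκy, ← cl_smul]
    exact bf_smul κ _ _
  have h5 : bf (cl y) (cl y') = bf (cl x) (cl x') := by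
    rw [hy', map_add, map_add, bf_add_right, bf_add_right, ← cl_smul, ← cl_smul, ← cl_smul, h4, h4, h4, h3]
    exact zmod_three _
  rw [← h5]
  -- the fixed part
  have hfix : ∀ x : leechLattice, g • cl x = cl x → g • cl (x + κ • x + κ • κ • x) = cl (x + κ • x + κ • κ • x) := by
    intro x hx
    rw [map_add, map_add, ← cl_smul, ← cl_smul, ← cl_smul, _root_.smul_add, _root_.smul_add, hx, hgk _ hx,
      hgk _ (hgk _ hx)]
  have hgy : g • cl y = cl y := by rw [hy]; exact hfix x hv
  have hgy' : g • cl y' = cl y' := by rw [hy']; exact hfix x' hw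
  -- decomposition
  have hdec : ∀ y : leechLattice, κ • y = y → g • cl y = cl y → ∃ u : leechLattice, κ • u = u ∧ On (sup (c 4)) u ∧
      On (sup (c 4))ᶜ (y - u) := by
    intro y h6 h7
    rw [cl_smul, eq_comm, cl_eq] at h7
    obtain ⟨u, hu⟩ := h7
    have hco : ∀ i, (y : GolayPt → ℤ) i - sgn ((c 4 : GolayPt → ZMod 2) i) * (y : GolayPt → ℤ) i =
        2 * (u : GolayPt → ℤ) i := by
      intro i
      have h8 := congrArg (fun v : leechLattice => (v : GolayPt → ℤ) i) hu
      have h9 : ((y - g • y : leechLattice) : GolayPt → ℤ) i =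
          (y : GolayPt → ℤ) i - ((g • y : leechLattice) : GolayPt → ℤ) i := rfl
      have h10 : ((2 • u : leechLattice) : GolayPt → ℤ) i = (2 : ℕ) • (u : GolayPt → ℤ) i := rfl
      simp only [h9, h10] at h8
      rw [hg, signCo0_smul, signMap_apply, nsmul_eq_mul] at h8
      push_cast at h8
      exact h8
    refine ⟨u, ?_, ?_, ?_⟩
    · apply two_inj
      rw [← smul_nsmul, ← hu, Co0Mono.smul_sub, ← mul_smul, h44, mul_smul, h6]
    · intro i hi
      have h8 := hco i
      rw [(notMem_sup _ i).1 hi, sgn_zero] at h8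
      omega
    · intro i hi
      rw [Finset.mem_compl, not_not] at hi
      have h8 := hco i
      rw [(mem_sup _ i).1 hi, sgn_one] at h8
      show (y : GolayPt → ℤ) i - (u : GolayPt → ℤ) i = 0
      omega
  obtain ⟨u, hu1, hu2, hu3⟩ := hdec y hκy hgy
  obtain ⟨u', hu1', hu2', hu3'⟩ := hdec y' hκy' hgy'
  rw [bf_cl_eq_zero]
  have h6 : dotInt (y : GolayPt → ℤ) (y' : GolayPt → ℤ) =
      dotInt ((y - u : leechLattice) : GolayPt → ℤ) ((y' - u' : leechLattice) : GolayPt → ℤ) +
        dotInt (u : GolayPt → ℤ) (u' : GolayPt → ℤ) := by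
    unfold dotInt
    rw [← Finset.sum_add_distrib]
    refine Finset.sum_congr rfl fun i _ => ?_
    have e1 : ((y - u : leechLattice) : GolayPt → ℤ) i = (y : GolayPt → ℤ) i - (u : GolayPt → ℤ) i := rfl
    have e2 : ((y' - u' : leechLattice) : GolayPt → ℤ) i = (y' : GolayPt → ℤ) i - (u' : GolayPt → ℤ) i := rfl
    by_cases hi : i ∈ sup (c 4)
    · have h8 := hu3 i (by rw [Finset.mem_compl, not_not]; exact hi)
      have h9 := hu3' i (by rw [Finset.mem_compl, not_not]; exact hi)
      rw [h8]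
      rw [e1] at h8
      rw [e2] at h9
      rw [show (y : GolayPt → ℤ) i = (u : GolayPt → ℤ) i by omega, show (y' : GolayPt → ℤ) i = (u' : GolayPt → ℤ) i by omega]
      ring
    · rw [e1, e2, hu2 i hi, hu2' i hi]
      ring
  rw [h6]
  refine dvd_add (K.dvd_dot S ?_ ?_ hu3 hu3') (dvd_dot_octad (S.wt 4) hu2 hu2')
  · rw [Co0Mono.smul_sub, hκy, hu1]
  · rw [Co0Mono.smul_sub, hκy', hu1']

/-! ### the orthogonal space of the fixed vectors -/

open Module

/-- the functionals on `Λ / 2Λ` -/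
theorem exists_bf (f : L2 →ₗ[ZMod 2] ZMod 2) : ∃ v : L2, ∀ u, f u = bf u v := by
  let B0 : L2 →+ (L2 →ₗ[ZMod 2] ZMod 2) :=
    { toFun := fun v => AddMonoidHom.toZModLinearMap 2
        (AddMonoidHom.mk' (fun u => bf u v) fun a b => bf_add_left a b v)
      map_zero' := by
        ext u
        exact MonsterU.Lam2.bf_zero_right u
      map_add' := by
        intro a b
        ext u
        exact bf_add_right u a b }
  let B : L2 →ₗ[ZMod 2] Dual (ZMod 2) L2 := AddMonoidHom.toZModLinearMap 2 B0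
  have hB : ∀ v u, B v u = bf u v := fun _ _ => rfl
  have hinj : Function.Injective B := by
    rw [injective_iff_map_eq_zero]
    intro v hv
    apply bf_nondeg
    intro u
    rw [bf_comm, ← hB, hv]
    rfl
  have hsurj := (LinearMap.injective_iff_surjective_of_finrank_eq_finrank
    (Subspace.dual_finrank_eq (K := ZMod 2) (V := L2)).symm).1 hinj
  obtain ⟨v, hv⟩ := hsurj f
  exact ⟨v, fun u => by rw [← hv]; rfl⟩

theorem exists_add {g : Co0} (hg : g * g = 1) {w : L2} (h : ∀ v : L2, g • v = v → bf v w = 0) :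
    ∃ v : L2, w = v + g • v := by
  let A : L2 →ₗ[ZMod 2] L2 := AddMonoidHom.toZModLinearMap 2
    (AddMonoidHom.mk' (fun v => v + g • v) fun a b => by rw [_root_.smul_add]; abel)
  have hA : ∀ v, A v = v + g • v := fun _ => rfl
  let f : Dual (ZMod 2) L2 := AddMonoidHom.toZModLinearMap 2
    (AddMonoidHom.mk' (fun u => bf u w) fun a b => bf_add_left a b w)
  have hf : ∀ u, f u = bf u w := fun _ => rfl
  have h1 : f ∈ LinearMap.range A.dualMap := by
    rw [LinearMap.range_dualMap_eq_dualAnnihilator_ker, Submodule.mem_dualAnnihilator]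
    intro v hv
    rw [hf]
    apply h
    rw [LinearMap.mem_ker, hA] at hv
    exact (MonsterU.Lam2.eq_of_add_eq_zero hv).symm
  obtain ⟨ψ, hψ⟩ := h1
  obtain ⟨v, hv⟩ := exists_bf ψ
  refine ⟨v, ?_⟩
  apply MonsterU.Lam2.eq_of_add_eq_zero
  apply bf_nondeg
  intro u
  have h2 : bf u w = bf (u + g • u) v := by
    rw [← hf, ← hψ, ← hv, ← hA]
    rfl
  have h3 : bf (g • u) v = bf u (g • v) := by
    conv_rhs => rw [← bf_smul g, ← mul_smul, hg, one_smul]
  rw [bf_comm, bf_add_right, bf_add_right, h2, bf_add_left, h3]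
  generalize bf u v = p
  generalize bf u (g • v) = q
  revert p q
  decide

end Cfsg.Agent.H109.EOne
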