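import Cfsg.Agent.H109.EOneE

/-!
# The case E1 (helper109, S2198)

`eOne : OctLiftStmt → EOneStmt`.
-/

set_option autoImplicit false

namespace Cfsg.Agent.H109.EOne

open Cfsg Cfsg.Agent.SporadicA Cfsg.Agent.CoOneType
open Cfsg.Agent.SporadicA.Co0Mono (signCo0 signCo0_mul_self signCo0_zero)
open Cfsg.Agent.SporadicA.Co1Simple (allOne allOne_smul sqNorm_e8)
open Cfsg.Agent.CoOneType.SignFacts (sup wt wt_add_allOne)
open Cfsg.Agent.CoOneType.ClosingFacts (mk_mul mk_inv exists_mk mk_eq_one mk_eq)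
open Cfsg.Agent.SporadicStructure.Co0Base (e8 e8_coe)
open Cfsg.Agent.MonsterU.Lam2 (L2 cl bf bf_add_left bf_add_right bf_smul bf_comm add_self)
open Cfsg.Agent.MonsterU.Ch (Chart)
open Cfsg.Agent.H820.Par
open Cfsg.Spor (Co1)
open Cfsg.Agent.BpSpor.MBigModel (MG zz pi)
open Subgroup (centralizer mem_centralizer_singleton_iff)

/-- the projection `Co0 → Co1` -/
local notation "mk0" => Cfsg.Agent.CoOneType.ClosingFacts.mk

/-! ### the end of the proof in a chart -/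

theorem zmod_eq {a b : ZMod 2} (h : a = 0 ↔ b = 0) : a = b := by
  revert a b; decide

/-- If only `0` on the fixed vectors is `κ`-invariant, then `u` or `u z` is conjugate to the standard lift `x0`. -/
theorem chart_end {G : Type*} [Group G] {Q : Subgroup G} {z : G} {eta : G → L2}
    {pi : centralizer ({z} : Set G) →* Co1} (h : Chart Q z eta pi) {g κ : Co0} (hg2 : g * g = 1) (hκ : κ * g = g * κ)
    {u k x0 : centralizer ({z} : Set G)} (hu : pi u = mk0 g) (hx : pi x0 = mk0 g) (hx2 : x0 * x0 = 1)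
    (hcomm : ∀ q ∈ Q, g • eta q = eta q → (x0 : G) * q = q * x0) (hu2 : (u : G) * u = 1) (hk : pi k = mk0 κ)
    (hku : (k : G) * u * (k : G)⁻¹ = u)
    (H : ∀ w : L2, g • w = w → (∀ v : L2, g • v = v → bf (κ • v) w = bf v w) → ∀ v : L2, g • v = v → bf v w = 0) :
    ∃ q : G, q * x0 * q⁻¹ = u ∨ q * x0 * q⁻¹ = u * z := by
  have hx2' : (x0 : G) * x0 = 1 := congrArg Subtype.val hx2
  have hxi : (x0 : G)⁻¹ = x0 := inv_eq_of_mul_eq_one_left hx2'
  obtain ⟨q0, hq0⟩ : ∃ q0 : G, q0 = (x0 : G)⁻¹ * u := ⟨_, rfl⟩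
  have hq0Q : q0 ∈ Q := by
    rw [hq0]
    exact h.pi_eq.1 (hx.trans hu.symm)
  have hu' : (u : G) = x0 * q0 := by rw [hq0]; group
  obtain ⟨w, hw⟩ : ∃ w, w = eta q0 := ⟨_, rfl⟩
  have hact : ∀ (x : centralizer ({z} : Set G)) (a : Co0), pi x = mk0 a → ∀ q ∈ Q, eta ((x : G) * q * (x : G)⁻¹) = a • eta q := by
    intro x a hxa q hq
    rw [h.eta_conj x q hq, hxa]
    rfl
  have hgw : g • w = w := by
    have h1 : (x0 : G) * q0 * (x0 : G)⁻¹ = q0⁻¹ := by
      rw [hxi, eq_inv_iff_mul_eq_one]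
      calc (x0 : G) * q0 * x0 * q0 = (x0 * q0) * (x0 * q0) := by group
        _ = 1 := by rw [← hu', hu2]
    have h2 := hact x0 g hx q0 hq0Q
    rw [h1, h.eta_inv hq0Q, ← hw] at h2
    exact h2.symm
  have hx0q0 : (x0 : G) * q0 = q0 * x0 := hcomm q0 hq0Q (by rw [← hw]; exact hgw)
  -- the functional
  have hfun : ∀ q ∈ Q, g • eta q = eta q → (bf (eta q) w = 0 ↔ q * (u : G) = u * q) := by
    intro q hq hgq
    rw [hw, ← h.comm_iff hq hq0Q, hu']
    have h1 := hcomm q hq hgq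
    constructor
    · intro h2
      calc q * (x0 * q0) = (q * x0) * q0 := by group
        _ = x0 * (q * q0) := by rw [← h1]; group
        _ = x0 * q0 * q := by rw [h2]; group
    · intro h2
      have h3 : (x0 : G) * (q * q0) = x0 * (q0 * q) := by
        calc (x0 : G) * (q * q0) = (x0 * q) * q0 := by group
          _ = q * (x0 * q0) := by rw [h1]; group
          _ = x0 * (q0 * q) := by rw [h2]; group
      exact mul_left_cancel h3
  have hinv : ∀ v : L2, g • v = v → bf (κ • v) w = bf v w := by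
    intro v hv
    obtain ⟨q, hq, rfl⟩ := h.eta_surj v
    have hq' : (k : G) * q * (k : G)⁻¹ ∈ Q := h.large.conj_mem _ (mem_centralizer_singleton_iff.1 k.2) q hq
    have he : eta ((k : G) * q * (k : G)⁻¹) = κ • eta q := hact k κ hk q hq
    rw [← he]
    apply zmod_eq
    rw [hfun _ hq' (by rw [he, ← mul_smul, ← hκ, mul_smul, hv]), hfun q hq hv]
    constructor
    · intro h1
      have h2 : (k : G) * (q * u) * (k : G)⁻¹ = k * (u * q) * (k : G)⁻¹ := by
        calc (k : G) * (q * u) * (k : G)⁻¹ = (k * q * (k : G)⁻¹) * (k * u * (k : G)⁻¹) := by group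
          _ = (k * u * (k : G)⁻¹) * (k * q * (k : G)⁻¹) := by rw [hku, h1]
          _ = _ := by group
      exact mul_left_cancel (mul_right_cancel h2)
    · intro h1
      calc (k : G) * q * (k : G)⁻¹ * u = (k * q * (k : G)⁻¹) * (k * u * (k : G)⁻¹) := by rw [hku]
        _ = k * (q * u) * (k : G)⁻¹ := by group
        _ = k * (u * q) * (k : G)⁻¹ := by rw [h1]
        _ = (k * u * (k : G)⁻¹) * (k * q * (k : G)⁻¹) := by group
        _ = _ := by rw [hku]
  obtain ⟨v, hv⟩ := exists_add hg2 (H w hgw hinv)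
  obtain ⟨q, hq, rfl⟩ := h.eta_surj v
  refine ⟨q, ?_⟩
  have h1 : (x0 : G) * q⁻¹ * (x0 : G)⁻¹ ∈ Q :=
    h.large.conj_mem _ (mem_centralizer_singleton_iff.1 x0.2) _ (Q.inv_mem hq)
  have h2 : eta (q * ((x0 : G) * q⁻¹ * (x0 : G)⁻¹)) = eta q0 := by
    rw [h.eta_mul _ hq _ h1, hact x0 g hx _ (Q.inv_mem hq), h.eta_inv hq, ← hv, hw]
  have h3 : q * x0 * q⁻¹ = (q * ((x0 : G) * q⁻¹ * (x0 : G)⁻¹)) * x0 := by group
  rcases (h.eta_eq (Q.mul_mem hq h1) hq0Q).1 h2 with h4 | h4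
  · left
    rw [h3, h4, hu', hx0q0]
  · right
    have h5 : z * (x0 : G) = x0 * z := (mem_centralizer_singleton_iff.1 x0.2).symm
    rw [h3, h4, hu', mul_assoc, h5, ← mul_assoc, hx0q0]

/-! ### elements of order 5 -/

/-- a lift of an element of order 5 -/
theorem exists_lift_five {s : Co1} (hs : s ^ 5 = 1) : ∃ γ : Co0, mk0 γ = s ∧ γ ^ 5 = 1 := by
  obtain ⟨t, rfl⟩ := exists_mk s
  have h1 : mk0 (t ^ 5) = 1 := by
    rw [← hs]; rfl
  rcases (mk_eq_one _).1 h1 with h2 | h2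
  · exact ⟨t, rfl, h2⟩
  · refine ⟨signCo0 allOne * t, ?_, ?_⟩
    · rw [mk_mul, (mk_eq_one (signCo0 allOne)).2 (Or.inr rfl), one_mul]
    · have hc : Commute (signCo0 allOne) t := n_comm t
      have h3 : signCo0 allOne ^ 5 = signCo0 allOne := by
        rw [show (5 : ℕ) = 2 * 2 + 1 from rfl, pow_succ, pow_mul, pow_two (signCo0 allOne), signCo0_mul_self,
          one_pow, one_mul]
      rw [hc.mul_pow, h2, h3, signCo0_mul_self]

/-- the vectors supported on `T` -/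
theorem on_iff {c : Fin 5 → golayCode} {T : Finset GolayPt} (S : Sx c T) (y : leechLattice) :
    On T y ↔ ∀ i, signCo0 (c i) • y = -y := by
  constructor
  · intro h i
    apply Subtype.ext
    funext j
    show ((signCo0 (c i) • y : leechLattice) : GolayPt → ℤ) j = -(y : GolayPt → ℤ) j
    rw [Co0Mono.signCo0_smul, Co0Mono.signMap_apply]
    by_cases hj : j ∈ T
    · rw [(SignFacts.mem_sup _ j).1 (S.sub i hj), Co0Mono.sgn_one]; ring
    · rw [h j hj]; ring
  · intro h j hj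
    have h1 : ∃ i, j ∉ sup (c i) := by
      by_contra hcon
      push Not at hcon
      apply hj
      rw [← S.inter 0 1 (by decide)]
      exact Finset.mem_inter.2 ⟨hcon 0, hcon 1⟩
    obtain ⟨i, hi⟩ := h1
    have h2 := congrArg (fun v : leechLattice => (v : GolayPt → ℤ) j) (h i)
    have h3 : ((-y : leechLattice) : GolayPt → ℤ) j = -(y : GolayPt → ℤ) j := rfl
    simp only [h3] at h2
    rw [Co0Mono.signCo0_smul, Co0Mono.signMap_apply, (SignFacts.notMem_sup _ j).1 hi, Co0Mono.sgn_zero] at h2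
    omega

/-! ### the permutations -/

/-- a 5-cycle -/
def s1 : Equiv.Perm (Fin 5) := ⟨![2, 0, 3, 4, 1], ![1, 4, 0, 2, 3], by decide, by decide⟩

/-- a 5-cycle -/
def s2 : Equiv.Perm (Fin 5) := ⟨![4, 0, 1, 2, 3], ![1, 2, 3, 4, 0], by decide, by decide⟩

/-- 5-cycles as elements of the alternating group -/
def a1 : alternatingGroup (Fin 5) := ⟨s1, by rw [Equiv.Perm.mem_alternatingGroup]; decide⟩

/-- 5-cycles as elements of the alternating group -/
def a2 : alternatingGroup (Fin 5) := ⟨s2, by rw [Equiv.Perm.mem_alternatingGroup]; decide⟩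

theorem a1_pow : a1 ^ 5 = 1 := by
  apply Subtype.ext
  show s1 ^ 5 = 1
  decide

theorem a2_pow : a2 ^ 5 = 1 := by
  apply Subtype.ext
  show s2 ^ 5 = 1
  decide

theorem a12 : ∀ i : Fin 5, ((a1 * a2 : alternatingGroup (Fin 5)) : Equiv.Perm (Fin 5)) i = (![1, 2, 0, 3, 4] : Fin 5 → Fin 5) i := by
  intro i
  show s1 (s2 i) = _
  revert i
  decide

theorem a12_pow : (a1 * a2) ^ 3 = 1 := by
  apply Subtype.ext
  show (s1 * s2) ^ 3 = 1
  decide

theorem u_four {G : Type*} [Group G] {z : G} (C : JC z) : C.u 4 = C.e 0 1 * C.e 2 3 := rfl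

theorem e_eq {G : Type*} [Group G] {z : G} (C : JC z) : C.e 1 2 * C.e 0 3 = C.e 0 1 * C.e 2 3 := by
  have h1 : C.e 0 1 * C.e 2 0 = C.e 1 2 := by
    rw [C.e_swap (show (1 : Fin 5) ≠ 0 by decide), C.e_swap (show (0 : Fin 5) ≠ 2 by decide)]
    have h2 := C.e_z 1 0
    calc z * C.e 1 0 * (z * C.e 0 2) = z * (C.e 1 0 * z) * C.e 0 2 := by group
      _ = (z * z) * (C.e 1 0 * C.e 0 2) := by rw [h2]; group
      _ = C.e 1 2 := by rw [C.zsq, one_mul, C.e_mul]
  rw [← h1, mul_assoc, C.e_mul]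

theorem u_sq {G : Type*} [Group G] {z : G} (C : JC z) : (C.e 0 1 * C.e 2 3) * (C.e 0 1 * C.e 2 3) = 1 := by
  have h1 := C.e_comm 0 1 2 3 (by decide) (by decide) (by decide) (by decide)
  calc (C.e 0 1 * C.e 2 3) * (C.e 0 1 * C.e 2 3) = C.e 0 1 * (C.e 2 3 * C.e 0 1) * C.e 2 3 := by group
    _ = (C.e 0 1 * C.e 0 1) * (C.e 2 3 * C.e 2 3) := by rw [← h1]; group
    _ = 1 := by rw [C.e_sq 0 1 (by decide), C.e_sq 2 3 (by decide), C.zsq]

theorem two_b_conj {x y : MG} (h : TwoB y) {q : MG} (hq : q * x * q⁻¹ = y) : TwoB x := by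
  obtain ⟨g, hg⟩ := h
  refine ⟨q⁻¹ * g, ?_⟩
  calc q⁻¹ * g * zz * (q⁻¹ * g)⁻¹ = q⁻¹ * (g * zz * g⁻¹) * q := by group
    _ = q⁻¹ * (q * x * q⁻¹) * q := by rw [hg, hq]
    _ = x := by group

/-- `- U i` -/
theorem mk_neg (g : Co0) : mk0 (signCo0 allOne * g) = mk0 g := by
  rw [mk_mul, (mk_eq_one (signCo0 allOne)).2 (Or.inr rfl), one_mul]

theorem eOne (hM : OctLiftStmt) : EOneStmt := by
  intro C A hU
  -- the five involutions
  have hn2 : signCo0 allOne * signCo0 allOne = 1 := signCo0_mul_self allOne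
  have hnn : ∀ a b : Co0, (signCo0 allOne * a) * (signCo0 allOne * b) = a * b := by
    intro a b
    calc (signCo0 allOne * a) * (signCo0 allOne * b) = signCo0 allOne * (a * signCo0 allOne) * b := by group
      _ = (signCo0 allOne * signCo0 allOne) * a * b := by rw [← n_comm a]; group
      _ = a * b := by rw [hn2, one_mul]
  have hF : Five fun i => signCo0 allOne * A.U i := by
    refine ⟨fun i j => ?_, ?_, hU, fun i j hij => ?_⟩
    · show (signCo0 allOne * A.U i) * (signCo0 allOne * A.U j) = (signCo0 allOne * A.U j) * (signCo0 allOne * A.U i)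
      rw [hnn, hnn, A.comm]
    · show (signCo0 allOne * A.U 0) * (signCo0 allOne * A.U 1) * (signCo0 allOne * A.U 2) * (signCo0 allOne * A.U 3) *
        (signCo0 allOne * A.U 4) = signCo0 allOne
      rw [hnn]
      calc A.U 0 * A.U 1 * (signCo0 allOne * A.U 2) * (signCo0 allOne * A.U 3) * (signCo0 allOne * A.U 4) =
          A.U 0 * A.U 1 * ((signCo0 allOne * A.U 2) * (signCo0 allOne * A.U 3)) * (signCo0 allOne * A.U 4) := by group
        _ = (A.U 0 * A.U 1 * A.U 2 * A.U 3) * signCo0 allOne * A.U 4 := by rw [hnn]; group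
        _ = signCo0 allOne * (A.U 0 * A.U 1 * A.U 2 * A.U 3 * A.U 4) := by rw [← n_comm]; group
        _ = signCo0 allOne := by rw [A.prod, mul_one]
    · show IsOct ((signCo0 allOne * A.U i) * (signCo0 allOne * A.U j))
      rw [hnn]
      exact A.octUU i j hij
  obtain ⟨k, c, T, hT, hwt, hint, hk⟩ := hF.exists_sextet
  have S : Sx c T := ⟨hT, hwt, hint⟩
  have hk' : ∀ i, k * (signCo0 allOne * A.U i) * k⁻¹ = signCo0 (c i) := hk
  -- conjugation
  have hconj : ∀ (σ : alternatingGroup (Fin 5)) (κ : Co0), mk0 κ = pi (C.ck σ) → ∀ i,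
      (k * κ * k⁻¹) * signCo0 (c i) = signCo0 (c ((σ : Equiv.Perm (Fin 5)) i)) * (k * κ * k⁻¹) := by
    intro σ κ hκ i
    rw [← hk' i, ← hk' _, ← A.conj σ κ hκ i]
    calc k * κ * k⁻¹ * (k * (signCo0 allOne * A.U i) * k⁻¹) = k * (κ * signCo0 allOne) * A.U i * k⁻¹ := by group
      _ = k * (signCo0 allOne * κ) * A.U i * k⁻¹ := by rw [n_comm κ]
      _ = _ := by group
  -- the elements of order 5
  have hfive : ∀ σ : alternatingGroup (Fin 5), σ ^ 5 = 1 → ∃ γ : Co0, mk0 γ = pi (C.ck σ) ∧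
      ∀ t ∈ T, (k * γ * k⁻¹) • e8 t = e8 t := by
    intro σ hσ
    obtain ⟨γ, hγ, hγ5⟩ := exists_lift_five (s := pi (C.ck σ)) (by
      rw [← map_pow, ← map_pow, hσ, map_one, map_one])
    refine ⟨γ, hγ, five_fix ?_ hT ?_⟩
    · rw [conj_pow, hγ5]; group
    · intro y hy
      rw [on_iff S] at hy ⊢
      intro i
      have h1 := hconj σ γ hγ ((σ : Equiv.Perm (Fin 5)).symm i)
      rw [Equiv.apply_symm_apply] at h1
      rw [← mul_smul, ← h1, mul_smul, hy, Co0Mono.smul_neg]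
  obtain ⟨γ1, h1, hf1⟩ := hfive a1 a1_pow
  obtain ⟨γ2, h2, hf2⟩ := hfive a2 a2_pow
  obtain ⟨κ, hκe⟩ : ∃ κ, κ = γ1 * γ2 := ⟨_, rfl⟩
  have hκ : mk0 κ = pi (C.ck (a1 * a2)) := by
    rw [hκe, mk_mul, h1, h2, map_mul, map_mul]
  obtain ⟨κ', hκ'⟩ : ∃ κ', κ' = k * κ * k⁻¹ := ⟨_, rfl⟩
  have hκfix : ∀ t ∈ T, κ' • e8 t = e8 t := by
    intro t ht
    have h3 : κ' = (k * γ1 * k⁻¹) * (k * γ2 * k⁻¹) := by rw [hκ', hκe]; group
    rw [h3, mul_smul, hf2 t ht, hf1 t ht]
  obtain ⟨t₀, ht₀⟩ : T.Nonempty := by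
    rw [← Finset.card_pos, hT]; norm_num
  have hκ3 : κ' ^ 3 = 1 := by
    have h3 : mk0 (κ ^ 3) = 1 := by
      have h4 : mk0 (κ ^ 3) = (mk0 κ) ^ 3 := rfl
      rw [h4, hκ, ← map_pow, ← map_pow, a12_pow, map_one, map_one]
    rcases (mk_eq_one _).1 h3 with h4 | h4
    · rw [hκ', conj_pow, h4]; group
    · exfalso
      have h5 : κ' ^ 3 = signCo0 allOne := by
        rw [hκ', conj_pow, h4, ← n_comm]; group
      have h6 : κ' ^ 3 • e8 t₀ = e8 t₀ := by
        rw [pow_succ, pow_two, mul_smul, mul_smul, hκfix t₀ ht₀, hκfix t₀ ht₀, hκfix t₀ ht₀]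
      rw [h5, allOne_smul] at h6
      exact Co1Simple.e8_ne_neg _ _ h6.symm
  have hcc : ∀ i, κ' * signCo0 (c i) = signCo0 (c ((![1, 2, 0, 3, 4] : Fin 5 → Fin 5) i)) * κ' := by
    intro i
    rw [hκ', hconj (a1 * a2) κ hκ i, a12]
  have K : Three c T κ' := ⟨hκ3, hκfix, hcc 0, hcc 1, hcc 3⟩
  -- the lift
  obtain ⟨x0, hx, hx2, hcomm, hx0⟩ := hM (signCo0 allOne * A.U 4) (hU 4)
  have hg2 : (signCo0 allOne * A.U 4) * (signCo0 allOne * A.U 4) = 1 := oct_sq (hU 4)
  have hgk : κ * (signCo0 allOne * A.U 4) = (signCo0 allOne * A.U 4) * κ := by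
    have h3 := A.conj (a1 * a2) κ hκ 4
    rw [a12] at h3
    have h4 : κ * A.U 4 = A.U 4 * κ := mul_inv_eq_iff_eq_mul.1 h3
    calc κ * (signCo0 allOne * A.U 4) = (κ * signCo0 allOne) * A.U 4 := by group
      _ = signCo0 allOne * (κ * A.U 4) := by rw [← n_comm κ]; group
      _ = _ := by rw [h4]; group
  have hu : pi (C.cu 4) = mk0 (signCo0 allOne * A.U 4) := by rw [mk_neg, A.mk_U]
  have hku : C.k (a1 * a2) * (C.e 0 1 * C.e 2 3) * (C.k (a1 * a2))⁻¹ = C.e 0 1 * C.e 2 3 := by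
    have h3 : C.k (a1 * a2) * (C.e 0 1 * C.e 2 3) * (C.k (a1 * a2))⁻¹ =
        (C.k (a1 * a2) * C.e 0 1 * (C.k (a1 * a2))⁻¹) * (C.k (a1 * a2) * C.e 2 3 * (C.k (a1 * a2))⁻¹) := by group
    rw [h3, C.k_conj, C.k_conj, a12, a12, a12, a12]
    exact e_eq C
  obtain ⟨q, hq⟩ := chart_end Cfsg.Agent.H820.Par.chart hg2 hgk (u := C.cu 4) (k := C.ck (a1 * a2)) hu hx hx2 hcomm
    (u_sq C) hκ.symm hku (by
      intro w hw hinv v hv
      have hact : ∀ x : L2, signCo0 (c 4) • (k • x) = k • (signCo0 allOne * A.U 4) • x := by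
        intro x
        rw [← hk' 4, ← mul_smul, ← mul_smul]
        congr 1
        group
      have h3 := K.bf_zero S (hcc 4) (w := k • w) (by rw [hact, hw]) (by
        intro x hx
        obtain ⟨x', rfl⟩ : ∃ x', x = k • x' := ⟨k⁻¹ • x, by rw [smul_inv_smul]⟩
        rw [hact] at hx
        have h5 := hinv x' (smul_left_cancel k hx)
        have h6 : κ' • (k • x') = k • (κ • x') := by
          rw [hκ', ← mul_smul, ← mul_smul]
          congr 1
          group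
        rw [h6, bf_smul, bf_smul, h5]) (k • v) (by rw [hact, hv])
      rwa [bf_smul] at h3)
  -- both possibilities
  have hmem : C.e 0 1 * C.e 2 3 ∈ C.J := mul_mem (C.e_mem 0 1) (C.e_mem 2 3)
  have hnotQ : (C.cu 4 : MG) ∉ QQ := by
    intro h3
    have h4 := (Cfsg.Agent.H820.Par.chart.pi_eq_one (C.cu 4)).2 h3
    rw [hu, mk_eq_one] at h4
    rcases h4 with h4 | h4
    · exact oct_ne (hU 4) h4
    · have h5 := hU 4
      rw [h4] at h5
      have h6 := oct_wt h5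
      have h7 := wt_add_allOne 0
      rw [zero_add, h6] at h7
      have h8 : wt 0 = 0 := by unfold SignFacts.wt; rw [CoOneType.CoOneE.sup_zero]; rfl
      omega
  have hcu : (C.cu 4 : MG) = C.e 0 1 * C.e 2 3 := rfl
  have hB1 : TwoB (C.cu 4 : MG) := by
    rw [hcu]
    refine C.inv _ hmem (u_sq C) ?_
    intro h3
    apply hnotQ
    rw [hcu, h3]
    exact one_mem _
  have hB2 : TwoB ((C.cu 4 : MG) * zz) := by
    have h3 : (C.cu 4 : MG) * zz = zz * C.cu 4 := mem_centralizer_singleton_iff.1 (C.cu 4).2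
    refine C.inv _ (mul_mem hmem C.z_mem) ?_ ?_
    · calc (C.cu 4 : MG) * zz * ((C.cu 4 : MG) * zz) = ((C.cu 4 : MG) * zz) * (zz * C.cu 4) := by rw [h3]
        _ = (C.cu 4 : MG) * (zz * zz) * C.cu 4 := by group
        _ = 1 := by rw [C.zsq, mul_one]; exact u_sq C
    · intro h4
      apply hnotQ
      have h5 : (C.cu 4 : MG) = zz := by
        rw [mul_eq_one_iff_eq_inv] at h4
        rw [h4, inv_eq_iff_mul_eq_one, C.zsq]
      rw [h5]
      exact Cfsg.Agent.H820.Par.chart.large.z_mem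
  rcases hq with hq | hq
  · exact hx0 (two_b_conj hB1 hq)
  · exact hx0 (two_b_conj hB2 hq)

end Cfsg.Agent.H109.EOne
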