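import Cfsg.Agent.H109.NrGen
import Cfsg.Agent.BpSpor.MBigEleven
import Cfsg.Agent.MSevenT.Closed
import Cfsg.Agent.CpAutBFive.RowB
import Cfsg.Agent.KFacts.MonsterE
import Cfsg.Agent.KFacts.Baby.RowB
import Cfsg.Agent.Mrg.Omega.TwoF.RowB

/-!
# Radical elements of order `p` in the Monster (helper109, task 678 of helper839)

`radFree_z`, `radFree_t` : the involution centralizers `2^{1+24}.Co₁` and `2.B` have no element of odd prime order in the
solvable radical; `noRad_M_eleven`.
-/

set_option autoImplicit false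
set_option maxRecDepth 100000

namespace Cfsg.Agent.H109.Nr.M

open Cfsg Cfsg.Agent.MonsterX Cfsg.Agent.MonsterX.InstData Cfsg.Agent.MonsterX.MainPack Cfsg.Agent.MonsterU
open Cfsg.Agent.MonsterP Cfsg.Agent.MonsterN Cfsg.Agent.LThreeMB
open Cfsg.Agent.MonsterX.MainBasic Cfsg.Agent.MonsterX.MainSimple Cfsg.Agent.MonsterX.Model
open Cfsg.Agent.MonsterU.Lam2 Cfsg.Agent.MonsterU.TwoCls
open Cfsg.Agent.BpTab Cfsg.Agent.BpSpor.MBigModel Cfsg.Agent.BpSpor
open Cfsg.Spor (Co1)
open Cfsg.Agent.H459.Rad Cfsg.Agent.H459.Iface Cfsg.Agent.H839.Rad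
open Subgroup

/-- a simple group of even order and not 2 -/
theorem not_solvable_of_card {Q : Type*} [Group Q] [Finite Q] [IsSimpleGroup Q] (h2 : 2 ∣ Nat.card Q)
    (h3 : 3 ∣ Nat.card Q) : ¬ Group.IsSolvable Q := by
  intro hs
  have hc : ∀ a b : Q, a * b = b * a := IsSimpleGroup.comm_iff_isSolvable.2 hs
  let inst : CommGroup Q := { (inferInstance : Group Q) with mul_comm := hc }
  have hp : (Nat.card Q).Prime := IsSimpleGroup.prime_card
  have e2 := (Nat.prime_dvd_prime_iff_eq Nat.prime_two hp).1 h2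
  have e3 := (Nat.prime_dvd_prime_iff_eq Nat.prime_three hp).1 h3
  omega

/-- conjugate centralizers -/
theorem radFree_conj {K : Type*} [Group K] [Finite K] {p : ℕ} (hp : p.Prime) {a b g : K} (h : g * a * g⁻¹ = b)
    (hr : RadFree p ↥(centralizer ({a} : Set K))) : RadFree p ↥(centralizer ({b} : Set K)) := by
  have e : ↥(centralizer ({b} : Set K)) ≃* ↥(centralizer ({a} : Set K)) := by
    refine (((MulAut.conj g).subgroupMap (centralizer ({a} : Set K))).trans (MulEquiv.subgroupCongr ?_)).symm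
    ext x
    rw [Subgroup.mem_map]
    constructor
    · rintro ⟨y, hy, rfl⟩
      rw [mem_centralizer_singleton_iff] at hy ⊢
      show g * y * g⁻¹ * b = b * (g * y * g⁻¹)
      rw [← h]
      calc g * y * g⁻¹ * (g * a * g⁻¹) = g * (y * a) * g⁻¹ := by group
        _ = g * (a * y) * g⁻¹ := by rw [hy]
        _ = _ := by group
    · intro hx
      rw [mem_centralizer_singleton_iff] at hx
      refine ⟨g⁻¹ * x * g, ?_, ?_⟩
      · rw [mem_centralizer_singleton_iff]
        rw [← h] at hx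
        calc g⁻¹ * x * g * a = g⁻¹ * (x * (g * a * g⁻¹)) * g := by group
          _ = g⁻¹ * (g * a * g⁻¹ * x) * g := by rw [hx]
          _ = a * (g⁻¹ * x * g) := by group
      · show g * (g⁻¹ * x * g) * g⁻¹ = x
        group
  exact RadFree.congr hp e hr

theorem co1_not_solvable : ¬ Group.IsSolvable Co1 := by
  have := KFacts.MonsterE.simple_Co1
  have hfin : Finite Co1 := MBigCo.finite_co1
  have h := Cfsg.Agent.S0399.result.2
  exact not_solvable_of_card (by rw [h]; norm_num) (by rw [h]; norm_num)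

theorem radFree_z {p : ℕ} (hp : p.Prime) (hp2 : p ≠ 2) : RadFree p ↥(centralizer ({zz} : Set MG)) := by
  have := finite
  have := KFacts.MonsterE.simple_Co1
  have hfin : Finite Co1 := MBigCo.finite_co1
  refine RadFree.of_surj hp pi chart.pi_surj ?_ (RadFree.of_simple hp.one_lt.ne' co1_not_solvable)
  intro x hx ho
  have h1 : (x : MG) ∈ KDone.K.ι.range := (chart.pi_eq_one x).1 hx
  have h2 : (x : MG) ^ 4 = 1 := MFive.pow_four chart h1
  have h3 : p ∣ 4 := by
    rw [← ho, ← Subgroup.orderOf_coe]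
    exact orderOf_dvd_of_pow_eq_one h2
  have h4 : p ∣ 2 ^ 2 := h3
  exact hp2 ((Nat.prime_dvd_prime_iff_eq hp Nat.prime_two).1 (hp.dvd_of_dvd_pow h4))

theorem radFree_t {p : ℕ} (hp : p.Prime) (hp2 : p ≠ 2) {v : MG} (hv : LThreeB.Row.TA v) :
    RadFree p ↥(centralizer ({v} : Set MG)) := by
  have := finite
  have hB : IsSimpleGroup Spor.BabyMonster := KFacts.Baby.RowB.simple_B
  have hBf : Finite Spor.BabyMonster := Cfsg.Agent.Omega.TwoF.RowB.finite
  obtain ⟨⟨h1, -, ⟨e⟩⟩, -⟩ := ModelB.fieldsKS LitFin.all KDone.lnk KDone.lft (NodesGrp.prel LitFin.H)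
    (NodesNe.ne LitFin.H) LitFin.conj_ten Cfsg.Agent.S1704.result KDone.lnk.x₀_mem
  have h2 : IsConj (tG LitFin.all.hG LitFin.all.hR) _ := LThreeB.Par.ta_iota LitFin.all KDone.lnk KDone.lft
  have h3 : IsConj (tG LitFin.all.hG LitFin.all.hR) v := hv
  obtain ⟨c, hc⟩ := isConj_iff.1 (h2.symm.trans h3)
  refine radFree_conj hp hc ?_
  have hns : ¬ Group.IsSolvable Spor.BabyMonster := by
    have h0 : IsB Spor.BabyMonster := S1704.result
    exact not_solvable_of_card (by rw [h0.2]; norm_num) (by rw [h0.2]; norm_num)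
  refine RadFree.of_surj hp (e.toMonoidHom.comp (QuotientGroup.mk' _)) (e.surjective.comp (QuotientGroup.mk'_surjective _))
    ?_ (RadFree.of_simple hp.one_lt.ne' hns)
  intro x hx ho
  have h4 : x ∈ center ↥(centralizer ({KDone.K.ι KLinkInst.x₀} : Set MG)) := by
    have h5 : e (QuotientGroup.mk' _ x) = e 1 := by
      rw [map_one]
      exact hx
    exact (QuotientGroup.eq_one_iff x).1 (e.injective h5)
  have h5 : p ∣ 2 := by
    rw [← ho, ← h1, ← Subgroup.orderOf_mk _ h4]
    exact orderOf_dvd_natCard _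
  exact hp2 ((Nat.prime_dvd_prime_iff_eq hp Nat.prime_two).1 h5)

theorem not_center {v : MG} (hv : orderOf v = 2) : v ∉ center MG := by
  rw [center_model, Subgroup.mem_bot]
  rintro rfl
  rw [orderOf_one] at hv
  norm_num at hv

/-- a radical element commutes with no involution -/
theorem ncomm {p : ℕ} (hp : p.Prime) (hp2 : p ≠ 2) {x : MG} (hx : orderOf x = p) (h : RC (MulAut.conj x)) {t : MG}
    (ht : orderOf t = 2) : x * t ≠ t * x := by
  intro hc
  have := finite
  refine false_of_comm hx h (not_center ht) hc ?_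
  rcases cls ht with ⟨g, hg⟩ | h
  · exact radFree_conj hp hg (radFree_z hp hp2)
  · exact radFree_t hp hp2 h

/-- an element of order 11 commuting with a four-group -/
theorem exists_eleven : ∃ y w : MG, orderOf y = 11 ∧ orderOf w = 2 ∧ y * zz = zz * y ∧ y * w = w * y ∧
    zz * w = w * zz ∧ zz ≠ w := by
  have hfin := finite
  obtain ⟨x', hx', hpx'⟩ := MFive.KPair.exists_order chart MBigEleven.prime11 (by decide) MBigCo.orderOf_s11
  obtain ⟨v₀, h2, hfix⟩ := MBigCo.exists_two MBigCo.orderOf_s11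
  have hx11 : x' ^ 11 = 1 := by rw [← hx', pow_orderOf_eq_one]
  obtain ⟨w, hw, hwx, hwv⟩ := MFive.exists_fix chart (by decide) hx11 (v := v₀) (by rw [hpx']; exact hfix)
  obtain ⟨p, rfl⟩ := hw
  rw [KChart.eta_ι] at hwv
  have hTA : LThreeB.Row.TA (KDone.K.ι p) := ta_iota (by rw [hwv]; exact h2)
  have ht : orderOf (KDone.K.ι p) = 2 := by
    have h3 : IsConj (tG MonsterN.LitFin.all.hG MonsterN.LitFin.all.hR) (KDone.K.ι p) := hTA
    exact CpAutBFive.RowB.orderOf_t h3
  refine ⟨x', KDone.K.ι p, by rw [Subgroup.orderOf_coe, hx'], ht, mem_centralizer_singleton_iff.1 x'.2, hwx.symm,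
    (chart.large.comm_z _ ⟨p, rfl⟩).symm, ?_⟩
  intro h
  have h5 : LThreeB.Row.TA zz := h ▸ hTA
  exact CpAutBFive.RowB.not_conj h5 1 (by group)

theorem noRad_eleven : NoRad 11 MG := by
  have hfin := finite
  obtain ⟨y, w, hy, hw, hyz, hyw, hzw, hne⟩ := exists_eleven
  refine noRad_of_four (by norm_num) (by norm_num) (by rw [card_M]; norm_num)
    (fun x hx h t ht => ncomm (by norm_num) (by norm_num) hx h ht) hy ?_ ?_ orderOf_zz hw hyz hyw hzw hne
  · rw [center_model, Subgroup.mem_bot]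
    rintro rfl
    rw [orderOf_one] at hy
    norm_num at hy
  · intro A hA m hm1 hm
    exact MBigEleven.noTwo hy A hA m hm1 (hm ▸ dvd_rfl)

/-- **The Monster, `p = 11`.** -/
theorem noRad_M_eleven {K : Type*} [Group K] [Finite K] (h : Cfsg.Spor.IsoM K) : NoRad 11 K := by
  have hfin := finite
  obtain ⟨e⟩ := MonsterP.Equiv.equiv
  obtain ⟨f⟩ := h
  exact NoRad.congr (f.trans e) noRad_eleven

end Cfsg.Agent.H109.Nr.M
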