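import Cfsg.Agent.H109.NrLift
import Cfsg.Agent.H109.NrM
import Cfsg.Agent.H478.SporBaby
import Cfsg.Agent.KFacts.He.Cent
import Cfsg.Agent.CTwoTab.BInst
import Cfsg.Agent.MonsterN.EInst
import Cfsg.Agent.BpMon.BSeven

/-!
# Radical elements of order 7 in the Baby Monster (helper109, task 678 of helper839)
-/

set_option autoImplicit false
set_option maxRecDepth 100000

namespace Cfsg.Agent.H109.Nr.B

open Cfsg Subgroup Cfsg.Agent.BpTab Cfsg.Agent.CpAutBFive Cfsg.Agent.MFive
open Cfsg.Agent.LThreeMB (fr Zx XX mk KChart.Cent KChart.pi KChart.chart)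
open Cfsg.Agent.MonsterU Cfsg.Agent.MonsterU.Ch
open Cfsg.Agent.MonsterX Cfsg.Agent.MonsterX.MainBasic Cfsg.Agent.MonsterN Cfsg.Agent.MonsterP
open Cfsg.Agent.MonsterU.Lam2 (L2)
open Cfsg.Spor (Co1)
open Cfsg.Agent.H459.Rad Cfsg.Agent.H459.Iface Cfsg.Agent.H839.Rad

section He

open Cfsg.Agent.KFacts.He.Lv Cfsg.Agent.KFacts.He.TwoACent

theorem radFree_He_z : RadFree 7 ↥(centralizer ({CTwoTab.He.z} : Set Cfsg.Spor.He)) := by
  have hfin := Cfsg.Agent.KFacts.He.Hyp.finHe
  have hcard : Nat.card ↥(centralizer ({CTwoTab.He.z} : Set Cfsg.Spor.He)) = 2 ^ 10 * 3 ^ 1 * 7 := by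
    have h := Cfsg.Agent.KFacts.He.Classes.card_centralizer
    rw [show (2 ^ 10 * 3 ^ 1 * 7 : ℕ) = 21504 by norm_num, ← h]
  refine radFree_of_perfect ?_ ?_ (by norm_num) hcard
  · have h := Cfsg.Agent.KFacts.He.Cent.perfect
    apply Subgroup.map_injective (centralizer ({CTwoTab.He.z} : Set Cfsg.Spor.He)).subtype_injective
    rw [commutator_def, Subgroup.map_commutator, ← MonoidHom.range_eq_map, Subgroup.range_subtype]
    exact h
  · exact Finite.one_lt_card_iff_nontrivial.1 (by rw [hcard]; norm_num)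

theorem radFree_He_a : RadFree 7 ↥(centralizer ({gn .a} : Set Cfsg.Spor.He)) := by
  have hfin := Cfsg.Agent.KFacts.He.Hyp.finHe
  have hN : L ≤ centralizer ({gn .a} : Set Cfsg.Spor.He) := CTwoTab.He.L_le_cent
  have hNn : (L.subgroupOf (centralizer ({gn .a} : Set Cfsg.Spor.He))).Normal := ⟨fun n hn c =>
    mem_subgroupOf.2 (norm (mem_centralizer_singleton_iff.1 c.2) (mem_subgroupOf.1 hn))⟩
  have h2 : RadFree 7 ↥L := by
    have hs : IsSimpleGroup (↥L ⧸ center ↥L) := Cfsg.Agent.KFacts.He.TwoA.isQuasisimple_L.2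
    refine RadFree.of_surj (by norm_num) (QuotientGroup.mk' (center ↥L)) (QuotientGroup.mk'_surjective _) ?_
      (RadFree.of_simple (by norm_num) ?_)
    · intro x hx ho
      have h1 : x ∈ center ↥L := (QuotientGroup.eq_one_iff x).1 hx
      have h2 := CTwoTab.He.sq_center_L h1
      have h3 := orderOf_dvd_of_pow_eq_one h2
      rw [ho] at h3
      norm_num at h3
    · have hc : Nat.card (↥L ⧸ center ↥L) = 20160 := by
        have h1 := Subgroup.card_eq_card_quotient_mul_card_subgroup (center ↥L)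
        rw [CTwoTab.He.card_L, CTwoTab.He.card_center_L] at h1
        omega
      exact M.not_solvable_of_card (by rw [hc]; norm_num) (by rw [hc]; norm_num)
  refine RadFree.of_index (by norm_num) (L.subgroupOf (centralizer ({gn .a} : Set Cfsg.Spor.He))) ?_
    (RadFree.congr (by norm_num) (subgroupOfEquivOfLe hN) h2)
  intro hd
  have := hd.trans BpMon.index_L
  norm_num at this

/-- **Every involution of `He`.** -/
theorem radFree_He {F : Type*} [Group F] [Finite F] (e : F ≃* Cfsg.Spor.He) {τ : F} (hτ : orderOf τ = 2) :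
    RadFree 7 ↥(centralizer ({τ} : Set F)) := by
  have hfin := Cfsg.Agent.KFacts.He.Hyp.finHe
  have h0 : RadFree 7 ↥(centralizer ({e τ} : Set Cfsg.Spor.He)) := by
    have h1 : e τ * e τ = 1 := by rw [← map_mul, ← pow_two, ← hτ, pow_orderOf_eq_one, map_one]
    have h2 : e τ ≠ 1 := by
      intro h3
      have h4 : τ = 1 := e.injective (h3.trans (map_one e).symm)
      rw [h4, orderOf_one] at hτ
      exact absurd hτ (by norm_num)
    rcases CTwoTab.He.classes h1 h2 with h3 | h3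
    · obtain ⟨g, hg⟩ := isConj_iff.1 h3
      exact M.radFree_conj (by norm_num) hg radFree_He_z
    · obtain ⟨g, hg⟩ := isConj_iff.1 h3
      exact M.radFree_conj (by norm_num) hg radFree_He_a
  refine RadFree.congr (by norm_num) ?_ h0
  refine (e.subgroupMap _).trans (MulEquiv.subgroupCongr ?_)
  ext c
  rw [mem_map, mem_centralizer_singleton_iff]
  constructor
  · rintro ⟨d, hd, rfl⟩
    rw [mem_centralizer_singleton_iff] at hd
    show e d * e τ = e τ * e d
    rw [← map_mul, ← map_mul, hd]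
  · intro hc
    refine ⟨e.symm c, ?_, e.apply_symm_apply c⟩
    rw [mem_centralizer_singleton_iff]
    apply e.injective
    rw [map_mul, map_mul, e.apply_symm_apply, hc]

end He

/-- **`C(y)/⟨y⟩ ≅ He`** for `y` of order 7 commuting with a 2A-involution of the Monster. -/
theorem isoHe_of_comm {v y : ↥InstData.M.G} (hv : IsConj BpSpor.BCover.t v) (hy : orderOf y = 7) (hyv : y * v = v * y) :
    Spor.IsoHe (XX y) := by
  have := MFive.Row.finite_model
  have h := KChart.chart KDone.lft MFive.Row.hc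
  have hp : Nat.Prime 7 := by norm_num
  have ht := RowB.orderOf_t hv
  have hnt := RowB.not_conj hv
  have he : 2 ∣ Nat.card ↥(centralizer ({y} : Set ↥InstData.M.G)) := by
    have h1 : orderOf (⟨v, mem_centralizer_singleton_iff.2 hyv.symm⟩ : ↥(centralizer ({y} : Set ↥InstData.M.G))) = 2 := by
      rw [← Subgroup.orderOf_coe]
      exact ht
    rw [← h1]
    exact orderOf_dvd_natCard _
  obtain ⟨g, hg⟩ := MSevenT.hex7 y hy he
  have h1 : (g⁻¹ * y * g) * KDone.K.z = KDone.K.z * (g⁻¹ * y * g) := by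
    calc (g⁻¹ * y * g) * KDone.K.z = g⁻¹ * (y * (g * KDone.K.z * g⁻¹)) * g := by group
      _ = g⁻¹ * ((g * KDone.K.z * g⁻¹) * y) * g := by rw [hg]
      _ = KDone.K.z * (g⁻¹ * y * g) := by group
  obtain ⟨x', hx'⟩ : ∃ x' : centralizer ({KDone.K.z} : Set ↥InstData.M.G), (x' : ↥InstData.M.G) = g⁻¹ * y * g :=
    ⟨⟨g⁻¹ * y * g, mem_centralizer_singleton_iff.2 h1⟩, rfl⟩
  have h7 : orderOf (g⁻¹ * y * g) = 7 := by
    have h6 := MulEquiv.orderOf_eq (MulAut.conj g⁻¹) y
    rw [MulAut.conj_apply, inv_inv] at h6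
    rw [h6, hy]
  have hx7 : orderOf x' = 7 := by rw [← Subgroup.orderOf_coe, hx', h7]
  have h4 : (x' : ↥InstData.M.G) * (g⁻¹ * v * g) = (g⁻¹ * v * g) * x' := by
    rw [hx']
    calc g⁻¹ * y * g * (g⁻¹ * v * g) = g⁻¹ * (y * v) * g := by group
      _ = g⁻¹ * (v * y) * g := by rw [hyv]
      _ = _ := by group
  have h5 : orderOf (g⁻¹ * v * g) = 2 := by
    have h6 := MulEquiv.orderOf_eq (MulAut.conj g⁻¹) v
    rw [MulAut.conj_apply, inv_inv] at h6
    rw [h6, ht]
  have hHe : Spor.IsoHe (XX (x' : ↥InstData.M.G)) := by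
    rcases CpAutMSeven.Ranks.hranks _ (MFive.orderOf_pi h hp (by decide) hx7) with h8 | h8
    · obtain ⟨d, hd⟩ := BpMon.BSeven.conj_z hx7 h8 h5 h4
      exfalso
      refine hnt (d⁻¹ * g⁻¹) ?_
      calc d⁻¹ * g⁻¹ * v * (d⁻¹ * g⁻¹)⁻¹ = d⁻¹ * (g⁻¹ * v * g) * d := by group
        _ = KDone.K.z := by rw [← hd]; group
    · exact CpAutMSeven.ZeroComps.heSix x' hx7 h8
  obtain ⟨-, ⟨e⟩⟩ := LThreeMB.exists_XX_equiv (x := y) (x' := (x' : ↥InstData.M.G)) (g := g) (by rw [hx']; group)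
  obtain ⟨f⟩ := hHe
  exact ⟨e.symm.trans f⟩

/-- the elements of order 7 of `C(v)` -/
theorem lg_cent {v : ↥InstData.M.G} (hv : IsConj BpSpor.BCover.t v) (y : ↥(centralizer ({v} : Set ↥InstData.M.G)))
    (hy : orderOf y = 7) : Lg 7 y := by
  have := MFive.Row.finite_model
  obtain ⟨y, hyv⟩ := y
  rw [← Subgroup.orderOf_coe] at hy
  replace hy : orderOf y = 7 := hy
  have hyv' : y * v = v * y := mem_centralizer_singleton_iff.1 hyv
  have ht := RowB.orderOf_t hv
  have hvv : v * v = 1 := by rw [← pow_two, ← ht, pow_orderOf_eq_one]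
  obtain ⟨e⟩ := isoHe_of_comm hv hy hyv'
  have hfin := Cfsg.Agent.KFacts.He.Hyp.finHe
  have hf : Finite (XX y) := Finite.of_equiv _ e.symm.toEquiv
  have hk : ∀ c : ↥(centralizer ({y} : Set ↥InstData.M.G)), (QuotientGroup.mk' (Zx y)) c = 1 ↔
      ∃ i : ℤ, y ^ i = (c : ↥InstData.M.G) := fun c =>
    LThreeMB.mk_eq_one (x := y) (g := (c : ↥InstData.M.G)) (mem_centralizer_singleton_iff.1 c.2)
  refine lg_inf (by norm_num) (by norm_num) hy hvv hyv' (QuotientGroup.mk' (Zx y)) (QuotientGroup.mk'_surjective _)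
    hk (radFree_He e ?_)
  have : Fact (Nat.Prime 2) := ⟨Nat.prime_two⟩
  refine orderOf_eq_prime ?_ ?_
  · rw [← map_pow, pow_two]
    have : (⟨v, mem_centralizer_singleton_iff.2 hyv'.symm⟩ : ↥(centralizer ({y} : Set ↥InstData.M.G))) *
        ⟨v, mem_centralizer_singleton_iff.2 hyv'.symm⟩ = 1 := Subtype.ext hvv
    rw [this, map_one]
  · intro h1
    obtain ⟨i, hi⟩ := (hk _).1 h1
    have hi' : y ^ i = v := hi
    have h2 : v ^ 7 = 1 := by
      rw [← hi', ← zpow_natCast, ← zpow_mul, mul_comm, zpow_mul, zpow_natCast, ← hy, pow_orderOf_eq_one, one_zpow]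
    have h3 := orderOf_dvd_of_pow_eq_one h2
    rw [ht] at h3
    norm_num at h3

theorem finite_B : Finite Spor.BabyMonster := CTwoTab.BInst.finite_B

/-- **Every element of order 7 of the Baby Monster.** -/
theorem lg_B {y : Spor.BabyMonster} (hy : orderOf y = 7) : Lg 7 y := by
  have := MFive.Row.finite_model
  have hfin := finite_B
  obtain ⟨⟨h1, -, ⟨e⟩⟩, -⟩ := ModelB.fieldsKS LitFin.all KDone.lnk KDone.lft (NodesGrp.prel LitFin.H)
    (NodesNe.ne LitFin.H) LitFin.conj_ten Cfsg.Agent.S1704.result KDone.lnk.x₀_mem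
  obtain ⟨g, hg⟩ := ModelB.exists_conj_t LitFin.all.hG LitFin.all.hR KDone.lnk KDone.lft KDone.lnk.x₀_mem
  obtain ⟨q, hq⟩ : ∃ q : ↥(centralizer ({KDone.K.ι KLinkInst.x₀} : Set ↥InstData.M.G)) →* Spor.BabyMonster,
      q = e.toMonoidHom.comp (QuotientGroup.mk' _) := ⟨_, rfl⟩
  have hqs : Function.Surjective q := by
    rw [hq]
    exact e.surjective.comp (QuotientGroup.mk'_surjective _)
  have hqk : ∀ k, q k = 1 → k * k = 1 ∧ ∀ g, g * k = k * g := by
    intro k hk
    have h4 : k ∈ center ↥(centralizer ({KDone.K.ι KLinkInst.x₀} : Set ↥InstData.M.G)) := by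
      have h5 : e (QuotientGroup.mk' _ k) = e 1 := by
        rw [map_one, ← hk, hq]
        rfl
      exact (QuotientGroup.eq_one_iff k).1 (e.injective h5)
    refine ⟨?_, fun g => (Subgroup.mem_center_iff.1 h4 g)⟩
    have h5 : orderOf k ∣ 2 := by
      rw [← h1, ← Subgroup.orderOf_mk _ h4]
      exact orderOf_dvd_natCard _
    rw [← pow_two]
    exact orderOf_dvd_iff_pow_eq_one.1 h5
  -- lift `y`
  obtain ⟨y0, hy0⟩ := hqs y
  have h7 : q (y0 ^ 7) = 1 := by rw [map_pow, hy0, ← hy, pow_orderOf_eq_one]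
  have hy8 : q (y0 ^ 8) = y := by
    rw [show (8 : ℕ) = 7 + 1 from rfl, pow_succ, map_mul, h7, one_mul, hy0]
  have ho : orderOf (y0 ^ 8) = 7 := by
    have : Fact (Nat.Prime 7) := ⟨by norm_num⟩
    refine orderOf_eq_prime ?_ ?_
    · rw [← pow_mul, show 8 * 7 = 7 * 2 * 4 from rfl, pow_mul, pow_mul, pow_two, (hqk _ h7).1, one_pow]
    · intro h
      rw [h, map_one] at hy8
      rw [← hy8, orderOf_one] at hy
      norm_num at hy
  have h2 := Lg.quot (by norm_num) (by norm_num) q hqs hqk ho (lg_cent (isConj_iff.2 ⟨g, hg⟩) _ ho)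
  rwa [hy8] at h2

/-- `C(2A) = 2.²E₆(2).2` -/
theorem exists_t : ∃ t : Spor.BabyMonster, orderOf t = 2 ∧ 7 ∣ Nat.card ↥(centralizer ({t} : Set Spor.BabyMonster)) ∧
    RadFree 7 ↥(centralizer ({t} : Set Spor.BabyMonster)) := by
  have hfin := finite_B
  obtain ⟨K, _, _, hK, t, X₀, σ, hD, -, hcard⟩ := CTwoTab.BInst.exists_sec
  have h2f : Fact (Nat.Prime 2) := ⟨Nat.prime_two⟩
  refine ⟨t, orderOf_eq_prime (by rw [pow_two, hD.t_sq]) hD.t_ne, by rw [hcard]; norm_num, ?_⟩
  have hE := Cfsg.Agent.BM.HBFinal.card_E K hK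
  have hsE : IsSimpleGroup ↥(Lie.twistedE6 K 2) := EInst.isSimple K hK
  have hfE : Finite ↥(Lie.twistedE6 K 2) := Nat.finite_of_card_ne_zero (by rw [hE]; norm_num)
  have hXt : X₀ ≤ centralizer ({t} : Set Spor.BabyMonster) := fun m hm => mem_centralizer_singleton_iff.2 (hD.comm m hm)
  have hn : (X₀.subgroupOf (centralizer ({t} : Set Spor.BabyMonster))).Normal := ⟨fun n hn c =>
    mem_subgroupOf.2 (hD.nrm c (mem_centralizer_singleton_iff.1 c.2) n (mem_subgroupOf.1 hn))⟩
  have hX : RadFree 7 ↥X₀ := by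
    refine RadFree.of_surj (by norm_num) σ hD.surj ?_ (RadFree.of_simple (by norm_num)
      (M.not_solvable_of_card (by rw [hE]; norm_num) (by rw [hE]; norm_num)))
    intro x hx ho
    rw [← Subgroup.orderOf_coe] at ho
    rcases (hD.ker x).1 hx with h | h
    · rw [h, orderOf_one] at ho
      norm_num at ho
    · rw [h, orderOf_eq_prime (by rw [pow_two, hD.t_sq]) hD.t_ne] at ho
      norm_num at ho
  refine RadFree.of_index (by norm_num) (X₀.subgroupOf (centralizer ({t} : Set Spor.BabyMonster))) ?_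
    (RadFree.congr (by norm_num) (subgroupOfEquivOfLe hXt) hX)
  -- the index
  intro hd
  have h1 : 7 * 76532479683774853939200 ∣ 306129918735099415756800 := by
    have h2 := (X₀.subgroupOf (centralizer ({t} : Set Spor.BabyMonster))).card_mul_index
    rw [hcard, Nat.card_congr (subgroupOfEquivOfLe hXt).toEquiv] at h2
    have h3 : 76532479683774853939200 ∣ Nat.card ↥X₀ := by
      rw [← hE]
      exact Subgroup.card_dvd_of_surjective σ hD.surj
    rw [← h2, mul_comm]
    exact mul_dvd_mul h3 hd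
  norm_num at h1

theorem noRad_seven : NoRad 7 Spor.BabyMonster := by
  intro x hx h1 h2
  have hfin := finite_B
  have h0 : IsB Spor.BabyMonster := S1704.result
  have hsim := h0.1
  have hcen : center Spor.BabyMonster = ⊥ := CpAut.TwoInner.center_eq_bot_of_card h0.1 (by rw [h0.2]; norm_num)
  obtain ⟨t, ht, h7, hR⟩ := exists_t
  have : Fact (Nat.Prime 7) := ⟨by norm_num⟩
  obtain ⟨y, hy⟩ := exists_prime_orderOf_dvd_card' 7 h7
  have hyt : (y : Spor.BabyMonster) * t = t * y := mem_centralizer_singleton_iff.1 y.2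
  have hyo : orderOf (y : Spor.BabyMonster) = 7 := by rw [Subgroup.orderOf_coe, hy]
  have hyc : (y : Spor.BabyMonster) ∉ center Spor.BabyMonster := by
    rw [hcen, Subgroup.mem_bot]
    intro h
    rw [h, orderOf_one] at hyo
    norm_num at hyo
  have htc : t ∉ center Spor.BabyMonster := by
    rw [hcen, Subgroup.mem_bot]
    intro h
    rw [h, orderOf_one] at ht
    norm_num at ht
  obtain ⟨g, hg⟩ := conj_large (by norm_num) hx h1 hyo (sylow_comm (by norm_num) (by rw [h0.2]; norm_num)) hyc (lg_B hyo)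
  refine false_of_comm (x := g * x * g⁻¹) (by rw [← MulAut.conj_apply, MulEquiv.orderOf_eq, hx]) (rc_conj h1 g) htc ?_ hR
  obtain ⟨k, hk⟩ := mem_zpowers_iff.1 hg
  rw [← hk]
  exact (show Commute (y : Spor.BabyMonster) t from hyt).zpow_left k

/-- **The Baby Monster, `p = 7`.** -/
theorem noRad_B_seven {K : Type*} [Group K] [Finite K] (h : Cfsg.Spor.IsoB K) : NoRad 7 K := by
  have hfin := finite_B
  obtain ⟨f⟩ := h
  exact NoRad.congr f noRad_seven

end Cfsg.Agent.H109.Nr.B
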