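import Cfsg.Agent.H109.NrGen
import Cfsg.Agent.H839.Rad.Count
import Cfsg.Agent.S0017
import Cfsg.Agent.S0023

/-!
# Orbits modulo `N` and coprime actions (helper109, task 678 of helper839)

* `dvd_card` : `N` divides the indices of all the stabilizers: `N` divides the number of points;
* `card_mod` : the same with one fixed point;
* `trivial_of_sylow` : an action of a `p`-group on a `p'`-group, `w` trivial on the invariant `q`-subgroups: `w` is trivial;
* `mem_of_auto` : `T` solvable, `w` in a Sylow `p`-subgroup `P`, commuting with `P` and with `O_{p'}(T)`: `φ w ∈ P` for the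
  automorphisms `φ` of `T`.
-/

set_option autoImplicit false

namespace Cfsg.Agent.H109.Nr

open Subgroup Cfsg

section Orb

variable {A : Type*} [Group A] {α : Type*} [MulAction A α] [Finite α]

/-- all the orbits have length divisible by `N` -/
theorem dvd_card {N : ℕ} (h : ∀ a : α, N ∣ (MulAction.stabilizer A a).index) : N ∣ Nat.card α := by
  classical
  have : Fintype (MulAction.orbitRel.Quotient A α) := Fintype.ofFinite _
  rw [Nat.card_congr (MulAction.selfEquivSigmaOrbits' A α), Nat.card_sigma]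
  refine Finset.dvd_sum fun o _ => ?_
  induction o using Quotient.inductionOn' with
  | h a =>
    have h1 := h a
    rw [MulAction.index_stabilizer] at h1
    exact h1

/-- one fixed point, all the other orbits have length divisible by `N` -/
theorem card_mod {N : ℕ} {a₀ : α} (h0 : ∀ g : A, g • a₀ = a₀)
    (h : ∀ a : α, a ≠ a₀ → N ∣ (MulAction.stabilizer A a).index) : ∃ k, Nat.card α = 1 + N * k := by
  classical
  let S : SubMulAction A α :=
    { carrier := {a | a ≠ a₀}
      smul_mem' := fun g a ha h1 => ha (by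
        have h2 : g⁻¹ • (g • a) = g⁻¹ • a₀ := by rw [h1]
        rw [inv_smul_smul, h0] at h2
        exact h2) }
  have h1 : N ∣ Nat.card S := by
    apply dvd_card (A := A)
    rintro ⟨a, ha⟩
    have h2 : MulAction.stabilizer A (⟨a, ha⟩ : S) = MulAction.stabilizer A a := by
      ext g
      rw [MulAction.mem_stabilizer_iff, MulAction.mem_stabilizer_iff]
      exact ⟨fun h => congrArg Subtype.val h, fun h => Subtype.ext h⟩
    rw [h2]
    exact h a ha
  obtain ⟨k, hk⟩ := h1
  refine ⟨k, ?_⟩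
  rw [← hk]
  have := Fintype.ofFinite α
  have h3 : Nat.card S = Nat.card {a : α // a ≠ a₀} := rfl
  rw [h3, Nat.card_eq_fintype_card, Nat.card_eq_fintype_card, Fintype.card_subtype_compl (fun a => a = a₀),
    Fintype.card_subtype_eq]
  have : 0 < Fintype.card α := Fintype.card_pos_iff.2 ⟨a₀⟩
  omega

end Orb

/-- an action trivial on all the invariant `q`-subgroups -/
theorem trivial_of_sylow {A H : Type*} [Group A] [Group H] [Finite H] {p : ℕ} [Fact p.Prime] (φ : A →* MulAut H)
    (hA : IsPGroup p A) (hp : ¬ p ∣ Nat.card H) (w : A)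
    (h : ∀ (q : ℕ) (_ : q.Prime) (B : Subgroup H), IsPGroup q ↥B → (∀ a, ∀ v ∈ B, φ a v ∈ B) → ∀ v ∈ B, φ w v = v) (v : H) :
    φ w v = v := by
  let F : Subgroup H :=
    { carrier := {v | φ w v = v}
      one_mem' := map_one _
      mul_mem' := fun {a b} ha hb => by
        show φ w (a * b) = a * b
        rw [map_mul, ha, hb]
      inv_mem' := fun {a} ha => by
        show φ w a⁻¹ = a⁻¹
        rw [map_inv, ha] }
  have hF : F = ⊤ := by
    apply Lib.Cores.eq_top_of_sylow_le
    intro q hq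
    obtain ⟨P, hP⟩ := exists_inv_sylow φ hA hp q
    exact ⟨P, fun v hv => h q hq.out P P.isPGroup' hP v hv⟩
  have h1 : v ∈ F := by rw [hF]; exact mem_top v
  exact h1

section Auto

variable {T : Type*} [Group T] [Finite T] {p : ℕ} [hp : Fact p.Prime]

/-- the preimage of `O_p(T / O_{p'}(T))` -/
def LL (p : ℕ) (T : Type*) [Group T] [(pPrimeCore p T).Normal] : Subgroup T :=
  (pCore p (T ⧸ pPrimeCore p T)).comap (QuotientGroup.mk' (pPrimeCore p T))

omit [Finite T] hp in
theorem le_LL [(pPrimeCore p T).Normal] : pPrimeCore p T ≤ LL p T := by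
  intro y hy
  show QuotientGroup.mk' (pPrimeCore p T) y ∈ pCore p (T ⧸ pPrimeCore p T)
  have h1 : QuotientGroup.mk' (pPrimeCore p T) y = 1 := (QuotientGroup.eq_one_iff y).2 hy
  rw [h1]
  exact one_mem _

omit [Finite T] hp in
theorem LL_auto [(pPrimeCore p T).Normal] (φ : T ≃* T) {l : T} (hl : l ∈ LL p T) : φ l ∈ LL p T := by
  have hmap : (pPrimeCore p T).map (φ : T →* T) = pPrimeCore p T :=
    (characteristic_iff_map_eq.1 (Lib.Cores.pPrimeCore_characteristic p)) φ
  let e : T ⧸ pPrimeCore p T ≃* T ⧸ pPrimeCore p T := QuotientGroup.congr (pPrimeCore p T) (pPrimeCore p T) φ hmap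
  have h1 : QuotientGroup.mk' (pPrimeCore p T) l ∈ pCore p (T ⧸ pPrimeCore p T) := hl
  have h2 : (pCore p (T ⧸ pPrimeCore p T)).map (e : T ⧸ pPrimeCore p T →* T ⧸ pPrimeCore p T) = pCore p (T ⧸ pPrimeCore p T) :=
    (characteristic_iff_map_eq.1 (Lib.Cores.pCore_characteristic p)) e
  show QuotientGroup.mk' (pPrimeCore p T) (φ l) ∈ pCore p (T ⧸ pPrimeCore p T)
  rw [← h2]
  exact ⟨_, h1, rfl⟩

omit [Finite T] hp in
theorem pp_auto (φ : T ≃* T) {l : T} (hl : l ∈ pPrimeCore p T) : φ l ∈ pPrimeCore p T := by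
  have hmap : (pPrimeCore p T).map (φ : T →* T) = pPrimeCore p T :=
    (characteristic_iff_map_eq.1 (Lib.Cores.pPrimeCore_characteristic p)) φ
  rw [← hmap]
  exact ⟨l, hl, rfl⟩

/-- elements of `LL` are `a y`, `a ∈ P`, `y ∈ O_{p'}(T)` -/
theorem LL_dec [hN : (pPrimeCore p T).Normal] (P : Sylow p T) {l : T} (hl : l ∈ LL p T) :
    ∃ a ∈ (P : Subgroup T), a ∈ LL p T ∧ ∃ y ∈ pPrimeCore p T, l = a * y := by
  let P' : Sylow p (T ⧸ pPrimeCore p T) := P.mapSurjective (QuotientGroup.mk'_surjective _)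
  have h1 : QuotientGroup.mk' (pPrimeCore p T) l ∈ (P' : Subgroup (T ⧸ pPrimeCore p T)) :=
    Lib.Cores.pCore_le_sylow P' hl
  obtain ⟨a, ha, hal⟩ : ∃ a ∈ (P : Subgroup T), QuotientGroup.mk' (pPrimeCore p T) a = QuotientGroup.mk' (pPrimeCore p T) l := h1
  refine ⟨a, ha, ?_, a⁻¹ * l, ?_, by group⟩
  · show QuotientGroup.mk' (pPrimeCore p T) a ∈ pCore p (T ⧸ pPrimeCore p T)
    rw [hal]
    exact hl
  · exact QuotientGroup.eq.1 hal

theorem mem_LL [Group.IsSolvable T] [hN : (pPrimeCore p T).Normal] (P : Sylow p T) {w : T}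
    (hP : ∀ a ∈ (P : Subgroup T), a * w = w * a) : w ∈ LL p T := by
  have h1 := S0017.result (G := T ⧸ pPrimeCore p T) p (Lib.Cores.pPrimeCore_quotient_pPrimeCore p)
  apply h1
  rw [mem_centralizer_iff]
  intro b hb
  let P' : Sylow p (T ⧸ pPrimeCore p T) := P.mapSurjective (QuotientGroup.mk'_surjective _)
  have h2 : b ∈ (P' : Subgroup (T ⧸ pPrimeCore p T)) := Lib.Cores.pCore_le_sylow P' hb
  obtain ⟨a, ha, rfl⟩ : ∃ a ∈ (P : Subgroup T), QuotientGroup.mk' (pPrimeCore p T) a = b := h2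
  rw [← map_mul, ← map_mul, hP a ha]

/-- **conjugates of a central element of a Sylow subgroup commuting with `O_{p'}(T)`** -/
theorem mem_of_auto [Group.IsSolvable T] (P : Sylow p T) {w : T} (hw : w ∈ (P : Subgroup T))
    (hP : ∀ a ∈ (P : Subgroup T), a * w = w * a) (hY : ∀ y ∈ pPrimeCore p T, y * w = w * y) (φ : T ≃* T) :
    φ w ∈ (P : Subgroup T) := by
  have hN : (pPrimeCore p T).Normal := Lib.Cores.pPrimeCore_normal p
  have h1 : w ∈ LL p T := mem_LL P hP
  -- `w` commutes with `LL`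
  have h2 : ∀ l ∈ LL p T, l * w = w * l := by
    intro l hl
    obtain ⟨a, ha, -, y, hy, rfl⟩ := LL_dec P hl
    rw [mul_assoc, hY y hy, ← mul_assoc, hP a ha, mul_assoc]
  have h3 : ∀ l ∈ LL p T, l * φ w = φ w * l := by
    intro l hl
    have h4 := h2 _ (LL_auto φ.symm hl)
    have h5 := congrArg φ h4
    rw [map_mul, map_mul, MulEquiv.apply_symm_apply] at h5
    exact h5
  obtain ⟨a, ha, haL, y, hy, e⟩ := LL_dec P (LL_auto φ h1)
  have h4 : a * y = y * a := by
    have h5 := h3 a haL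
    rw [e] at h5
    have h6 : a * (a * y) = a * (y * a) := by rw [h5, mul_assoc]
    exact mul_left_cancel h6
  -- `y ^ (p ^ k) = 1`
  obtain ⟨k, hk⟩ := P.isPGroup' ⟨w, hw⟩
  obtain ⟨j, hj⟩ := P.isPGroup' ⟨a, ha⟩
  have hk' : w ^ p ^ k = 1 := congrArg Subtype.val hk
  have hj' : a ^ p ^ j = 1 := congrArg Subtype.val hj
  have h5 : (φ w) ^ (p ^ k * p ^ j) = 1 := by rw [pow_mul, ← map_pow, hk', map_one, one_pow]
  have h6 : a ^ (p ^ k * p ^ j) = 1 := by rw [mul_comm, pow_mul, hj', one_pow]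
  have h7 : y ^ (p ^ k * p ^ j) = 1 := by
    rw [e, (show Commute a y from h4).mul_pow, h6, one_mul] at h5
    exact h5
  have h8 : y = 1 := by
    have h9 : orderOf y ∣ p ^ (k + j) := by
      rw [pow_add]
      exact orderOf_dvd_of_pow_eq_one h7
    have h10 : orderOf y ∣ Nat.card ↥(pPrimeCore p T) := by
      rw [← Subgroup.orderOf_mk y hy]
      exact orderOf_dvd_natCard _
    have h11 : (p ^ (k + j)).Coprime (Nat.card ↥(pPrimeCore p T)) :=
      Nat.Coprime.pow_left _ (Lib.Cores.pPrimeCore_coprime p).symm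
    exact orderOf_eq_one_iff.1 (Nat.eq_one_of_dvd_coprimes h11 h9 h10)
  rw [e, h8, mul_one]
  exact ha

end Auto

end Cfsg.Agent.H109.Nr
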