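import Cfsg.Agent.H109.NrOrb

/-!
# Radical elements of order `p` and four-groups, without a bound for the Sylow subgroups (helper109, task 678)

`mem_zpowers_of_four` : `y` central of order `p` in `C`, `p ^ 2` does not divide the orders of the centralizers of the
involutions, `x` of order `p` in the solvable radical, commuting with no involution, `C` contains a four-group: `x ∈ ⟨y⟩`.
-/

set_option autoImplicit false

namespace Cfsg.Agent.H109.Nr

open Subgroup Cfsg Cfsg.Agent.H459.Rad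

/-- an involution without fixed points inverts -/
theorem inverts {D : Type*} [Group D] [Finite D] {P : Subgroup D} {z : D} (hz : z * z = 1)
    (hn : ∀ g ∈ P, z * g * z⁻¹ ∈ P) (hfp : ∀ g ∈ P, z * g * z⁻¹ = g → g = 1) : ∀ g ∈ P, z * g * z⁻¹ = g⁻¹ := by
  let ψ : ↥P →* ↥P :=
    { toFun := fun g => ⟨z * g * z⁻¹, hn g g.2⟩
      map_one' := Subtype.ext (by show z * 1 * z⁻¹ = 1; group)
      map_mul' := fun a b => Subtype.ext (by
        show z * ((a : D) * b) * z⁻¹ = z * a * z⁻¹ * (z * b * z⁻¹)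
        group) }
  have h1 : MonoidHom.FixedPointFree ψ := fun g hg => Subtype.ext (hfp g g.2 (congrArg Subtype.val hg))
  have h2 : Function.Involutive ψ := by
    intro g
    apply Subtype.ext
    show z * (z * (g : D) * z⁻¹) * z⁻¹ = g
    calc z * (z * (g : D) * z⁻¹) * z⁻¹ = (z * z) * g * (z * z)⁻¹ := by group
      _ = g := by rw [hz]; group
  have h3 := h1.coe_eq_inv_of_involutive h2
  intro g hg
  have h4 : ψ ⟨g, hg⟩ = (⟨g, hg⟩ : ↥P)⁻¹ := congrFun h3 ⟨g, hg⟩
  exact congrArg Subtype.val h4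

/-- an involution inverts `P / ⟨y⟩` if it has no fixed points outside of `⟨y⟩` -/
theorem inverts_mod {D : Type*} [Group D] [Finite D] {p : ℕ} (hp2 : Odd p) {P : Subgroup D} {y z : D}
    (hy : y ^ p = 1) (hyc : ∀ g, g * y = y * g) (hz : z * z = 1) (hn : ∀ g ∈ P, z * g * z⁻¹ ∈ P)
    (hfp : ∀ g ∈ P, z * g = g * z → g ∈ zpowers y) : ∀ g ∈ P, z * g * z⁻¹ * g ∈ zpowers y := by
  have hyn : (zpowers y).Normal := by
    refine ⟨fun n hn g => ?_⟩
    obtain ⟨k, rfl⟩ := mem_zpowers_iff.1 hn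
    have h1 : Commute g y := hyc g
    have h2 : g * y ^ k * g⁻¹ = y ^ k := by rw [(h1.zpow_right k).eq, mul_inv_cancel_right]
    rw [h2]
    exact hn
  let π := QuotientGroup.mk' (zpowers y)
  have h1 := inverts (P := P.map π) (z := π z) (by rw [← map_mul, hz, map_one]) (by
    rintro _ ⟨g, hg, rfl⟩
    exact ⟨z * g * z⁻¹, hn g hg, by rw [map_mul, map_mul, map_inv]⟩) (by
    rintro _ ⟨g, hg, rfl⟩ h
    have h2 : π (z * g * z⁻¹) = π g := by rw [map_mul, map_mul, map_inv]; exact h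
    have h3 : g⁻¹ * (z * g * z⁻¹) ∈ zpowers y := QuotientGroup.eq.1 h2.symm
    obtain ⟨i, hi⟩ := mem_zpowers_iff.1 h3
    have h4 : z * g * z⁻¹ = g * y ^ i := by rw [hi]; group
    have cz : Commute z (y ^ i) := (show Commute z y from hyc z).zpow_right i
    have h5 : g = g * (y ^ i * y ^ i) := by
      calc g = (z * z) * g * (z * z)⁻¹ := by rw [hz]; group
        _ = z * (z * g * z⁻¹) * z⁻¹ := by group
        _ = z * (g * y ^ i) * z⁻¹ := by rw [h4]
        _ = z * g * (y ^ i * z⁻¹) := by group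
        _ = z * g * (z⁻¹ * y ^ i) := by rw [cz.inv_left.eq]
        _ = (z * g * z⁻¹) * y ^ i := by group
        _ = g * (y ^ i * y ^ i) := by rw [h4]; group
    have h6 : y ^ i * y ^ i = 1 := by
      have h7 : g * 1 = g * (y ^ i * y ^ i) := by rw [mul_one]; exact h5
      exact (mul_left_cancel h7).symm
    have h7 : y ^ i = 1 := by
      obtain ⟨m, hm⟩ := hp2
      have h8 : (y ^ i) ^ p = 1 := by
        rw [← zpow_natCast, ← zpow_mul, mul_comm, zpow_mul, zpow_natCast, hy, one_zpow]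
      rw [hm, pow_succ, pow_mul, pow_two, h6, one_pow, one_mul] at h8
      exact h8
    rw [h7, mul_one] at h4
    exact (QuotientGroup.eq_one_iff g).2 (hfp g hg (mul_inv_eq_iff_eq_mul.1 h4)))
  intro g hg
  have h2 := h1 (π g) ⟨g, hg, rfl⟩
  have h3 : π (z * g * z⁻¹ * g) = 1 := by
    rw [map_mul, map_mul, map_mul, map_inv, h2, inv_mul_cancel]
  exact (QuotientGroup.eq_one_iff _).1 h3

variable {C : Type*} [Group C] [Finite C] {p : ℕ}

/-- **A four-group.** -/
theorem mem_zpowers_of_four (hp : p.Prime) (hp2 : p ≠ 2) {x y : C} (hx : orderOf x = p) (hy : orderOf y = p)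
    (hyc : ∀ g, g * y = y * g) (hr : x ∈ solvableRadical C)
    (hodd : ∀ t : C, orderOf t = 2 → x * t ≠ t * x)
    (hno : ∀ A : Subgroup C, (∀ a ∈ A, a * a = 1) → (∀ a ∈ A, x * a * x⁻¹ ∈ A) → A ≠ ⊥ →
      ∃ a ∈ A, a ≠ 1 ∧ x * a = a * x)
    (hcen : ∀ t : C, orderOf t = 2 → ¬ p ^ 2 ∣ Nat.card ↥(centralizer ({t} : Set C)))
    {e f : C} (he : orderOf e = 2) (hf : orderOf f = 2) (hef : e * f = f * e) (hne : e ≠ f) : x ∈ zpowers y := by
  classical
  have hpf : Fact p.Prime := ⟨hp⟩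
  have h2f : Fact (Nat.Prime 2) := ⟨Nat.prime_two⟩
  have hpodd : Odd p := hp.odd_of_ne_two hp2
  have hyp : y ^ p = 1 := by rw [← hy, pow_orderOf_eq_one]
  have hpx : IsPGroup p (zpowers x) := IsPGroup.of_card (n := 1) (by rw [Nat.card_zpowers, hx, pow_one])
  have hpy : IsPGroup p (zpowers y) := IsPGroup.of_card (n := 1) (by rw [Nat.card_zpowers, hy, pow_one])
  have hyn : (zpowers y).Normal := by
    refine ⟨fun n hn g => ?_⟩
    obtain ⟨k, rfl⟩ := mem_zpowers_iff.1 hn
    have h1 : Commute g y := hyc g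
    have h2 : g * y ^ k * g⁻¹ = y ^ k := by rw [(h1.zpow_right k).eq, mul_inv_cancel_right]
    rw [h2]
    exact hn
  have hyR : y ∈ solvableRadical C := by
    refine le_rad hyn ?_ (mem_zpowers y)
    infer_instance
  set R := solvableRadical C with hRdef
  have hRn : R.Normal := rad_normal C
  have hRs : Group.IsSolvable ↥R := rad_solvable C
  set N' := pPrimeCore p R with hN'def
  have hN'c : (Nat.card N').Coprime p := Lib.Cores.pPrimeCore_coprime p
  have hN'ch : N'.Characteristic := Lib.Cores.pPrimeCore_characteristic p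
  have hN'n : N'.Normal := inferInstance
  let N : Subgroup C := N'.map R.subtype
  have hNn : N.Normal := inferInstance
  have hNcard : Nat.card N = Nat.card N' := (Nat.card_congr (N'.equivMapOfInjective _ R.subtype_injective).toEquiv).symm
  -- `N` has odd order
  have hNodd : Odd (Nat.card N) := by
    by_contra hc
    rw [Nat.not_odd_iff_even] at hc
    let φ : zpowers x →* MulAut N := (MulAut.conjNormal (H := N)).comp (zpowers x).subtype
    have hpN : ¬ p ∣ Nat.card N := by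
      rw [hNcard]
      intro hd
      have h1 := Nat.dvd_gcd hd (dvd_refl p)
      rw [hN'c] at h1
      exact hp.one_lt.ne' (Nat.dvd_one.1 h1)
    obtain ⟨V, hV⟩ := exists_inv_sylow φ hpx hpN 2
    let V' : Subgroup C := (V : Subgroup N).map N.subtype
    have hV' : IsPGroup 2 V' := V.isPGroup'.map _
    have hVne : V' ≠ ⊥ := by
      intro h1
      have h2 : Nat.card V' = Nat.card (V : Subgroup N) :=
        (Nat.card_congr ((V : Subgroup N).equivMapOfInjective _ N.subtype_injective).toEquiv).symm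
      rw [h1, Subgroup.card_bot] at h2
      have h4 : 2 ∣ Nat.card V := V.dvd_card_of_dvd_card hc.two_dvd
      have h5 : Nat.card V = 1 := h2.symm
      rw [h5] at h4
      norm_num at h4
    have hVn : ∀ v ∈ V', x * v * x⁻¹ ∈ V' := by
      rintro _ ⟨v, hv, rfl⟩
      exact ⟨_, hV ⟨x, mem_zpowers x⟩ v hv, rfl⟩
    obtain ⟨A, hAV, hAne, hA1, hA2⟩ := exists_elab V' hV' hVne hVn
    obtain ⟨a, haA, ha1, hax⟩ := hno A hA1 hA2 hAne
    refine hodd a ?_ hax
    exact orderOf_eq_prime (by rw [pow_two, hA1 a haA]) ha1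
  -- the subgroup `L`
  let L' : Subgroup ↥R := LL p ↥R
  let L : Subgroup C := L'.map R.subtype
  have hLn : L.Normal := by
    refine ⟨?_⟩
    rintro _ ⟨l, hl, rfl⟩ g
    exact ⟨MulAut.conjNormal g l, LL_auto (MulAut.conjNormal g) hl, rfl⟩
  have hLodd : Odd (Nat.card ↥L) := by
    by_contra hc
    rw [Nat.not_odd_iff_even] at hc
    have h1 : 2 ∣ Nat.card ↥L' := by
      have : Nat.card ↥L = Nat.card ↥L' := card_map_of_injective R.subtype_injective
      rw [← this]
      exact hc.two_dvd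
    obtain ⟨t, ht⟩ := exists_prime_orderOf_dvd_card' 2 h1
    have h2 : QuotientGroup.mk' N' (t : ↥R) ∈ pCore p (↥R ⧸ N') := t.2
    obtain ⟨k, hk⟩ := Lib.Cores.pCore_isPGroup (G := ↥R ⧸ N') p ⟨_, h2⟩
    have h3 : (QuotientGroup.mk' N' (t : ↥R)) ^ p ^ k = 1 := congrArg Subtype.val hk
    have h4 : (QuotientGroup.mk' N' (t : ↥R)) ^ 2 = 1 := by
      rw [← map_pow]
      have h5 : t ^ 2 = 1 := by rw [← ht, pow_orderOf_eq_one]
      have h6 : (t : ↥R) ^ 2 = 1 := congrArg Subtype.val h5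
      rw [h6, map_one]
    have h5 : QuotientGroup.mk' N' (t : ↥R) = 1 := by
      have h6 : (p ^ k).Coprime 2 := Nat.Coprime.pow_left k ((Nat.coprime_primes hp Nat.prime_two).2 hp2)
      exact orderOf_eq_one_iff.1 (Nat.eq_one_of_dvd_coprimes h6 (orderOf_dvd_of_pow_eq_one h3)
        (orderOf_dvd_of_pow_eq_one h4))
    have h6 : (t : ↥R) ∈ N' := (QuotientGroup.eq_one_iff _).1 h5
    have h7 : orderOf (t : ↥R) ∣ Nat.card ↥N' := by
      rw [← Subgroup.orderOf_mk _ h6]
      exact orderOf_dvd_natCard _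
    rw [Subgroup.orderOf_coe, ht, ← hNcard] at h7
    exact (Nat.not_even_iff_odd.2 hNodd) (even_iff_two_dvd.2 h7)
  -- the four-group
  have hee : e * e = 1 := by rw [← pow_two, ← he, pow_orderOf_eq_one]
  have hff : f * f = 1 := by rw [← pow_two, ← hf, pow_orderOf_eq_one]
  have hef2 : orderOf (e * f) = 2 := by
    refine orderOf_eq_prime ?_ ?_
    · rw [pow_two]
      calc e * f * (e * f) = (e * f) * (f * e) := by rw [hef]
        _ = e * (f * f) * e := by group
        _ = 1 := by rw [hff, mul_one, hee]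
    · intro h1
      apply hne
      have h2 : e = f⁻¹ := eq_inv_of_mul_eq_one_left h1
      rw [h2]
      exact inv_eq_of_mul_eq_one_left hff
  have hefs : e * f * (e * f) = 1 := by rw [← pow_two, ← hef2, pow_orderOf_eq_one]
  let V : Subgroup C := zpowers e ⊔ zpowers f
  have hV : IsPGroup 2 ↥V := by
    refine IsPGroup.to_sup_of_normal_right' (IsPGroup.of_card (n := 1) (by rw [Nat.card_zpowers, he, pow_one]))
      (IsPGroup.of_card (n := 1) (by rw [Nat.card_zpowers, hf, pow_one])) ?_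
    rw [zpowers_le, mem_normalizer_iff]
    have hc : Commute e f := hef
    intro h
    constructor
    · intro hh
      obtain ⟨k, rfl⟩ := mem_zpowers_iff.1 hh
      rw [(hc.zpow_right k).eq, mul_inv_cancel_right]
      exact hh
    · intro hh
      obtain ⟨k, hk⟩ := mem_zpowers_iff.1 hh
      have h1 : h = f ^ k := by
        calc h = e⁻¹ * (e * h * e⁻¹) * e := by group
          _ = e⁻¹ * f ^ k * e := by rw [hk]
          _ = f ^ k := by rw [mul_assoc, ← (hc.zpow_right k).eq, inv_mul_cancel_left]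
      rw [h1]
      exact zpow_mem (mem_zpowers f) k
  have heV : e ∈ V := mem_sup_left (mem_zpowers e)
  have hfV : f ∈ V := mem_sup_right (mem_zpowers f)
  obtain ⟨P, hP⟩ := S0023.result V L (by rw [normalizer_eq_top]; exact le_top) (by
    obtain ⟨k, hk⟩ := IsPGroup.iff_card.1 hV
    rw [hk]
    exact Nat.Coprime.pow_left k ((Nat.coprime_two_left).2 hLodd)) (Or.inl (by
      have := hV.isNilpotent
      infer_instance)) p
  set P' : Subgroup C := (P : Subgroup ↥L).map L.subtype with hP'def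
  have hP'p : IsPGroup p ↥P' := P.isPGroup'.map _
  have hinvP : ∀ v ∈ V, ∀ a ∈ P', v * a * v⁻¹ ∈ P' := fun v hv a ha => (mem_normalizer_iff.1 (hP hv) a).1 ha
  -- `y ∈ P'`
  have hyL' : (⟨y, hyR⟩ : ↥R) ∈ L' := by
    obtain ⟨PR⟩ : Nonempty (Sylow p ↥R) := inferInstance
    exact mem_LL PR fun a _ => Subtype.ext (hyc a)
  have hyL : y ∈ L := ⟨⟨y, hyR⟩, hyL', rfl⟩
  have hyP : y ∈ P' := by
    have h1 : zpowers (⟨y, hyL⟩ : ↥L) ≤ pCore p ↥L := by
      refine Lib.Cores.le_pCore ?_ ?_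
      · refine ⟨fun n hn g => ?_⟩
        obtain ⟨k, rfl⟩ := mem_zpowers_iff.1 hn
        have h1 : Commute g (⟨y, hyL⟩ : ↥L) := Subtype.ext (hyc g)
        have h2 : g * (⟨y, hyL⟩ : ↥L) ^ k * g⁻¹ = (⟨y, hyL⟩ : ↥L) ^ k := by
          rw [(h1.zpow_right k).eq, mul_inv_cancel_right]
        rw [h2]
        exact hn
      · exact IsPGroup.of_card (n := 1) (by rw [Nat.card_zpowers, Subgroup.orderOf_mk, hy, pow_one])
    exact ⟨⟨y, hyL⟩, Lib.Cores.pCore_le_sylow P (h1 (mem_zpowers _)), rfl⟩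
  -- fixed points
  have hfix : ∀ v : C, orderOf v = 2 → ∀ a ∈ P', v * a = a * v → a ∈ zpowers y := by
    intro v hv a ha hva
    let D : Subgroup C := P' ⊓ centralizer ({v} : Set C)
    have hD : IsPGroup p ↥D := hP'p.to_le inf_le_left
    obtain ⟨k, hk⟩ := IsPGroup.iff_card.1 hD
    have hk1 : k ≤ 1 := by
      by_contra hlt
      apply hcen v hv
      refine (pow_dvd_pow p (by omega : 2 ≤ k)).trans ?_
      rw [← hk]
      exact card_dvd_of_le inf_le_right
    have hyD : zpowers y ≤ D := by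
      rw [zpowers_le]
      exact ⟨hyP, mem_centralizer_singleton_iff.2 (hyc v).symm⟩
    have h1 : zpowers y = D := by
      apply Subgroup.eq_of_le_of_card_ge hyD
      rw [hk, Nat.card_zpowers, hy]
      calc p ^ k ≤ p ^ 1 := Nat.pow_le_pow_right hp.pos hk1
        _ = p := pow_one p
    rw [h1]
    exact ⟨ha, mem_centralizer_singleton_iff.2 hva.symm⟩
  -- `P' = ⟨y⟩`
  have hPy : ∀ a ∈ P', a ∈ zpowers y := by
    intro a ha
    let π := QuotientGroup.mk' (zpowers y)
    have h1 : ∀ v ∈ V, orderOf v = 2 → ∀ a ∈ P', π (v * a * v⁻¹) = π a⁻¹ := by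
      intro v hv hv2 a ha
      have h2 := inverts_mod hpodd hyp hyc (P := P') (z := v) (by rw [← pow_two, ← hv2, pow_orderOf_eq_one])
        (hinvP v hv) (hfix v hv2) a ha
      have h3 : π (v * a * v⁻¹ * a) = 1 := (QuotientGroup.eq_one_iff _).2 h2
      rw [map_mul] at h3
      rw [map_inv]
      exact eq_inv_of_mul_eq_one_left h3
    have h2 := h1 f hfV hf a ha
    have h3 := h1 e heV he _ (hinvP f hfV a ha)
    have h4 := h1 (e * f) (mul_mem heV hfV) hef2 a ha
    have h5 : π (a * a) = 1 := by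
      have e1 : e * (f * a * f⁻¹) * e⁻¹ = e * f * a * (e * f)⁻¹ := by group
      rw [e1, h4, map_inv, map_inv, h2, map_inv, inv_inv] at h3
      rw [map_mul]
      nth_rewrite 1 [← h3]
      exact inv_mul_cancel _
    obtain ⟨k, hk⟩ := hP'p ⟨a, ha⟩
    have h6 : (π a) ^ p ^ k = 1 := by
      rw [← map_pow]
      have h7 : a ^ p ^ k = 1 := congrArg Subtype.val hk
      rw [h7, map_one]
    have h7 : (π a) ^ 2 = 1 := by rw [pow_two, ← map_mul, h5]
    have h8 : π a = 1 := by
      have h9 : (p ^ k).Coprime 2 := Nat.Coprime.pow_left k ((Nat.coprime_primes hp Nat.prime_two).2 hp2)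
      exact orderOf_eq_one_iff.1 (Nat.eq_one_of_dvd_coprimes h9 (orderOf_dvd_of_pow_eq_one h6)
        (orderOf_dvd_of_pow_eq_one h7))
    exact (QuotientGroup.eq_one_iff _).1 h8
  -- the core of `R / N'`
  have hLy : ∀ l ∈ L', ∃ j : ℤ, ∃ u ∈ N', l = (⟨y, hyR⟩ : ↥R) ^ j * u := by
    have hPR : IsPGroup p ↥(P'.subgroupOf R) := hP'p.comap_of_injective R.subtype R.subtype_injective
    obtain ⟨PR, hPR'⟩ := hPR.exists_le_sylow
    intro l hl
    obtain ⟨a, ha, haL, u, hu, rfl⟩ := LL_dec PR hl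
    have haP : (a : C) ∈ P' := by
      -- maximality of `P`
      let E : Subgroup ↥L := ((PR : Subgroup ↥R).map R.subtype).subgroupOf L
      have hE : IsPGroup p ↥E := (PR.isPGroup'.map R.subtype).comap_of_injective L.subtype L.subtype_injective
      have hPE : (P : Subgroup ↥L) ≤ E := by
        intro b hb
        have h1 : (b : C) ∈ P' := ⟨b, hb, rfl⟩
        have h2 : (b : C) ∈ R := (map_subtype_le L') b.2
        exact mem_subgroupOf.2 ⟨⟨b, h2⟩, hPR' (mem_subgroupOf.2 h1), rfl⟩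
      have h3 := P.is_maximal' hE hPE
      have h4 : (⟨(a : C), ⟨a, haL, rfl⟩⟩ : ↥L) ∈ E := mem_subgroupOf.2 ⟨a, ha, rfl⟩
      rw [h3] at h4
      exact ⟨_, h4, rfl⟩
    obtain ⟨j, hj⟩ := mem_zpowers_iff.1 (hPy _ haP)
    refine ⟨j, u, hu, ?_⟩
    congr 1
    exact Subtype.ext hj.symm
  have hxL : (⟨x, hr⟩ : ↥R) ∈ L' := by
    have h1 := S0017.result (G := ↥R ⧸ N') p (Lib.Cores.pPrimeCore_quotient_pPrimeCore p)
    apply h1
    rw [mem_centralizer_iff]
    intro b hb
    obtain ⟨l, rfl⟩ := QuotientGroup.mk'_surjective N' b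
    obtain ⟨j, u, hu, rfl⟩ := hLy l hb
    have h2 : QuotientGroup.mk' N' u = 1 := (QuotientGroup.eq_one_iff u).2 hu
    rw [map_mul, h2, mul_one, ← map_mul, ← map_mul]
    congr 1
    have h3 : Commute (⟨x, hr⟩ : ↥R) ⟨y, hyR⟩ := Subtype.ext (hyc x)
    exact (h3.zpow_right j).eq.symm
  obtain ⟨j, u, hu, hxu⟩ := hLy _ hxL
  have hxu' : x = y ^ j * u := congrArg Subtype.val hxu
  have hcu : Commute (y ^ j) (u : C) := ((show Commute (u : C) y from hyc u).zpow_right j).symm
  have h1 : ((u : ↥R) : C) ^ p = 1 := by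
    have h2 : x ^ p = 1 := by rw [← hx, pow_orderOf_eq_one]
    rw [hxu', hcu.mul_pow, ← zpow_natCast, ← zpow_mul, mul_comm, zpow_mul, zpow_natCast, hyp, one_zpow, one_mul] at h2
    exact h2
  have h2 : u = 1 := by
    have h3 : orderOf u ∣ p := orderOf_dvd_of_pow_eq_one (Subtype.ext h1)
    have h4 : orderOf u ∣ Nat.card ↥N' := by
      rw [← Subgroup.orderOf_mk u hu]
      exact orderOf_dvd_natCard _
    exact orderOf_eq_one_iff.1 (Nat.eq_one_of_dvd_coprimes hN'c.symm h3 h4)
  rw [hxu', h2]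
  exact mem_zpowers_iff.2 ⟨j, by simp⟩

end Cfsg.Agent.H109.Nr
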