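import Cfsg.Agent.H839.Rad.Base
import Cfsg.Agent.S0018
import Cfsg.Agent.Lib.Cores

/-!
# Radical elements of order `p` and four-groups (helper109, task 678 of helper839)

`false_of_four` : `y` central of order `p` in `C`, `x` of order `p` in the solvable radical of `C`, `p ^ 3 ∤ |C|`, `x`
commutes with no involution and acts without fixed points on no nontrivial elementary abelian 2-subgroup: then `C` contains
no four-group.
-/

set_option autoImplicit false

namespace Cfsg.Agent.H109.Nr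

open Subgroup Cfsg Cfsg.Agent.H459.Rad

variable {C : Type*} [Group C] [Finite C] {p : ℕ}

/-- an invariant Sylow `q`-subgroup -/
theorem exists_inv_sylow {A H : Type*} [Group A] [Group H] [Finite H] {p : ℕ} [Fact p.Prime] (φ : A →* MulAut H)
    (hA : IsPGroup p A) (hp : ¬ p ∣ Nat.card H) (q : ℕ) [Fact q.Prime] :
    ∃ P : Sylow q H, ∀ a, ∀ v ∈ P, φ a v ∈ P := by
  let act : MulDistribMulAction A H := MulDistribMulAction.compHom H φ
  have hcard : ¬ p ∣ Nat.card (Sylow q H) := by
    intro h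
    obtain ⟨P⟩ : Nonempty (Sylow q H) := inferInstance
    exact hp (h.trans (P.card_dvd_index.trans (Subgroup.index_dvd_card _)))
  obtain ⟨P, hP⟩ := hA.nonempty_fixed_point_of_prime_not_dvd_card (Sylow q H) hcard
  refine ⟨P, fun a x hx => ?_⟩
  have h1 : a • P = P := hP a
  have h2 : a • x ∈ a • P := ⟨x, hx, rfl⟩
  rw [h1] at h2
  exact h2

/-- an element that commutes with no involution -/
theorem odd_orderOf_of_comm {x g : C} (hodd : ∀ t : C, orderOf t = 2 → x * t ≠ t * x) (h : x * g = g * x) :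
    Odd (orderOf g) := by
  by_contra hc
  rw [Nat.not_odd_iff_even] at hc
  obtain ⟨k, hk⟩ := hc.two_dvd
  have hpos := orderOf_pos g
  have h2 : orderOf (g ^ k) = 2 := by
    have hk0 : k ≠ 0 := by omega
    rw [orderOf_pow' g hk0, hk]
    have : Nat.gcd (2 * k) k = k := Nat.gcd_eq_right (dvd_mul_left k 2)
    rw [this, Nat.mul_div_cancel _ (by omega)]
  have h3 : Commute x g := h
  exact hodd _ h2 (h3.pow_right k)

/-- an invariant 2-subgroup without fixed points contains an invariant elementary abelian subgroup -/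
theorem exists_elab {x : C} (V : Subgroup C) (hV : IsPGroup 2 V) (hne : V ≠ ⊥) (hn : ∀ v ∈ V, x * v * x⁻¹ ∈ V) :
    ∃ A : Subgroup C, A ≤ V ∧ A ≠ ⊥ ∧ (∀ a ∈ A, a * a = 1) ∧ ∀ a ∈ A, x * a * x⁻¹ ∈ A := by
  have : Fact (Nat.Prime 2) := ⟨Nat.prime_two⟩
  have hnt : Nontrivial V := (Subgroup.nontrivial_iff_ne_bot V).2 hne
  have hz : Nontrivial (center V) := hV.center_nontrivial
  let A : Subgroup C :=
    { carrier := {a | a ∈ V ∧ (∀ v ∈ V, a * v = v * a) ∧ a * a = 1}
      one_mem' := ⟨one_mem _, fun v _ => by simp, by simp⟩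
      mul_mem' := by
        rintro a b ⟨ha, ha1, ha2⟩ ⟨hb, hb1, hb2⟩
        refine ⟨mul_mem ha hb, fun v hv => ?_, ?_⟩
        · rw [mul_assoc, hb1 v hv, ← mul_assoc, ha1 v hv, mul_assoc]
        · calc a * b * (a * b) = a * (b * a) * b := by group
            _ = a * (a * b) * b := by rw [ha1 b hb]
            _ = (a * a) * (b * b) := by group
            _ = 1 := by rw [ha2, hb2, one_mul]
      inv_mem' := by
        rintro a ⟨ha, ha1, ha2⟩
        have : a⁻¹ = a := inv_eq_of_mul_eq_one_left ha2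
        rw [this]
        exact ⟨ha, ha1, ha2⟩ }
  -- the conjugation is onto
  have hn' : ∀ v ∈ V, x⁻¹ * v * x ∈ V := by
    have h1 : V.map (MulAut.conj x).toMonoidHom ≤ V := by
      rintro _ ⟨v, hv, rfl⟩
      exact hn v hv
    have h2 : V.map (MulAut.conj x).toMonoidHom = V :=
      Subgroup.eq_of_le_of_card_ge h1 (by rw [Subgroup.card_map_of_injective (MulAut.conj x).injective])
    intro v hv
    rw [← h2] at hv
    obtain ⟨w, hw, rfl⟩ := hv
    have : x⁻¹ * (MulAut.conj x).toMonoidHom w * x = w := by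
      show x⁻¹ * (x * w * x⁻¹) * x = w
      group
    rw [this]
    exact hw
  refine ⟨A, fun a ha => ha.1, ?_, fun a ha => ha.2.2, ?_⟩
  · have h2 : 2 ∣ Nat.card (center V) := by
      obtain ⟨k, hk⟩ := IsPGroup.iff_card.1 (hV.to_subgroup (center V))
      have h1 : 1 < Nat.card (center V) := Finite.one_lt_card
      rw [hk] at h1 ⊢
      exact dvd_pow_self 2 (by rintro rfl; simp at h1)
    obtain ⟨a, ha⟩ := exists_prime_orderOf_dvd_card' 2 h2
    intro hA
    have haa : a * a = 1 := by rw [← pow_two, ← ha, pow_orderOf_eq_one]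
    have h3 : ((a : V) : C) ∈ A := by
      refine ⟨(a : V).2, fun v hv => ?_, ?_⟩
      · exact (congrArg Subtype.val (Subgroup.mem_center_iff.1 a.2 ⟨v, hv⟩)).symm
      · exact congrArg Subtype.val (congrArg Subtype.val haa)
    rw [hA, Subgroup.mem_bot] at h3
    have h4 : a = 1 := Subtype.ext (Subtype.ext h3)
    rw [h4, orderOf_one] at ha
    norm_num at ha
  · rintro a ⟨ha, ha1, ha2⟩
    refine ⟨hn a ha, fun v hv => ?_, ?_⟩
    · have h1 := ha1 _ (hn' v hv)
      calc x * a * x⁻¹ * v = x * (a * (x⁻¹ * v * x)) * x⁻¹ := by group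
        _ = x * ((x⁻¹ * v * x) * a) * x⁻¹ := by rw [h1]
        _ = v * (x * a * x⁻¹) := by group
    · calc x * a * x⁻¹ * (x * a * x⁻¹) = x * (a * a) * x⁻¹ := by group
        _ = 1 := by rw [ha2]; group

/-- **No four-group.** -/
theorem false_of_four (hp : p.Prime) (hp2 : p ≠ 2) {x y : C} (hx : orderOf x = p) (hy : orderOf y = p)
    (hyc : ∀ g, g * y = y * g) (hxy : x ∉ zpowers y) (h3 : ¬ p ^ 3 ∣ Nat.card C) (hr : x ∈ solvableRadical C)
    (hodd : ∀ t : C, orderOf t = 2 → x * t ≠ t * x)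
    (hno : ∀ A : Subgroup C, (∀ a ∈ A, a * a = 1) → (∀ a ∈ A, x * a * x⁻¹ ∈ A) → A ≠ ⊥ →
      ∃ a ∈ A, a ≠ 1 ∧ x * a = a * x)
    {e f : C} (he : orderOf e = 2) (hf : orderOf f = 2) (hef : e * f = f * e) (hne : e ≠ f) : False := by
  classical
  have hpf : Fact p.Prime := ⟨hp⟩
  have h2f : Fact (Nat.Prime 2) := ⟨Nat.prime_two⟩
  -- the Sylow subgroup
  have hyn : (zpowers y).Normal := by
    refine ⟨fun n hn g => ?_⟩
    obtain ⟨k, rfl⟩ := mem_zpowers_iff.1 hn
    have h1 : Commute g y := hyc g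
    have h2 : g * y ^ k * g⁻¹ = y ^ k := by rw [(h1.zpow_right k).eq, mul_inv_cancel_right]
    rw [h2]
    exact hn
  have hyR : y ∈ solvableRadical C := by
    refine le_rad hyn ?_ (mem_zpowers y)
    infer_instance
  have hpx : IsPGroup p (zpowers x) := IsPGroup.of_card (n := 1) (by rw [Nat.card_zpowers, hx, pow_one])
  have hpy : IsPGroup p (zpowers y) := IsPGroup.of_card (n := 1) (by rw [Nat.card_zpowers, hy, pow_one])
  set P : Subgroup C := zpowers x ⊔ zpowers y with hPdef
  have hxP : x ∈ P := mem_sup_left (mem_zpowers x)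
  have hyP : y ∈ P := mem_sup_right (mem_zpowers y)
  have hPp : IsPGroup p P := hpx.to_sup_of_normal_right hpy
  have hPc : Nat.card P = p ^ 2 := by
    obtain ⟨k, hk⟩ := IsPGroup.iff_card.1 hPp
    have hk3 : k ≤ 2 := by
      by_contra hc
      refine h3 ?_
      have h1 : p ^ 3 ∣ Nat.card P := by
        rw [hk]
        exact pow_dvd_pow p (by omega)
      exact h1.trans (card_subgroup_dvd_card P)
    have hk1 : 1 < k := by
      by_contra hc
      have h1 : Nat.card P ≤ Nat.card (zpowers y) := by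
        rw [hk, Nat.card_zpowers, hy]
        calc p ^ k ≤ p ^ 1 := Nat.pow_le_pow_right hp.pos (by omega)
          _ = p := pow_one p
      have h2 := Subgroup.eq_of_le_of_card_ge (show zpowers y ≤ P from le_sup_right) h1
      exact hxy (h2 ▸ hxP)
    have : k = 2 := by omega
    rw [hk, this]
  have hab : ∀ a ∈ P, ∀ b ∈ P, a * b = b * a := by
    intro a ha b hb
    have hc := (IsPGroup.isMulCommutative_of_card_eq_prime_sq hPc).is_comm.comm (⟨a, ha⟩ : P) ⟨b, hb⟩
    exact congrArg Subtype.val hc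
  -- the elements of `P`
  have hmem : ∀ a ∈ P, ∃ i j : ℤ, a = x ^ i * y ^ j := by
    intro a ha
    rw [hPdef, Subgroup.mem_sup_of_normal_right] at ha
    obtain ⟨b, hb, c, hc, rfl⟩ := ha
    obtain ⟨i, rfl⟩ := mem_zpowers_iff.1 hb
    obtain ⟨j, rfl⟩ := mem_zpowers_iff.1 hc
    exact ⟨i, j, rfl⟩
  set R := solvableRadical C with hRdef
  have hRn : R.Normal := rad_normal C
  have hPR : P ≤ R := sup_le ((zpowers_le).2 hr) ((zpowers_le).2 hyR)
  -- Sylow subgroup of `R`
  have hPR1 : IsPGroup p (P.subgroupOf R) :=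
    IsPGroup.of_card (n := 2) (by rw [Nat.card_congr (subgroupOfEquivOfLe hPR).toEquiv, hPc])
  have hPR2 : ¬ p ∣ (P.subgroupOf R).index := by
    intro hd
    apply h3
    have h1 := (P.subgroupOf R).card_mul_index
    rw [Nat.card_congr (subgroupOfEquivOfLe hPR).toEquiv, hPc] at h1
    have h2 : p ^ 3 ∣ Nat.card R := by
      rw [← h1, pow_succ]
      exact Nat.mul_dvd_mul_left _ hd
    exact h2.trans (card_subgroup_dvd_card R)
  let S : Sylow p R := hPR1.toSylow hPR2
  have hS : ((S : Subgroup R)) = P.subgroupOf R := rfl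
  have hSc : IsMulCommutative (S : Subgroup R) := ⟨⟨fun a b => by
    apply Subtype.ext
    apply Subtype.ext
    exact hab _ a.2 _ b.2⟩⟩
  have hlen := Cfsg.Agent.S0018.result (G := R) p S hSc
  set N' := pPrimeCore p R with hN'def
  have hN'c : (Nat.card N').Coprime p := Lib.Cores.pPrimeCore_coprime p
  have hN'ch : N'.Characteristic := Lib.Cores.pPrimeCore_characteristic p
  let N : Subgroup C := N'.map R.subtype
  have hNn : N.Normal := inferInstance
  have hNR : N ≤ R := map_subtype_le _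
  have hNcard : Nat.card N = Nat.card N' := (Nat.card_congr (N'.equivMapOfInjective _ R.subtype_injective).toEquiv).symm
  -- `N` has odd order
  have hNodd : Odd (Nat.card N) := by
    by_contra hc
    rw [Nat.not_odd_iff_even] at hc
    let φ : zpowers x →* MulAut N := (MulAut.conjNormal (H := N)).comp (zpowers x).subtype
    have hpN : ¬ p ∣ Nat.card N := by
      rw [hNcard]
      intro hd
      have h1 := Nat.dvd_gcd hd (dvd_refl p)
      rw [hN'c] at h1
      exact hp.one_lt.ne' (Nat.dvd_one.1 h1)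
    obtain ⟨V, hV⟩ := exists_inv_sylow φ hpx hpN 2
    let V' : Subgroup C := (V : Subgroup N).map N.subtype
    have hV' : IsPGroup 2 V' := V.isPGroup'.map _
    have hVne : V' ≠ ⊥ := by
      intro h1
      have h2 : Nat.card V' = Nat.card (V : Subgroup N) :=
        (Nat.card_congr ((V : Subgroup N).equivMapOfInjective _ N.subtype_injective).toEquiv).symm
      rw [h1, Subgroup.card_bot] at h2
      have h4 : 2 ∣ Nat.card V := V.dvd_card_of_dvd_card hc.two_dvd
      have h5 : Nat.card V = 1 := h2.symm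
      rw [h5] at h4
      norm_num at h4
    have hVn : ∀ v ∈ V', x * v * x⁻¹ ∈ V' := by
      rintro _ ⟨v, hv, rfl⟩
      exact ⟨_, hV ⟨x, mem_zpowers x⟩ v hv, rfl⟩
    obtain ⟨A, hAV, hAne, hA1, hA2⟩ := exists_elab V' hV' hVne hVn
    obtain ⟨a, haA, ha1, hax⟩ := hno A hA1 hA2 hAne
    refine hodd a ?_ hax
    exact orderOf_eq_prime (by rw [pow_two, hA1 a haA]) ha1
  -- Frattini
  have hfr : normalizer (P : Set C) ⊔ N = ⊤ := by
    have h1 := Sylow.normalizer_sup_eq_top (N := R) S
    have h2 : (S : Subgroup R).map R.subtype = P := by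
      rw [hS, subgroupOf_map_subtype, inf_eq_left.2 hPR]
    rw [h2] at h1
    -- inside `R`
    have h4 : normalizer ((S : Subgroup R) : Set R) ⊔ ((S : Subgroup R) ⊔ N') = ⊤ := by
      have h5 := Sylow.normalizer_sup_eq_top (N := (S : Subgroup R) ⊔ N') (S.subtype le_sup_left)
      have h6 : ((S.subtype (le_sup_left : (S : Subgroup R) ≤ (S : Subgroup R) ⊔ N') :
          Sylow p ↥((S : Subgroup R) ⊔ N')) : Subgroup ↥((S : Subgroup R) ⊔ N')).map ((S : Subgroup R) ⊔ N').subtype =
            (S : Subgroup R) := by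
        rw [Sylow.coe_subtype, subgroupOf_map_subtype]
        exact inf_eq_left.2 le_sup_left
      rw [h6] at h5
      exact h5
    have h5 : normalizer ((S : Subgroup R) : Set R) ⊔ N' = ⊤ := by
      rw [← h4, ← sup_assoc]
      congr 1
      exact (sup_eq_left.2 le_normalizer).symm
    have h6 : R ≤ normalizer (P : Set C) ⊔ N := by
      intro r hr
      have h7 : (⟨r, hr⟩ : R) ∈ normalizer ((S : Subgroup R) : Set R) ⊔ N' := by rw [h5]; exact mem_top _
      rw [Subgroup.mem_sup_of_normal_right] at h7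
      obtain ⟨a, ha, b, hb, hab⟩ := h7
      have h8 : r = (a : C) * b := by
        have := congrArg Subtype.val hab
        exact this.symm
      rw [h8]
      refine mul_mem (mem_sup_left ?_) (mem_sup_right ⟨b, hb, rfl⟩)
      rw [mem_normalizer_iff] at ha ⊢
      intro h
      constructor
      · intro hh
        exact ((ha ⟨h, hPR hh⟩).1 (mem_subgroupOf.2 hh))
      · intro hh
        have hhR : h ∈ R := by
          have := hRn.conj_mem _ (hPR hh) (a : C)⁻¹
          have e1 : (a : C)⁻¹ * (a * h * (a : C)⁻¹) * (a : C)⁻¹⁻¹ = h := by group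
          rwa [e1] at this
        exact mem_subgroupOf.1 ((ha ⟨h, hhR⟩).2 (mem_subgroupOf.2 hh))
    rw [eq_top_iff, ← h1]
    exact sup_le le_sup_left h6
  have hPN : ∀ a ∈ P, a ∈ N → a = 1 := by
    intro a ha haN
    have h1 : orderOf a ∣ p ^ 2 := by
      rw [← hPc, ← Subgroup.orderOf_mk _ ha]
      exact orderOf_dvd_natCard _
    have h2 : orderOf a ∣ Nat.card N := by
      rw [← Subgroup.orderOf_mk _ haN]
      exact orderOf_dvd_natCard _
    have h4 : (p ^ 2).Coprime (Nat.card N) := by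
      rw [hNcard]
      exact Nat.Coprime.pow_left 2 hN'c.symm
    exact orderOf_eq_one_iff.1 (Nat.eq_one_of_dvd_coprimes h4 h1 h2)
  -- elements of `N(P)` whose square is in `N`
  have key : ∀ g ∈ normalizer (P : Set C), g * g ∈ N → (∃ j : ℤ, g * x * g⁻¹ = x * y ^ j) → g ∈ N := by
    rintro g hg hgg ⟨j, hj⟩
    -- `g ^ 2` centralizes `x`
    have h1 : (g * g) * x * (g * g)⁻¹ = x := by
      have h2 : (g * g) * x * (g * g)⁻¹ * x⁻¹ ∈ P := by
        refine mul_mem ?_ (inv_mem hxP)
        exact (mem_normalizer_iff.1 (mul_mem hg hg) x).1 hxP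
      have h4 : (g * g) * x * (g * g)⁻¹ * x⁻¹ ∈ N := by
        have e1 : (g * g) * x * (g * g)⁻¹ * x⁻¹ = (g * g) * (x * (g * g)⁻¹ * x⁻¹) := by group
        rw [e1]
        exact mul_mem hgg (hNn.conj_mem _ (inv_mem hgg) x)
      exact mul_inv_eq_one.1 (hPN _ h2 h4)
    have hgy : g * y = y * g := hyc g
    have h2 : (g * g) * x * (g * g)⁻¹ = x * y ^ (2 * j) := by
      have h5 : Commute g (y ^ j) := (show Commute g y from hgy).zpow_right j
      calc (g * g) * x * (g * g)⁻¹ = g * (g * x * g⁻¹) * g⁻¹ := by group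
        _ = g * (x * y ^ j) * g⁻¹ := by rw [hj]
        _ = g * x * (y ^ j * g⁻¹) := by group
        _ = g * x * (g⁻¹ * y ^ j) := by rw [(h5.inv_left).eq]
        _ = (g * x * g⁻¹) * y ^ j := by group
        _ = x * y ^ j * y ^ j := by rw [hj]
        _ = x * y ^ (2 * j) := by rw [mul_assoc, ← zpow_add, two_mul]
    have h4 : y ^ (2 * j) = 1 := by
      rw [h1] at h2
      have h6 : x * 1 = x * y ^ (2 * j) := by rw [mul_one]; exact h2
      exact (mul_left_cancel h6).symm
    have h5 : y ^ j = 1 := by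
      have h6 : y ^ (p : ℤ) = 1 := by rw [zpow_natCast, ← hy, pow_orderOf_eq_one]
      obtain ⟨m, hm⟩ := hp.odd_of_ne_two hp2
      have e1 : j = (p : ℤ) * j - (2 * j) * m := by rw [hm]; push_cast; ring
      rw [e1, zpow_sub, zpow_mul, zpow_mul, h6, h4, one_zpow, one_zpow]
      simp
    have hxg : x * g = g * x := by
      rw [h5, mul_one, mul_inv_eq_iff_eq_mul] at hj
      exact hj.symm
    obtain ⟨m, hm⟩ := odd_orderOf_of_comm hodd hxg
    have h7 : g = (g * g) ^ (m + 1) := by
      rw [← pow_two, ← pow_mul]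
      have e1 : 2 * (m + 1) = orderOf g + 1 := by rw [hm]; ring
      rw [e1, pow_succ, pow_orderOf_eq_one, one_mul]
    rw [h7]
    exact pow_mem hgg _
  -- representatives
  have hrep : ∀ g : C, ∃ n ∈ N, n * g ∈ normalizer (P : Set C) := by
    intro g
    have h1 : g ∈ normalizer (P : Set C) ⊔ N := by rw [hfr]; exact mem_top g
    rw [Subgroup.mem_sup_of_normal_right] at h1
    obtain ⟨m, hm, n, hn, rfl⟩ := h1
    refine ⟨m * n⁻¹ * m⁻¹, hNn.conj_mem _ (inv_mem hn) m, ?_⟩
    have e1 : m * n⁻¹ * m⁻¹ * (m * n) = m := by group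
    rw [e1]
    exact hm
  have hinv : ∀ t : C, orderOf t = 2 → t ∉ N := by
    intro t ht htN
    have h1 : orderOf t ∣ Nat.card N := by
      rw [← Subgroup.orderOf_mk _ htN]
      exact orderOf_dvd_natCard _
    rw [ht] at h1
    exact (Nat.not_even_iff_odd.2 hNodd) (even_iff_two_dvd.2 h1)
  -- the sign
  have hsign : ∀ t : C, orderOf t = 2 → ∃ n ∈ N, n * t ∈ normalizer (P : Set C) ∧
      ∃ j : ℤ, (n * t) * x * (n * t)⁻¹ = x⁻¹ * y ^ j := by
    intro t ht
    obtain ⟨n, hn, hnt⟩ := hrep t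
    refine ⟨n, hn, hnt, ?_⟩
    set g := n * t with hg
    have htt : t * t = 1 := by rw [← pow_two, ← ht, pow_orderOf_eq_one]
    have hgg : g * g ∈ N := by
      have e1 : g * g = n * (t * n * t⁻¹) := by
        rw [hg]
        calc n * t * (n * t) = n * (t * n * t⁻¹) * (t * t) := by group
          _ = n * (t * n * t⁻¹) := by rw [htt, mul_one]
      rw [e1]
      exact mul_mem hn (hNn.conj_mem _ hn t)
    have h1 : g * x * g⁻¹ ∈ P := (mem_normalizer_iff.1 hnt x).1 hxP
    obtain ⟨i, j, hij⟩ := hmem _ h1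
    have h2 : (g * g) * x * (g * g)⁻¹ = x := by
      have h2 : (g * g) * x * (g * g)⁻¹ * x⁻¹ ∈ P := by
        refine mul_mem ?_ (inv_mem hxP)
        exact (mem_normalizer_iff.1 (mul_mem hnt hnt) x).1 hxP
      have h4 : (g * g) * x * (g * g)⁻¹ * x⁻¹ ∈ N := by
        have e1 : (g * g) * x * (g * g)⁻¹ * x⁻¹ = (g * g) * (x * (g * g)⁻¹ * x⁻¹) := by group
        rw [e1]
        exact mul_mem hgg (hNn.conj_mem _ (inv_mem hgg) x)
      exact mul_inv_eq_one.1 (hPN _ h2 h4)
    have hgy : Commute g (y ^ j) := (show Commute g y from hyc g).zpow_right j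
    have hxy' : ∀ k l : ℤ, Commute (x ^ k) (y ^ l) := fun k l =>
      ((show Commute x y from hyc x).zpow_zpow k l)
    have h4 : x = x ^ (i * i) * y ^ (j * i + j) := by
      calc x = (g * g) * x * (g * g)⁻¹ := h2.symm
        _ = g * (g * x * g⁻¹) * g⁻¹ := by group
        _ = g * (x ^ i * y ^ j) * g⁻¹ := by rw [hij]
        _ = g * x ^ i * (y ^ j * g⁻¹) := by group
        _ = g * x ^ i * (g⁻¹ * y ^ j) := by rw [(hgy.inv_left).eq]
        _ = (g * x ^ i * g⁻¹) * y ^ j := by group
        _ = (g * x * g⁻¹) ^ i * y ^ j := by rw [conj_zpow]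
        _ = (x ^ i * y ^ j) ^ i * y ^ j := by rw [hij]
        _ = x ^ (i * i) * y ^ (j * i + j) := by
          rw [(hxy' i j).mul_zpow, ← zpow_mul, ← zpow_mul, mul_assoc, ← zpow_add]
    have h5 : x ^ (i * i - 1) ∈ zpowers y := by
      have h6 : x ^ (i * i - 1) = (y ^ (j * i + j))⁻¹ := by
        have h7 : x ^ (i * i) = x * (y ^ (j * i + j))⁻¹ := eq_mul_inv_of_mul_eq h4.symm
        rw [zpow_sub, zpow_one, h7]
        have h8 : Commute x (y ^ (j * i + j))⁻¹ := by
          have := (hxy' 1 (j * i + j)).inv_right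
          rwa [zpow_one] at this
        rw [h8.eq, mul_inv_cancel_right]
      rw [h6]
      exact inv_mem (zpow_mem (mem_zpowers y) _)
    have h6 : (p : ℤ) ∣ i * i - 1 := by
      by_contra hc
      -- `x` is a power
      apply hxy
      have hcop : IsCoprime (p : ℤ) (i * i - 1) := by
        rw [Int.isCoprime_iff_gcd_eq_one]
        have := (Nat.Prime.coprime_iff_not_dvd hp (n := (i * i - 1).natAbs)).2 (fun h => hc (Int.natCast_dvd.2 h))
        exact this
      obtain ⟨a, b, hab'⟩ := hcop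
      have h7 : x = x ^ ((i * i - 1) * b) := by
        have h8 : x ^ (p : ℤ) = 1 := by rw [zpow_natCast, ← hx, pow_orderOf_eq_one]
        have e1 : (i * i - 1) * b = 1 - (p : ℤ) * a := by linear_combination hab'
        rw [e1, zpow_sub, zpow_one, zpow_mul, h8, one_zpow, inv_one, mul_one]
      rw [h7, zpow_mul]
      exact zpow_mem h5 _
    have h7 : (p : ℤ) ∣ (i - 1) * (i + 1) := by
      have : (i - 1) * (i + 1) = i * i - 1 := by ring
      rwa [this]
    have hpi : Prime (p : ℤ) := Nat.prime_iff_prime_int.1 hp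
    have hxp : ∀ k : ℤ, (p : ℤ) ∣ k → x ^ k = 1 := by
      rintro k ⟨m, rfl⟩
      rw [zpow_mul, zpow_natCast, ← hx, pow_orderOf_eq_one, one_zpow]
    rcases hpi.dvd_or_dvd h7 with h8 | h8
    · exfalso
      refine hinv t ht ?_
      have h9 : x ^ i = x := by
        have := hxp _ h8
        rw [zpow_sub, zpow_one, mul_inv_eq_one] at this
        exact this
      have h10 : g ∈ N := key g hnt hgg ⟨j, by rw [hij, h9]⟩
      have h11 : t = n⁻¹ * g := by rw [hg]; group
      rw [h11]
      exact mul_mem (inv_mem hn) h10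
    · refine ⟨j, ?_⟩
      have h9 : x ^ i = x⁻¹ := by
        have := hxp _ h8
        rw [zpow_add, zpow_one] at this
        exact eq_inv_of_mul_eq_one_left this
      rw [hij, h9]
  obtain ⟨n, hn, hne', a, ha⟩ := hsign e he
  obtain ⟨m, hm, hmf, b, hb⟩ := hsign f hf
  have hee : e * e = 1 := by rw [← pow_two, ← he, pow_orderOf_eq_one]
  have hff : f * f = 1 := by rw [← pow_two, ← hf, pow_orderOf_eq_one]
  have hef2 : orderOf (e * f) = 2 := by
    refine orderOf_eq_prime ?_ ?_
    · rw [pow_two]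
      calc e * f * (e * f) = (e * f) * (f * e) := by rw [hef]
        _ = e * (f * f) * e := by group
        _ = 1 := by rw [hff, mul_one, hee]
    · intro h1
      apply hne
      have h2 : e = f⁻¹ := eq_inv_of_mul_eq_one_left h1
      rw [h2]
      exact inv_eq_of_mul_eq_one_left hff
  apply hinv _ hef2
  set g := n * e with hg
  set h := m * f with hh
  -- `g h` is in `e f N`
  have h1 : g * h = (n * (e * m * e⁻¹)) * (e * f) := by rw [hg, hh]; group
  have hn1 : n * (e * m * e⁻¹) ∈ N := mul_mem hn (hNn.conj_mem _ hm e)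
  have h2 : g * h ∈ N := by
    refine key _ (mul_mem hne' hmf) ?_ ?_
    · rw [h1]
      set k := n * (e * m * e⁻¹) with hk
      have hs : e * f * (e * f) = 1 := by rw [← pow_two, ← hef2, pow_orderOf_eq_one]
      have e1 : k * (e * f) * (k * (e * f)) = k * ((e * f) * k * (e * f)⁻¹) := by
        calc k * (e * f) * (k * (e * f)) = k * ((e * f) * k * (e * f)⁻¹) * (e * f * (e * f)) := by group
          _ = _ := by rw [hs, mul_one]
      rw [e1]
      exact mul_mem hn1 (hNn.conj_mem _ hn1 _)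
    · refine ⟨b - a, ?_⟩
      have hgy : Commute g (y ^ b) := (show Commute g y from hyc g).zpow_right b
      have hxa : Commute x (y ^ a) := (show Commute x y from hyc x).zpow_right a
      calc g * h * x * (g * h)⁻¹ = g * (h * x * h⁻¹) * g⁻¹ := by group
        _ = g * (x⁻¹ * y ^ b) * g⁻¹ := by rw [hb]
        _ = g * x⁻¹ * (y ^ b * g⁻¹) := by group
        _ = g * x⁻¹ * (g⁻¹ * y ^ b) := by rw [(hgy.inv_left).eq]
        _ = (g * x * g⁻¹)⁻¹ * y ^ b := by group
        _ = (x⁻¹ * y ^ a)⁻¹ * y ^ b := by rw [ha]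
        _ = (y ^ a)⁻¹ * x * y ^ b := by group
        _ = x * (y ^ a)⁻¹ * y ^ b := by rw [(hxa.inv_right).eq]
        _ = x * y ^ (b - a) := by rw [mul_assoc, ← zpow_neg, ← zpow_add]; congr 2; ring
  have h3 : e * f = (n * (e * m * e⁻¹))⁻¹ * (g * h) := by rw [h1]; group
  rw [h3]
  exact mul_mem (inv_mem hn1) h2

/-- fixed-point-free action on an elementary abelian 2-subgroup -/
theorem exists_pow {x : C} (hp : p.Prime) (hx : orderOf x = p) {A : Subgroup C} (hA : ∀ a ∈ A, a * a = 1)
    (hn : ∀ a ∈ A, x * a * x⁻¹ ∈ A) (hne : A ≠ ⊥) (hfix : ∀ a ∈ A, x * a = a * x → a = 1) :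
    ∃ m : ℕ, 1 ≤ m ∧ Nat.card A = 2 ^ m ∧ p ∣ 2 ^ m - 1 := by
  have hpf : Fact p.Prime := ⟨hp⟩
  have h2 : IsPGroup 2 A := fun a => ⟨1, Subtype.ext (by rw [pow_one, pow_two]; exact hA a a.2)⟩
  have h2f : Fact (Nat.Prime 2) := ⟨Nat.prime_two⟩
  obtain ⟨m, hm⟩ := IsPGroup.iff_card.1 h2
  have hnt : Nontrivial A := (Subgroup.nontrivial_iff_ne_bot A).2 hne
  have hm1 : 1 ≤ m := by
    by_contra hc
    have h1 : 1 < Nat.card A := Finite.one_lt_card
    rw [hm, show m = 0 by omega, pow_zero] at h1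
    omega
  refine ⟨m, hm1, hm, ?_⟩
  -- the action
  have hmap : A.map (MulAut.conj x).toMonoidHom = A := by
    refine Subgroup.eq_of_le_of_card_ge ?_ (by rw [Subgroup.card_map_of_injective (MulAut.conj x).injective])
    rintro _ ⟨a, ha, rfl⟩
    exact hn a ha
  have hxn : x ∈ normalizer (A : Set C) := by
    rw [mem_normalizer_iff]
    intro h
    constructor
    · exact hn h
    · intro hh
      rw [← hmap] at hh
      obtain ⟨w, hw, hw'⟩ := hh
      have : w = h := by
        have e1 : x * w * x⁻¹ = x * h * x⁻¹ := hw'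
        exact mul_left_cancel (mul_right_cancel e1)
      rw [← this]
      exact hw
  let φ : zpowers x →* MulAut A := (normalizerMonoidHom A).comp (Subgroup.inclusion ((zpowers_le).2 hxn))
  let act : MulAction (zpowers x) A := MulAction.compHom A φ
  have hP : IsPGroup p (zpowers x) := IsPGroup.of_card (n := 1) (by rw [Nat.card_zpowers, hx, pow_one])
  have h1 := hP.card_modEq_card_fixedPoints A
  have h3 : Nat.card (MulAction.fixedPoints (zpowers x) A) = 1 := by
    have : Unique (MulAction.fixedPoints (zpowers x) A) := {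
      default := ⟨1, fun g => map_one (φ g)⟩
      uniq := by
        rintro ⟨a, ha⟩
        apply Subtype.ext
        apply Subtype.ext
        refine hfix a a.2 ?_
        have h4 : φ ⟨x, mem_zpowers x⟩ a = a := ha ⟨x, mem_zpowers x⟩
        have h5 : x * (a : C) * x⁻¹ = a := congrArg Subtype.val h4
        rwa [mul_inv_eq_iff_eq_mul] at h5 }
    exact Nat.card_unique
  rw [h3, hm] at h1
  exact (Nat.modEq_iff_dvd' Nat.one_le_two_pow).1 h1.symm

/-- abelian Sylow subgroups -/
theorem sylow_comm {K : Type*} [Group K] [Finite K] {p : ℕ} (hp : p.Prime) (h3 : ¬ p ^ 3 ∣ Nat.card K) :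
    ∀ P : Sylow p K, ∀ a ∈ P, ∀ b ∈ P, a * b = b * a := by
  have hpf : Fact p.Prime := ⟨hp⟩
  intro P a ha b hb
  obtain ⟨n, hn⟩ := IsPGroup.iff_card.1 P.isPGroup'
  have hn2 : n ≤ 2 := by
    by_contra hc
    exact h3 ((pow_dvd_pow p (by omega : 3 ≤ n)).trans (hn ▸ card_subgroup_dvd_card _))
  have hcomm : IsMulCommutative (P : Subgroup K) := by
    interval_cases n
    · have : Subsingleton ↥(P : Subgroup K) := by
        rw [pow_zero] at hn
        exact (Nat.card_eq_one_iff_unique.1 hn).1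
      exact ⟨⟨fun a b => Subsingleton.elim _ _⟩⟩
    · rw [pow_one] at hn
      have := isCyclic_of_prime_card hn
      exact ⟨⟨fun a b => by
        obtain ⟨g, hg⟩ := IsCyclic.exists_generator (α := ↥(P : Subgroup K))
        obtain ⟨i, rfl⟩ := mem_zpowers_iff.1 (hg a)
        obtain ⟨j, rfl⟩ := mem_zpowers_iff.1 (hg b)
        rw [← zpow_add, ← zpow_add, add_comm]⟩⟩
    · exact IsPGroup.isMulCommutative_of_card_eq_prime_sq hn
  exact congrArg Subtype.val (hcomm.is_comm.comm (⟨a, ha⟩ : (P : Subgroup K)) ⟨b, hb⟩)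

/-- **The criterion**: abelian Sylow `p`-subgroups of order `p ^ 2`, radical elements commute with no involution, an
element `y` of order `p` commuting with a four-group. -/
theorem noRad_of_four {K : Type*} [Group K] [Finite K] {p : ℕ} (hp : p.Prime) (hp2 : p ≠ 2)
    (h3 : ¬ p ^ 3 ∣ Nat.card K)
    (hnc : ∀ x : K, orderOf x = p → RC (MulAut.conj x) → ∀ t : K, orderOf t = 2 → x * t ≠ t * x)
    {y : K} (hy : orderOf y = p) (hyc : y ∉ center K)
    (hno : ∀ A : Subgroup ↥(centralizer ({y} : Set K)), (∀ a ∈ A, a * a = 1) → ∀ m, 1 ≤ m →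
      Nat.card ↥A = 2 ^ m → ¬ p ∣ 2 ^ m - 1)
    {e f : K} (he : orderOf e = 2) (hf : orderOf f = 2) (hey : y * e = e * y) (hfy : y * f = f * y)
    (hef : e * f = f * e) (hne : e ≠ f) : H839.Rad.NoRad p K := by
  intro x hx h1 h2
  have hpf : Fact p.Prime := ⟨hp⟩
  have hab := sylow_comm hp h3
  -- conjugate `x`
  have hxp : IsPGroup p ↥(zpowers x) := IsPGroup.of_card (n := 1) (by rw [Nat.card_zpowers, hx, pow_one])
  have hyp : IsPGroup p ↥(zpowers y) := IsPGroup.of_card (n := 1) (by rw [Nat.card_zpowers, hy, pow_one])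
  obtain ⟨P, hP⟩ := hxp.exists_le_sylow
  obtain ⟨P', hP'⟩ := hyp.exists_le_sylow
  obtain ⟨g, hg⟩ := MulAction.exists_smul_eq K P P'
  obtain ⟨x', hx'⟩ : ∃ x', x' = g * x * g⁻¹ := ⟨_, rfl⟩
  have hmem : x' ∈ P' := by
    have : g * x * g⁻¹ ∈ (P' : Subgroup K) := by
      rw [← hg, Sylow.coe_subgroup_smul]
      exact smul_mem_pointwise_smul x (MulAut.conj g) _ (hP (mem_zpowers x))
    rw [hx']
    exact this
  have ho : orderOf x' = p := by rw [hx', ← MulAut.conj_apply, MulEquiv.orderOf_eq, hx]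
  have hrc : RC (MulAut.conj x') := by rw [hx']; exact H839.Rad.rc_conj h1 g
  have hcomm : x' * y = y * x' := hab P' _ hmem _ (hP' (mem_zpowers y))
  have hxC : x' ∈ centralizer ({y} : Set K) := mem_centralizer_singleton_iff.2 hcomm
  have hyC : y ∈ centralizer ({y} : Set K) := mem_centralizer_singleton_iff.2 rfl
  have heC : e ∈ centralizer ({y} : Set K) := mem_centralizer_singleton_iff.2 hey.symm
  have hfC : f ∈ centralizer ({y} : Set K) := mem_centralizer_singleton_iff.2 hfy.symm
  have htop : centralizer ({y} : Set K) ≠ ⊤ := by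
    intro h1
    apply hyc
    rw [mem_center_iff]
    intro g
    exact mem_centralizer_singleton_iff.1 (h1 ▸ mem_top g)
  refine false_of_four (C := ↥(centralizer ({y} : Set K))) (x := ⟨x', hxC⟩) (y := ⟨y, hyC⟩) (e := ⟨e, heC⟩)
    (f := ⟨f, hfC⟩) hp hp2 (by rw [Subgroup.orderOf_mk, ho]) (by rw [Subgroup.orderOf_mk, hy]) ?_ ?_ ?_ ?_ ?_ ?_
    (by rw [Subgroup.orderOf_mk, he]) (by rw [Subgroup.orderOf_mk, hf]) (Subtype.ext hef) ?_
  · intro g
    exact Subtype.ext (mem_centralizer_singleton_iff.1 g.2)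
  · intro hxy
    obtain ⟨k, hk⟩ := mem_zpowers_iff.1 hxy
    have hk' : y ^ k = x' := congrArg Subtype.val hk
    refine hnc x' ho hrc e he ?_
    rw [← hk']
    exact (show Commute y e from hey).zpow_left k
  · intro h
    exact h3 (h.trans (card_subgroup_dvd_card _))
  · exact H839.Rad.mem_rad hrc htop hxC
  · intro t ht hc
    exact hnc x' ho hrc t (by rw [Subgroup.orderOf_coe, ht]) (congrArg Subtype.val hc)
  · intro A hA hAn hAne
    by_contra hcon
    push Not at hcon
    obtain ⟨m, hm1, hm, hd⟩ := exists_pow (x := (⟨x', hxC⟩ : ↥(centralizer ({y} : Set K)))) hp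
      (by rw [Subgroup.orderOf_mk, ho]) hA hAn hAne (fun a ha hc => by
        by_contra h
        exact hcon a ha h hc)
    exact hno A hA m hm1 hm hd
  · intro h
    exact hne (congrArg Subtype.val h)

end Cfsg.Agent.H109.Nr
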