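import Cfsg.Agent.H109.NrGen
import Cfsg.Agent.S0144

/-!
# Radicals of centralizers: transfer lemmas (helper109, task 678 of helper839)

* `Lg y` : the elements of order `p` of the solvable radical of `C(y)` lie in `⟨y⟩`;
* `Lg.quot` : from `T` to a quotient by a central subgroup of exponent two;
* `lg_inf` : `C(x)/⟨x⟩ ≅ F`, `RadFree p (C_F(t))` ⟹ the elements of order `p` of the radical of `C(x) ∩ C(t)` lie in `⟨x⟩`;
* `radFree_of_perfect` : a perfect group of order `p m` whose quotients of order dividing `m` are solvable.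
-/

set_option autoImplicit false

namespace Cfsg.Agent.H109.Nr

open Subgroup Cfsg Cfsg.Agent.H459.Rad Cfsg.Agent.H459.Iface Cfsg.Agent.H839.Rad

/-- the elements of order `p` of the radical of `C(y)` lie in `⟨y⟩` -/
def Lg (p : ℕ) {K : Type*} [Group K] (y : K) : Prop :=
  ∀ u : ↥(centralizer ({y} : Set K)), orderOf u = p → u ∈ solvableRadical ↥(centralizer ({y} : Set K)) →
    (u : K) ∈ zpowers y

theorem solvable_of_ker {A B : Type*} [Group A] [Group B] (f : A →* B) (hB : Group.IsSolvable B)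
    (hk : ∀ a b : A, f a = 1 → f b = 1 → a * b = b * a) : Group.IsSolvable A := by
  have hker : Group.IsSolvable f.ker := Group.isSolvable_of_comm fun a b => Subtype.ext (hk a b a.2 b.2)
  exact Group.isSolvable_of_ker_le_range f.ker.subtype f (by rw [Subgroup.range_subtype])

/-- **Transfer to a quotient by a central subgroup of exponent two.** -/
theorem Lg.quot {p : ℕ} (hp : p.Prime) (hp2 : p ≠ 2) {T X : Type*} [Group T] [Finite T] [Group X] [Finite X]
    (q : T →* X) (hq : Function.Surjective q) (hk : ∀ k, q k = 1 → k * k = 1 ∧ ∀ g, g * k = k * g) {y : T}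
    (hy : orderOf y = p) (h : Lg p y) : Lg p (q y) := by
  obtain ⟨m, hm⟩ := hp.odd_of_ne_two hp2
  have hyp : y ^ p = 1 := by rw [← hy, pow_orderOf_eq_one]
  have hc1 : ∀ c : T, q c = 1 → c ^ p = c := by
    intro c hc
    rw [hm, pow_succ, pow_mul, pow_two, (hk c hc).1, one_pow, one_mul]
  -- centralizers
  have hcen : ∀ g : T, q g * q y = q y * q g → g * y = y * g := by
    intro g hg
    obtain ⟨c, hc⟩ : ∃ c, c = g * y * g⁻¹ * y⁻¹ := ⟨_, rfl⟩
    have hqc : q c = 1 := by
      rw [hc, map_mul, map_mul, map_mul, map_inv, map_inv, hg]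
      group
    have h1 : g * y * g⁻¹ = c * y := by rw [hc]; group
    have h2 : (g * y * g⁻¹) ^ p = 1 := by rw [conj_pow, hyp]; group
    have hcy : Commute c y := ((hk c hqc).2 y).symm
    rw [h1, hcy.mul_pow, hyp, mul_one, hc1 c hqc] at h2
    rw [h2, one_mul] at h1
    exact mul_inv_eq_iff_eq_mul.1 h1
  intro u hu hur
  obtain ⟨u0, hu0⟩ := hq (u : X)
  have hux : (u : X) ^ p = 1 := by
    rw [← hu, ← Subgroup.orderOf_coe, pow_orderOf_eq_one]
  have h1 : q (u0 ^ p) = 1 := by rw [map_pow, hu0, hux]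
  obtain ⟨u1, hu1⟩ : ∃ u1, u1 = u0 ^ (p + 1) := ⟨_, rfl⟩
  have hqu1 : q u1 = u := by rw [hu1, map_pow, hu0, pow_succ, hux, one_mul]
  have hu1p : u1 ^ p = 1 := by
    rw [hu1, ← pow_mul, mul_comm, pow_mul, hm, show 2 * m + 1 + 1 = 2 * (m + 1) by ring, pow_mul, ← hm, pow_two,
      (hk _ h1).1, one_pow]
  have hu1o : orderOf u1 = p := by
    have : Fact p.Prime := ⟨hp⟩
    refine orderOf_eq_prime hu1p ?_
    intro h2
    rw [h2, map_one] at hqu1
    have h3 : u = 1 := Subtype.ext hqu1.symm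
    rw [h3, orderOf_one] at hu
    exact hp.one_lt.ne hu
  have hu1c : u1 * y = y * u1 := hcen u1 (by rw [hqu1]; exact mem_centralizer_singleton_iff.1 u.2)
  -- the restriction of `q`
  let q' : ↥(centralizer ({y} : Set T)) →* ↥(centralizer ({q y} : Set X)) :=
    (q.comp (centralizer ({y} : Set T)).subtype).codRestrict _ fun g => mem_centralizer_singleton_iff.2 (by
      show q g * q y = q y * q g
      rw [← map_mul, ← map_mul, mem_centralizer_singleton_iff.1 g.2])
  have hN : (⟨u1, mem_centralizer_singleton_iff.2 hu1c⟩ : ↥(centralizer ({y} : Set T))) ∈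
      solvableRadical ↥(centralizer ({y} : Set T)) := by
    have hn : ((solvableRadical ↥(centralizer ({q y} : Set X))).comap q').Normal := inferInstance
    refine le_rad hn ?_ ?_
    · refine solvable_of_ker
        ((q'.comp ((solvableRadical ↥(centralizer ({q y} : Set X))).comap q').subtype).codRestrict
          (solvableRadical ↥(centralizer ({q y} : Set X))) fun g => g.2) inferInstance ?_
      intro a b ha _
      have ha' : q ((a : ↥(centralizer ({y} : Set T))) : T) = 1 :=
        congrArg (fun t : ↥(solvableRadical ↥(centralizer ({q y} : Set X))) =>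
          ((t : ↥(centralizer ({q y} : Set X))) : X)) ha
      exact Subtype.ext (Subtype.ext ((hk _ ha').2 _).symm)
    · have h3 : q' ⟨u1, mem_centralizer_singleton_iff.2 hu1c⟩ = u := Subtype.ext hqu1
      rw [Subgroup.mem_comap, h3]
      exact hur
  have h2 := h ⟨u1, mem_centralizer_singleton_iff.2 hu1c⟩ (by rw [Subgroup.orderOf_mk, hu1o]) hN
  obtain ⟨k, hk'⟩ := mem_zpowers_iff.1 h2
  rw [← hqu1]
  refine mem_zpowers_iff.2 ⟨k, ?_⟩
  rw [← map_zpow]
  exact congrArg q hk'

/-- **The intersection of two centralizers.** -/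
theorem lg_inf {p : ℕ} (hp : p.Prime) (hp2 : p ≠ 2) {G F : Type*} [Group G] [Finite G] [Group F] [Finite F] {x t : G}
    (hx : orderOf x = p) (ht : t * t = 1) (hxt : x * t = t * x) (f : ↥(centralizer ({x} : Set G)) →* F)
    (hf : Function.Surjective f) (hk : ∀ c, f c = 1 ↔ ∃ i : ℤ, x ^ i = (c : G))
    (hr : RadFree p ↥(centralizer ({f ⟨t, mem_centralizer_singleton_iff.2 hxt.symm⟩} : Set F))) :
    Lg p (⟨x, mem_centralizer_singleton_iff.2 hxt⟩ : ↥(centralizer ({t} : Set G))) := by
  obtain ⟨m, hm⟩ := hp.odd_of_ne_two hp2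
  have hxp : x ^ p = 1 := by rw [← hx, pow_orderOf_eq_one]
  set x' : ↥(centralizer ({t} : Set G)) := ⟨x, mem_centralizer_singleton_iff.2 hxt⟩ with hx'
  set t' : ↥(centralizer ({x} : Set G)) := ⟨t, mem_centralizer_singleton_iff.2 hxt.symm⟩ with ht'
  -- the map from `C_{C(t)}(x)`
  have hmem : ∀ u : ↥(centralizer ({x'} : Set ↥(centralizer ({t} : Set G)))),
      ((u : ↥(centralizer ({t} : Set G))) : G) ∈ centralizer ({x} : Set G) := fun u =>
    mem_centralizer_singleton_iff.2 (congrArg Subtype.val (mem_centralizer_singleton_iff.1 u.2))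
  let g0 : ↥(centralizer ({x'} : Set ↥(centralizer ({t} : Set G)))) →* ↥(centralizer ({x} : Set G)) :=
    ((centralizer ({t} : Set G)).subtype.comp (centralizer ({x'} : Set _)).subtype).codRestrict _ hmem
  have hg0 : ∀ u, ((g0 u : ↥(centralizer ({x} : Set G))) : G) = ((u : ↥(centralizer ({t} : Set G))) : G) := fun _ => rfl
  let g1 : ↥(centralizer ({x'} : Set ↥(centralizer ({t} : Set G)))) →* ↥(centralizer ({f t'} : Set F)) :=
    (f.comp g0).codRestrict _ fun u => mem_centralizer_singleton_iff.2 (by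
      show f (g0 u) * f t' = f t' * f (g0 u)
      rw [← map_mul, ← map_mul]
      congr 1
      exact Subtype.ext (mem_centralizer_singleton_iff.1 (u : ↥(centralizer ({t} : Set G))).2))
  have hg1 : Function.Surjective g1 := by
    rintro ⟨b, hb⟩
    obtain ⟨c, rfl⟩ := hf b
    rw [mem_centralizer_singleton_iff, ← map_mul, ← map_mul] at hb
    -- `c` commutes with `t`
    have h1 : f (c * t' * c⁻¹ * t'⁻¹) = 1 := by
      rw [map_mul, map_mul, map_inv, map_inv, hb, map_mul]
      group
    obtain ⟨i, hi⟩ := (hk _).1 h1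
    have hi' : (c : G) * t * (c : G)⁻¹ = x ^ i * t := by
      have h2 : x ^ i = (c : G) * t * (c : G)⁻¹ * t⁻¹ := hi
      rw [h2]
      group
    have h3 : (x ^ i * t) * (x ^ i * t) = 1 := by
      rw [← hi']
      calc (c : G) * t * (c : G)⁻¹ * ((c : G) * t * (c : G)⁻¹) = (c : G) * (t * t) * (c : G)⁻¹ := by group
        _ = 1 := by rw [ht]; group
    have hc : Commute (x ^ i) t := (show Commute x t from hxt).zpow_left i
    have h4 : x ^ i * x ^ i = 1 := by
      calc x ^ i * x ^ i = x ^ i * x ^ i * (t * t) := by rw [ht, mul_one]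
        _ = x ^ i * (x ^ i * t) * t := by group
        _ = x ^ i * (t * x ^ i) * t := by rw [hc.eq]
        _ = (x ^ i * t) * (x ^ i * t) := by group
        _ = 1 := h3
    have h5 : x ^ i = 1 := by
      have h6 : (x ^ i) ^ p = 1 := by rw [← zpow_natCast, ← zpow_mul, mul_comm, zpow_mul, zpow_natCast, hxp, one_zpow]
      rwa [hm, pow_succ, pow_mul, pow_two, h4, one_pow, one_mul] at h6
    rw [h5, one_mul, mul_inv_eq_iff_eq_mul] at hi'
    have hcx : (c : G) * x = x * c := mem_centralizer_singleton_iff.1 c.2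
    refine ⟨⟨⟨c, mem_centralizer_singleton_iff.2 hi'⟩, mem_centralizer_singleton_iff.2 (Subtype.ext hcx)⟩, ?_⟩
    apply Subtype.ext
    show f (g0 _) = f c
    congr 1
  intro u hu hur
  have h1 : g1 u ∈ solvableRadical ↥(centralizer ({f t'} : Set F)) := map_rad_le hg1 hur
  have h2 : orderOf (g1 u) ∣ p := hu ▸ orderOf_map_dvd g1 u
  have h3 : g1 u = 1 := by
    rcases (Nat.dvd_prime hp).1 h2 with h3 | h3
    · exact orderOf_eq_one_iff.1 h3
    · exact absurd h1 (hr _ h3)
  have h4 : f (g0 u) = 1 := congrArg Subtype.val h3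
  obtain ⟨i, hi⟩ := (hk _).1 h4
  refine mem_zpowers_iff.2 ⟨i, ?_⟩
  apply Subtype.ext
  show x ^ i = _
  exact hi

/-- **Perfect groups.** -/
theorem radFree_of_perfect {H : Type*} [Group H] [Finite H] (hperf : commutator H = ⊤) (hnt : Nontrivial H)
    {p a b : ℕ} (hp : p.Prime) (hcard : Nat.card H = 2 ^ a * 3 ^ b * p) : RadFree p H := by
  intro x hx hxr
  set R := solvableRadical H with hR
  have hRn : R.Normal := rad_normal H
  have h1 : p ∣ Nat.card R := by
    rw [← hx, ← Subgroup.orderOf_mk _ hxr]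
    exact orderOf_dvd_natCard _
  have h4 : Nat.card (H ⧸ R) ∣ 2 ^ a * 3 ^ b := by
    obtain ⟨k, hk⟩ := h1
    have h5 := Subgroup.card_eq_card_quotient_mul_card_subgroup R
    rw [hcard, hk] at h5
    have h6 : 2 ^ a * 3 ^ b = Nat.card (H ⧸ R) * k := by
      have : 2 ^ a * 3 ^ b * p = Nat.card (H ⧸ R) * k * p := by rw [h5]; ring
      exact Nat.eq_of_mul_eq_mul_right hp.pos this
    exact Dvd.intro _ h6.symm
  obtain ⟨c, d, hc, hd, hcd⟩ := (Nat.dvd_mul).1 h4
  obtain ⟨i, -, rfl⟩ := (Nat.dvd_prime_pow Nat.prime_two).1 hc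
  obtain ⟨j, -, rfl⟩ := (Nat.dvd_prime_pow Nat.prime_three).1 hd
  have hsol : Group.IsSolvable (H ⧸ R) :=
    Cfsg.Agent.S0144.result 2 3 i j Nat.prime_two Nat.prime_three hcd.symm
  have hH : Group.IsSolvable H := (Group.isSolvable_iff_subgroup_quotient R).2 ⟨inferInstance, hsol⟩
  have h5 := Group.IsSolvable.commutator_lt_top_of_nontrivial (G := H)
  rw [hperf] at h5
  exact lt_irrefl _ h5

end Cfsg.Agent.H109.Nr
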