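import Cfsg.Agent.H109.NrW

/-!
# Orders (helper109, task 678)

* `card_norm` : `|N(⟨w⟩)| |C(w) ∩ C(z)| = |C(w)| |N(⟨w⟩) ∩ C(z)|`;
* `relIndex_dvd` : `|N(⟨w⟩) ∩ C(z) : C(w) ∩ C(z)|` divides `p - 1`;
* `sylow_count` : `|C(z) : N(⟨w⟩) ∩ C(z)|` is 1 modulo `p`;
* `index_mod_eight` : `|C(w) : C(w) ∩ C(z)|` is 1 modulo `8`.
-/

set_option autoImplicit false

namespace Cfsg.Agent.H109.Nr.U

open Subgroup Cfsg Cfsg.Agent.H459.Rad Cfsg.Agent.H839.Rad Cfsg.Agent.H794.MonSec Cfsg.Agent.H794.MonCore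

variable {K : Type*} [Group K] [Finite K] {p : ℕ} {w z : K}

/-- the subgroup `N(⟨w⟩) ∩ C(z)` -/
def BB (w z : K) : Subgroup K := normalizer (zpowers w : Set K) ⊓ centralizer ({z} : Set K)

omit [Finite K] in
theorem mem_norm (hw : orderOf w ≠ 0) {g : K} : g ∈ normalizer (zpowers w : Set K) ↔ g * w * g⁻¹ ∈ zpowers w := by
  constructor
  · intro h
    exact (mem_normalizer_iff.1 h w).1 (mem_zpowers w)
  · intro h
    have hfin : Finite ↥(zpowers w) := by
      apply Nat.finite_of_card_ne_zero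
      rwa [Nat.card_zpowers]
    have h2 : (zpowers w).map (MulAut.conj g).toMonoidHom = zpowers w := by
      apply Subgroup.eq_of_le_of_card_ge
      · rw [MonoidHom.map_zpowers, zpowers_le]
        exact h
      · rw [card_map_of_injective (MulAut.conj g).injective]
    rw [mem_normalizer_iff]
    intro b
    constructor
    · intro hb
      rw [← h2]
      exact ⟨b, hb, rfl⟩
    · intro hb
      rw [← h2] at hb
      obtain ⟨c, hc, hcb⟩ := hb
      have h3 : g * c * g⁻¹ = g * b * g⁻¹ := hcb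
      rwa [mul_left_cancel (mul_right_cancel h3)] at hc

omit [Finite K] in
theorem cent_zpowers : centralizer (zpowers w : Set K) = centralizer ({w} : Set K) := by
  rw [zpowers_eq_closure, centralizer_closure]

omit [Finite K] in
theorem cent_le_norm : centralizer ({w} : Set K) ≤ normalizer (zpowers w : Set K) := by
  rw [← cent_zpowers]
  exact centralizer_le_normalizer _

omit [Finite K] in
theorem HH_eq : centralizer ({w} : Set K) ⊓ BB w z = HH w z := by
  unfold BB HH
  rw [← inf_assoc, inf_eq_left.2 cent_le_norm]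

/-- `N(⟨w⟩)` normalises `C(w)` -/
theorem norm_le (hw : orderOf w ≠ 0) : normalizer (zpowers w : Set K) ≤ normalizer (centralizer ({w} : Set K) : Set K) := by
  intro g hg
  refine Transfer.FusionBasic.mem_normalizer_of_conj_mem fun c hc => ?_
  have hg' : g⁻¹ ∈ normalizer (zpowers w : Set K) := inv_mem hg
  have h1 := (mem_norm hw).1 hg'
  rw [inv_inv] at h1
  obtain ⟨i, hi⟩ := mem_zpowers_iff.1 h1
  have hcw : Commute c w := mem_centralizer_singleton_iff.1 hc
  rw [mem_centralizer_singleton_iff]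
  have h2 : Commute c (g⁻¹ * w * g) := by
    rw [← hi]
    exact hcw.zpow_right i
  calc g * c * g⁻¹ * w = g * (c * (g⁻¹ * w * g)) * g⁻¹ := by group
    _ = g * ((g⁻¹ * w * g) * c) * g⁻¹ := by rw [h2.eq]
    _ = _ := by group

/-- **the order of `N(⟨w⟩)`** -/
theorem card_norm (hw : orderOf w ≠ 0) (hz2 : orderOf z = 2) (hzw : z * w = w * z)
    (only : ∀ t : K, t * w = w * t → t * z = z * t → t * t = 1 → t = 1 ∨ t = z) :
    Nat.card ↥(normalizer (zpowers w : Set K)) * Nat.card ↥(HH w z) =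
      Nat.card ↥(centralizer ({w} : Set K)) * Nat.card ↥(BB w z) := by
  have h1 : centralizer ({w} : Set K) ⊔ BB w z = normalizer (zpowers w : Set K) := by
    refine le_antisymm (sup_le cent_le_norm inf_le_left) fun g hg => ?_
    have hg1 := (mem_norm hw).1 hg
    obtain ⟨i, hi⟩ := mem_zpowers_iff.1 hg1
    -- `g z g⁻¹` commutes with `w`
    have hgi : (g⁻¹ * w * g) ∈ zpowers w := by
      have h2 := (mem_norm hw).1 (inv_mem hg)
      rwa [inv_inv] at h2
    obtain ⟨j, hj⟩ := mem_zpowers_iff.1 hgi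
    have hc : (g * z * g⁻¹) * w = w * (g * z * g⁻¹) := by
      have h2 : Commute z (g⁻¹ * w * g) := by
        rw [← hj]
        exact (show Commute z w from hzw).zpow_right j
      calc (g * z * g⁻¹) * w = g * (z * (g⁻¹ * w * g)) * g⁻¹ := by group
        _ = g * ((g⁻¹ * w * g) * z) * g⁻¹ := by rw [h2.eq]
        _ = _ := by group
    let D := centralizer ({w} : Set K)
    obtain ⟨d, hd⟩ := H573.conj_of_only (H := ↥D) (z := ⟨z, mem_centralizer_singleton_iff.2 hzw⟩)
      (t := ⟨g * z * g⁻¹, mem_centralizer_singleton_iff.2 hc⟩) (by rw [Subgroup.orderOf_mk, hz2])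
      (fun t ht htz => by
        rcases only t (mem_centralizer_singleton_iff.1 t.2) (congrArg Subtype.val htz) (congrArg Subtype.val ht) with h3 | h3
        · exact Or.inl (Subtype.ext h3)
        · exact Or.inr (Subtype.ext h3)) (by
          rw [Subgroup.orderOf_mk, ← MulAut.conj_apply, MulEquiv.orderOf_eq, hz2])
    have hdz : (d : K) * (g * z * g⁻¹) * (d : K)⁻¹ = z := congrArg Subtype.val hd
    have h2 : (d : K) * g ∈ BB w z := by
      refine mem_inf.2 ⟨mul_mem (cent_le_norm d.2) hg, mem_centralizer_singleton_iff.2 ?_⟩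
      rw [← mul_inv_eq_iff_eq_mul]
      calc (d : K) * g * z * ((d : K) * g)⁻¹ = (d : K) * (g * z * g⁻¹) * (d : K)⁻¹ := by group
        _ = z := hdz
    have h3 : g = (d : K)⁻¹ * (d * g) := by group
    rw [h3]
    exact mul_mem (mem_sup_left (inv_mem d.2)) (mem_sup_right h2)
  have h2 := H278.ThompsonSurj.card_sup_mul (K := centralizer ({w} : Set K)) (H := BB w z)
    (inf_le_left.trans (norm_le hw))
  rwa [h1, HH_eq] at h2

/-- **`|N(⟨w⟩) ∩ C(z) : C(w) ∩ C(z)|` divides `p - 1`** -/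
theorem relIndex_dvd (hp : p.Prime) (ow : orderOf w = p) : ∃ e, e ∣ p - 1 ∧
    Nat.card ↥(BB w z) = e * Nat.card ↥(HH w z) := by
  refine ⟨(HH w z).relIndex (BB w z), ?_, ?_⟩
  · have h0 : BB w z ≤ normalizer (zpowers w : Set K) := inf_le_left
    let φ : ↥(BB w z) →* MulAut ↥(zpowers w) := (zpowers w).normalizerMonoidHom.comp (inclusion h0)
    have hker : φ.ker = (HH w z).subgroupOf (BB w z) := by
      have h1 : φ.ker = ((zpowers w).normalizerMonoidHom.ker).comap (inclusion h0) := rfl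
      rw [h1, normalizerMonoidHom_ker, cent_zpowers]
      ext b
      rw [mem_comap, mem_subgroupOf, mem_subgroupOf, ← HH_eq]
      exact ⟨fun h => mem_inf.2 ⟨h, b.2⟩, fun h => (mem_inf.1 h).1⟩
    have h1 : (HH w z).relIndex (BB w z) = Nat.card ↥φ.range := by
      rw [← index_ker, hker]
      rfl
    rw [h1]
    refine (card_subgroup_dvd_card _).trans ?_
    rw [IsCyclic.card_mulAut, Nat.card_zpowers, ow, Nat.totient_prime hp]
  · rw [mul_comm]
    refine (card_mul_relIndex ?_).symm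
    rw [← HH_eq]
    exact inf_le_right

/-- **The Sylow `p`-subgroups of `C(z)`** -/
theorem sylow_count (hp : p.Prime) (ow : orderOf w = p) (hzw : z * w = w * z)
    (hcz : ¬ p ^ 2 ∣ Nat.card ↥(centralizer ({z} : Set K))) :
    ∃ n, n % p = 1 ∧ Nat.card ↥(centralizer ({z} : Set K)) = n * Nat.card ↥(BB w z) := by
  have hpf : Fact p.Prime := ⟨hp⟩
  let C := centralizer ({z} : Set K)
  have hwC : zpowers w ≤ C := zpowers_le.2 (mem_centralizer_singleton_iff.2 hzw.symm)
  let W : Subgroup ↥C := (zpowers w).subgroupOf C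
  have hWc : Nat.card ↥W = p := by
    rw [Nat.card_congr (Subgroup.subgroupOfEquivOfLe hwC).toEquiv, Nat.card_zpowers, ow]
  have hWi : ¬ p ∣ W.index := by
    intro h1
    apply hcz
    rw [← W.card_mul_index, hWc, pow_two]
    exact mul_dvd_mul_left _ h1
  let S : Sylow p ↥C := (IsPGroup.of_card (n := 1) (by rw [hWc, pow_one])).toSylow hWi
  have h1 := card_sylow_modEq_one p ↥C
  have h2 := S.card_eq_index_normalizer
  have h3 : normalizer (S : Set ↥C) = (BB w z).subgroupOf C := by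
    have h0 : orderOf w ≠ 0 := by rw [ow]; exact hp.ne_zero
    ext g
    rw [mem_subgroupOf]
    constructor
    · intro hg
      refine mem_inf.2 ⟨?_, g.2⟩
      rw [mem_norm h0]
      have h4 := (mem_normalizer_iff.1 hg ⟨w, hwC (mem_zpowers w)⟩).1 (mem_subgroupOf.2 (mem_zpowers w))
      exact mem_subgroupOf.1 h4
    · intro hg
      have hg1 := (mem_inf.1 hg).1
      refine mem_normalizer_iff.2 fun b => ?_
      exact mem_normalizer_iff.1 hg1 b
  have hB : BB w z ≤ C := inf_le_right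
  refine ⟨(BB w z).relIndex C, ?_, ?_⟩
  · have h4 : (BB w z).relIndex C = Nat.card (Sylow p ↥C) := by
      rw [h2, h3]
      rfl
    rw [h4, h1]
    exact Nat.mod_eq_of_lt hp.one_lt
  · rw [mul_comm]
    exact (card_mul_relIndex hB).symm

/-- a nonabelian 2-group has order divisible by 8 -/
theorem eight_dvd {Q : Subgroup K} (h2 : IsPGroup 2 ↥Q) {k l : K} (hk : k ∈ Q) (hl : l ∈ Q) (hkl : k * l ≠ l * k) :
    8 ∣ Nat.card ↥Q := by
  have h2f : Fact (Nat.Prime 2) := ⟨Nat.prime_two⟩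
  obtain ⟨n, hn⟩ := IsPGroup.iff_card.1 h2
  have h3 : 3 ≤ n := by
    by_contra hlt
    apply hkl
    rcases (show n = 0 ∨ n = 1 ∨ n = 2 by omega) with rfl | rfl | rfl
    · have h1 : Subsingleton ↥Q := (Nat.card_eq_one_iff_unique.1 (by rw [hn]; norm_num)).1
      exact congrArg Subtype.val (Subsingleton.elim ((⟨k, hk⟩ : ↥Q) * ⟨l, hl⟩) (⟨l, hl⟩ * ⟨k, hk⟩))
    · have h1 : IsCyclic ↥Q := isCyclic_of_prime_card (p := 2) (by rw [hn]; norm_num)
      have h3 := IsCyclic.isMulCommutative (α := ↥Q)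
      exact congrArg Subtype.val (h3.is_comm.comm (⟨k, hk⟩ : ↥Q) ⟨l, hl⟩)
    · exact congrArg Subtype.val (comm_of_sq Nat.prime_two hn (⟨k, hk⟩ : ↥Q) ⟨l, hl⟩)
  rw [hn]
  exact pow_dvd_pow 2 h3

/-- **`|C(w) : C(w) ∩ C(z)|`** -/
theorem index_mod_eight (hz2 : orderOf z = 2)
    (only : ∀ t : K, t * w = w * t → t * z = z * t → t * t = 1 → t = 1 ∨ t = z)
    {Q : Subgroup K} (h2 : IsPGroup 2 ↥Q) (hQw : ∀ q ∈ Q, q * w = w * q) (hQz : ∀ q ∈ Q, q * z = z * q)
    {k l : K} (hk : k ∈ Q) (hl : l ∈ Q) (hkl : k * l ≠ l * k) :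
    ∃ m, m % 8 = 1 ∧ Nat.card ↥(centralizer ({w} : Set K)) = m * Nat.card ↥(HH w z) := by
  let D := centralizer ({w} : Set K)
  let H : Subgroup ↥D := (HH w z).subgroupOf D
  have hzz : z * z = 1 := by rw [← pow_two, ← hz2, pow_orderOf_eq_one]
  have hQD : Q ≤ D := fun q hq => mem_centralizer_singleton_iff.2 (hQw q hq)
  let ι : ↥Q →* ↥D := inclusion hQD
  let act : MulAction ↥Q (↥D ⧸ H) := MulAction.compHom (↥D ⧸ H) ι
  have hsm : ∀ (q : ↥Q) (x : ↥D), q • ((x : ↥D) : ↥D ⧸ H) = ((ι q * x : ↥D) : ↥D ⧸ H) := fun q x => rfl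
  obtain ⟨j, hj⟩ := card_mod (A := ↥Q) (α := ↥D ⧸ H) (N := Nat.card ↥Q) (a₀ := ((1 : ↥D) : ↥D ⧸ H)) (by
    intro q
    rw [hsm]
    refine (QuotientGroup.eq.2 ?_).symm
    rw [inv_one, one_mul, mul_one]
    exact mem_subgroupOf.2 (mem_HH.2 ⟨hQw q q.2, hQz q q.2⟩)) (by
    intro x hx
    induction x using QuotientGroup.induction_on with
    | H x =>
      suffices hs : MulAction.stabilizer ↥Q ((x : ↥D) : ↥D ⧸ H) = ⊥ by rw [hs, index_bot]
      by_contra hne
      have h3 : Nat.card ↥(MulAction.stabilizer ↥Q ((x : ↥D) : ↥D ⧸ H)) ≠ 1 := fun h => hne (Subgroup.card_eq_one.1 h)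
      have h2f : Fact (Nat.Prime 2) := ⟨Nat.prime_two⟩
      obtain ⟨n, hn⟩ := IsPGroup.iff_card.1 (h2.to_subgroup (MulAction.stabilizer ↥Q ((x : ↥D) : ↥D ⧸ H)))
      have h4 : 2 ∣ Nat.card ↥(MulAction.stabilizer ↥Q ((x : ↥D) : ↥D ⧸ H)) := by
        rw [hn] at h3 ⊢
        apply dvd_pow_self
        rintro rfl
        exact h3 (pow_zero 2)
      obtain ⟨⟨⟨v, hvQ⟩, hvs⟩, hvo⟩ := exists_prime_orderOf_dvd_card' 2 h4
      have hvo' : orderOf v = 2 := by
        rw [Subgroup.orderOf_mk, Subgroup.orderOf_mk] at hvo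
        exact hvo
      have hv1 : v ≠ 1 := by
        rintro rfl
        rw [orderOf_one] at hvo'
        norm_num at hvo'
      have hvz : v = z := (only v (hQw v hvQ) (hQz v hvQ) (by rw [← pow_two, ← hvo', pow_orderOf_eq_one])).resolve_left hv1
      rw [MulAction.mem_stabilizer_iff, hsm] at hvs
      have h5 : x⁻¹ * (ι ⟨v, hvQ⟩ * x) ∈ H := QuotientGroup.eq.1 hvs.symm
      have h6 : (x : K)⁻¹ * (v * x) ∈ HH w z := mem_subgroupOf.1 h5
      obtain ⟨h7, h8⟩ := mem_HH.1 h6
      -- `x⁻¹ z x = z`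
      have h9 : (x : K)⁻¹ * (v * x) = z := by
        refine (only _ h7 h8 ?_).resolve_left ?_
        · rw [hvz]
          calc (x : K)⁻¹ * (z * x) * ((x : K)⁻¹ * (z * x)) = (x : K)⁻¹ * (z * z) * x := by group
            _ = 1 := by rw [hzz]; group
        · intro h10
          apply hv1
          calc v = (x : K) * ((x : K)⁻¹ * (v * x)) * (x : K)⁻¹ := by group
            _ = 1 := by rw [h10]; group
      apply hx
      refine (QuotientGroup.eq.2 ?_).symm
      rw [inv_one, one_mul]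
      refine mem_subgroupOf.2 (mem_HH.2 ⟨mem_centralizer_singleton_iff.1 x.2, ?_⟩)
      have h10 : z * (x : K) = x * z := by
        calc z * (x : K) = (x : K) * ((x : K)⁻¹ * (v * x)) := by rw [hvz]; group
          _ = x * z := by rw [h9]
      exact h10.symm)
  have h8 := eight_dvd h2 hk hl hkl
  refine ⟨Nat.card (↥D ⧸ H), ?_, ?_⟩
  · rw [hj]
    obtain ⟨c, hc⟩ := h8
    rw [hc, mul_assoc, Nat.add_mul_mod_self_left]
  · rw [mul_comm]
    have h9 : HH w z ≤ D := inf_le_left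
    exact (card_mul_relIndex h9).symm

end Cfsg.Agent.H109.Nr.U
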