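import Cfsg.Agent.H109.NrN

/-!
# The numerical contradiction for the Monster, `p = 13` (helper109, task 678)
-/

set_option autoImplicit false

namespace Cfsg.Agent.H109.Nr.U

set_option maxRecDepth 100000 in
theorem tab_he : ∀ c ∈ Nat.divisors 5616, ∀ e ∈ Nat.divisors 12, 13 ∣ c → 8 ∣ c → (e * (c / 13)) % 13 = 2 →
    e * (c / 13) = 288 := by decide +kernel

theorem tab_pow : ∀ a < 21, (288 * 3 ^ a) % 169 = (808017424794512875886459904961710757005754368000000000 / 2197) % 169 →
    (169 * 3 ^ a) % 8 ≠ 1 := by decide +kernel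

/-- the order of the Monster -/
def cM : ℕ := 808017424794512875886459904961710757005754368000000000

theorem numerics {cH cB cC cZ cW idx m e n : ℕ} (hH : cH ∣ 5616) (h13 : 13 ∣ cH) (h8 : 8 ∣ cH)
    (hB : cB = e * cH) (he : e ∣ 12) (hZ : cZ = n * cB) (hn : n % 13 = 1) (hZ' : cZ = 2 ^ 25 * 4157776806543360000)
    (hC : cC = m * cH) (hm : m % 8 = 1) (hW : cW * cH = cC * cB) (hK : cW * idx = cM) (hidx : idx % 169 = 1)
    (hq : ∀ q : ℕ, q.Prime → q ∣ m → q = 3 ∨ q = 13) (h3 : 13 ^ 3 ∣ cC) : False := by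
  have hcH0 : cH ≠ 0 := by
    rintro rfl
    norm_num at hH
  obtain ⟨h, rfl⟩ := h13
  have hh0 : 0 < h := by
    rcases Nat.eq_zero_or_pos h with rfl | h1
    · norm_num at hcH0
    · exact h1
  have h13h : ¬ 13 ∣ h := by
    rintro ⟨c, rfl⟩
    have h1 : 13 * 13 ∣ 5616 := (Dvd.intro c (by ring)).trans hH
    norm_num at h1
  -- `e h = 288`
  have heh : e * h = 288 := by
    have h1 := tab_he (13 * h) (Nat.mem_divisors.2 ⟨hH, by norm_num⟩) e (Nat.mem_divisors.2 ⟨he, by norm_num⟩)
      (dvd_mul_right 13 h) h8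
    rw [Nat.mul_div_cancel_left h (by norm_num)] at h1
    apply h1
    have h2 : n * (e * h) = 2 ^ 25 * 319828985118720000 := by
      have h3 : 13 * (n * (e * h)) = 13 * (2 ^ 25 * 319828985118720000) := by
        calc 13 * (n * (e * h)) = n * (e * (13 * h)) := by ring
          _ = cZ := by rw [hZ, hB]
          _ = _ := by rw [hZ']; norm_num
      exact Nat.eq_of_mul_eq_mul_left (by norm_num) h3
    have h3 : (n * (e * h)) % 13 = (e * h) % 13 := by
      rw [Nat.mul_mod, hn, one_mul, Nat.mod_mod]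
    rw [← h3, h2]
    norm_num
  have hW' : cW = m * cB := by
    rw [hC] at hW
    have h1 : cW * (13 * h) = (m * cB) * (13 * h) := by rw [hW]; ring
    exact Nat.eq_of_mul_eq_mul_right (by positivity) h1
  have hK' : m * 13 * 288 * idx = cM := by
    rw [← hK, hW', hB, ← heh]
    ring
  -- `m = 169 m'`
  have hm169 : 169 ∣ m := by
    rw [hC] at h3
    have h1 : 13 * 169 ∣ 13 * (m * h) := by
      have : m * (13 * h) = 13 * (m * h) := by ring
      rw [← this]
      exact (by norm_num : 13 * 169 = 13 ^ 3) ▸ h3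
    have h2 : 169 ∣ m * h := Nat.dvd_of_mul_dvd_mul_left (by norm_num) h1
    have h4 : Nat.Coprime 169 h := by
      have : Nat.Coprime (13 ^ 2) h := Nat.Coprime.pow_left 2 ((Nat.Prime.coprime_iff_not_dvd (by norm_num)).2 h13h)
      exact this
    exact h4.dvd_of_dvd_mul_right h2
  obtain ⟨m', rfl⟩ := hm169
  have hm'0 : m' ≠ 0 := by
    rintro rfl
    norm_num at hm
  have h13m : ¬ 13 ∣ m' := by
    rintro ⟨c, rfl⟩
    have h1 : 13 ^ 4 ∣ cM := by
      rw [← hK']
      exact Dvd.intro (c * 288 * idx) (by ring)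
    unfold cM at h1
    norm_num at h1
  have hpow := Nat.eq_prime_pow_of_unique_prime_dvd (p := 3) hm'0 (fun {q} hqp hqd => by
    rcases hq q hqp (hqd.mul_left 169) with h1 | h1
    · exact h1
    · exact absurd (h1 ▸ hqd) h13m)
  obtain ⟨a, ha⟩ : ∃ a, a = m'.primeFactorsList.length := ⟨_, rfl⟩
  rw [← ha] at hpow
  subst hpow
  have ha21 : a < 21 := by
    by_contra hlt
    have h1 : 3 ^ 21 ∣ cM := by
      rw [← hK']
      refine (pow_dvd_pow 3 (not_lt.1 hlt)).trans ?_
      exact Dvd.intro (169 * 13 * 288 * idx) (by ring)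
    unfold cM at h1
    norm_num at h1
  refine tab_pow a ha21 ?_ hm
  have h1 : 808017424794512875886459904961710757005754368000000000 / 2197 = 288 * 3 ^ a * idx := by
    apply Nat.div_eq_of_eq_mul_right (by norm_num)
    have : cM = 808017424794512875886459904961710757005754368000000000 := rfl
    rw [← this, ← hK']
    ring
  rw [h1, Nat.mul_mod (288 * 3 ^ a) idx, hidx, mul_one, Nat.mod_mod]

end Cfsg.Agent.H109.Nr.U
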