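import Cfsg.Agent.H109.NrM
import Cfsg.Agent.H109.NrFour
import Cfsg.Agent.H794.MonThirteen
import Cfsg.Agent.MThirteen.RowM
import Cfsg.Agent.H573.Spor.MThirteen

/-!
# Elements of order 13 of the Monster and four-groups (helper109, task 678)

* `exists_thirteen` : an element of order 13 commuting with a four-group;
* `mem_of_comm` : a radical element of order 13 does not commute with it.
-/

set_option autoImplicit false
set_option maxRecDepth 100000
set_option linter.constructorNameAsVariable false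

namespace Cfsg.Agent.H109.Nr.T

open Cfsg Cfsg.Lie Cfsg.Agent.Bimonster Cfsg.Agent.Bimonster.Tits Cfsg.Agent.BabyU
open Cfsg.Agent.MonsterX.KSide Cfsg.Agent.MonsterX.KLift Cfsg.Agent.MonsterX.KModel
open Cfsg.Agent.MonsterX.Model Cfsg.Agent.MonsterX.MainPack Cfsg.Agent.MonsterX.MainSimple
open Cfsg.Agent.MonsterX.MainBasic Cfsg.Agent.MonsterU.Assembly Cfsg.Agent.MonsterN.Lit Cfsg.Agent.MonsterN
open Cfsg.Agent.MonsterN.LitInst Cfsg.Agent.MonsterU.Lam2 Cfsg.Agent.MonsterU.TwoCls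
open Cfsg.Agent.BabyComp Cfsg.Agent.R01.Lifts
open Cfsg.Agent.BpSpor.MBigPure
open Subgroup

/-- an element of order `r` modulo the kernel -/
theorem dvd_lift {r : ℕ} (hr : r.Prime) (hr2 : r ≠ 2) {X B : Type*} [Group X] [Finite X] [Group B] [Finite B]
    {q : X →* B} {z : X} (hq : Ext q z) {y : X}
    (h : r ∣ Nat.card ↥(centralizer ({q y} : Set B))) : r ∣ Nat.card ↥(centralizer ({y} : Set X)) := by
  have : Fact r.Prime := ⟨hr⟩
  obtain ⟨g, hg⟩ := exists_prime_orderOf_dvd_card' r h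
  obtain ⟨k, hk⟩ := hq.surj (g : B)
  have hgc : (g : B) * q y = q y * g := mem_centralizer_singleton_iff.1 g.2
  have hgo : orderOf (g : B) = r := by rw [Subgroup.orderOf_coe, hg]
  have h1 : q (k * y * k⁻¹ * y⁻¹) = 1 := by
    rw [map_mul, map_mul, map_mul, map_inv, map_inv, hk, hgc]
    group
  have h2 : k * k * y = y * (k * k) := by
    have hkz := hq.comm k
    rcases (hq.ker _).1 h1 with h3 | h3
    · have h4 : k * y = y * k := by
        calc k * y = (k * y * k⁻¹ * y⁻¹) * (y * k) := by group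
          _ = y * k := by rw [h3, one_mul]
      rw [mul_assoc, h4, ← mul_assoc, h4, mul_assoc]
    · have h4 : k * y = z * (y * k) := by
        calc k * y = (k * y * k⁻¹ * y⁻¹) * (y * k) := by group
          _ = z * (y * k) := by rw [h3]
      calc k * k * y = k * (k * y) := by group
        _ = k * z * (y * k) := by rw [h4]; group
        _ = z * (k * y) * k := by rw [hkz]; group
        _ = (z * z) * y * k * k := by rw [h4]; group
        _ = y * (k * k) := by rw [hq.zz]; group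
  have hm : k * k ∈ centralizer ({y} : Set X) := mem_centralizer_singleton_iff.2 h2
  have h3 : orderOf (q (k * k)) = r := by
    have h4 : q (k * k) = (g : B) ^ 2 := by rw [map_mul, hk, pow_two]
    have h5 : Nat.gcd r 2 = 1 := (Nat.coprime_primes hr Nat.prime_two).2 hr2
    rw [h4, orderOf_pow, hgo, h5, Nat.div_one]
  have h4 : r ∣ orderOf (k * k) := by
    rw [← h3]
    exact orderOf_map_dvd q _
  rw [← Subgroup.orderOf_mk _ hm] at h4
  exact h4.trans (orderOf_dvd_natCard _)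

section

variable {V P W : Type} [AddCommGroup V] [Module ℚ V] [Group P] [AddCommGroup W] [Module ℚ W]
  {D : MData V} {M : KS ↥D.G V P W} {x₀ : P} {θ : leechLattice → P} {K₀ : Type} [Group K₀]

theorem exists_four (A : All D K₀) (H : Link D M x₀) (L : Lift M θ) {y : ℕ → D.G} (hP : PRel y) (hne : y 0 ≠ y 1)
    (hy : ∃ g : D.G, g * tG A.hG A.hR * g⁻¹ = y 10) {f₁ f₂ f₃ f₄ : BB M x₀}
    (Fc : FusionType.Facts (tb M x₀) f₁ f₂ f₃ f₄) {r : ℕ} (hr : r.Prime) (hr2 : r ≠ 2)
    (hrd : r ∣ 306129918735099415756800) :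
    ∃ u v w : BB M x₀, orderOf u = r ∧ orderOf v = 2 ∧ orderOf w = 2 ∧ u * v = v * u ∧ u * w = w * u ∧
      v * w = w * v ∧ v ≠ w := by
  have hfin : Finite D.G := G_finite A.hO
  have hfB : Finite Spor.BabyMonster := Nat.finite_of_card_ne_zero (by rw [BM.KHAll.card_B]; norm_num)
  obtain ⟨⟨h1, h2, h3⟩, h43⟩ := ModelB.fieldsKS A H L hP hne hy Cfsg.Agent.S1704.result H.x₀_mem
  obtain ⟨q, hq⟩ := NodesLit.exists_ext h1 h3 Fc.cen Fc.t_ne
  obtain ⟨yB, hyB, h10, hπ, -⟩ := LiftB.exists_pre_of_perfect fi_facts hq h2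
  have hy4 : q (yB 4) = PresentedGroup.of Spor.BabyMonster.Gen.t1 := hπ .t1
  have hcard : Nat.card (centralizer ({PresentedGroup.of Spor.BabyMonster.Gen.t1} : Set Spor.BabyMonster)) =
    306129918735099415756800 := BM.KHAll.card_cent .t1
  have hne1 : q (yB 4) ≠ 1 := by
    intro e
    have h3 : centralizer ({1} : Set Spor.BabyMonster) = ⊤ := by
      rw [eq_top_iff]
      intro x _
      rw [mem_centralizer_singleton_iff, mul_one, one_mul]
    rw [← hy4, e, h3, card_top, BM.KHAll.card_B] at hcard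
    norm_num at hcard
  have h2p : Fact (Nat.Prime 2) := ⟨Nat.prime_two⟩
  have h13 : Fact r.Prime := ⟨hr⟩
  have hw2 : orderOf (yB 4) = 2 := by
    refine orderOf_eq_prime ?_ fun e => hne1 (by rw [e, map_one])
    rw [pow_two]
    exact hyB.sq 4 (by norm_num) (by norm_num)
  have hd : r ∣ Nat.card ↥(centralizer ({yB 4} : Set (BB M x₀))) := by
    refine dvd_lift hr hr2 hq ?_
    rw [hy4, hcard]
    exact hrd
  obtain ⟨u, hu⟩ := exists_prime_orderOf_dvd_card' r hd
  have htz : ∀ b : BB M x₀, b * tb M x₀ = tb M x₀ * b := fun b => hq.comm b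
  refine ⟨u, tb M x₀, yB 4, by rw [Subgroup.orderOf_coe, hu], ?_, hw2, htz _,
    mem_centralizer_singleton_iff.1 u.2, (htz _).symm, ?_⟩
  · refine orderOf_eq_prime ?_ Fc.t_ne
    rw [pow_two]
    exact hq.zz
  · intro h
    apply hne1
    rw [← h]
    exact hq.mapz

end

open Cfsg.Agent.MonsterX Cfsg.Agent.MonsterX.InstData Cfsg.Agent.MonsterP Cfsg.Agent.BpSpor.MBigModel
open Cfsg.Agent.H459.Rad Cfsg.Agent.H459.Iface Cfsg.Agent.H839.Rad

/-- **elements of order `r` commuting with a four-group** -/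
theorem exists_fours {r : ℕ} (hr : r.Prime) (hr2 : r ≠ 2) (hrd : r ∣ 306129918735099415756800) :
    ∃ u v w : MG, orderOf u = r ∧ orderOf v = 2 ∧ orderOf w = 2 ∧ u * v = v * u ∧ u * w = w * u ∧
    v * w = w * v ∧ v ≠ w := by
  obtain ⟨f₁, f₂, f₃, f₄, Fc, -⟩ := FusInst.exists_facts LitFin.all KDone.lnk KDone.lft
    (MonsterU.TauInst.tauHyp (MonsterU.Final.cent InstanceFinal.mOrbit Instance.mTrans)) KDone.lnk.x₀_mem
  obtain ⟨u, v, w, hu, hv, hw, h1, h2, h3, h4⟩ := exists_four LitFin.all KDone.lnk KDone.lft (NodesGrp.prel LitFin.H)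
    (NodesNe.ne LitFin.H) LitFin.conj_ten Fc hr hr2 hrd
  exact ⟨u, v, w, by rw [Subgroup.orderOf_coe, hu], by rw [Subgroup.orderOf_coe, hv], by rw [Subgroup.orderOf_coe, hw],
    congrArg Subtype.val h1, congrArg Subtype.val h2, congrArg Subtype.val h3, fun h => h4 (Subtype.ext h)⟩

/-- an element of order 13 commuting with a four-group commutes with no conjugate of `z` -/
theorem not_comm_z {u v w : MG} (hu : orderOf u = 13) (hv : orderOf v = 2) (hw : orderOf w = 2) (huv : u * v = v * u)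
    (huw : u * w = w * u) (hvw : v * w = w * v) (hne : v ≠ w) (g : MG) : (g * zz * g⁻¹) * u ≠ u * (g * zz * g⁻¹) := by
  intro hc
  have := finite
  -- conjugate to `C(z)`
  obtain ⟨φ, hφ⟩ : ∃ φ : MG → MG, φ = fun a => g⁻¹ * a * g := ⟨_, rfl⟩
  have hφm : ∀ a b, φ (a * b) = φ a * φ b := fun a b => by rw [hφ]; group
  have hφo : ∀ a, orderOf (φ a) = orderOf a := fun a => by
    have := MulEquiv.orderOf_eq (MulAut.conj g⁻¹) a
    rw [MulAut.conj_apply, inv_inv] at this
    rw [hφ]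
    exact this
  have hφz : φ (g * zz * g⁻¹) = zz := by rw [hφ]; group
  have hc' : zz * φ u = φ u * zz := by rw [← hφz, ← hφm, ← hφm, hc]
  let x : centralizer ({zz} : Set MG) := ⟨φ u, mem_centralizer_singleton_iff.2 hc'.symm⟩
  have hx : orderOf x = 13 := by rw [← Subgroup.orderOf_coe]; exact (hφo u).trans hu
  have hcu : ∀ a, u * a = a * u → φ a ∈ centralizer ({(x : MG)} : Set MG) := by
    intro a ha
    rw [mem_centralizer_singleton_iff]
    show φ a * φ u = φ u * φ a
    rw [← hφm, ← hφm, ha]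
  have h2 : Fact (Nat.Prime 2) := ⟨Nat.prime_two⟩
  obtain ⟨c, hcv⟩ := H573.conj_of_only (H := ↥(centralizer ({(x : MG)} : Set MG)))
    (z := ⟨zz, mem_centralizer_singleton_iff.2 hc'⟩) (t := ⟨φ v, hcu v huv⟩)
    (by rw [Subgroup.orderOf_mk]; exact orderOf_zz)
    (Cfsg.Agent.BpMon.Thirteen.only_zD KDone.lft LThreeB.Row.cent hx)
    (by rw [Subgroup.orderOf_mk, hφo, hv])
  -- the other involution
  let w' : ↥(centralizer ({(x : MG)} : Set MG)) := c * ⟨φ w, hcu w huw⟩ * c⁻¹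
  have hww : w * w = 1 := by rw [← pow_two, ← hw, pow_orderOf_eq_one]
  have hw'2 : w' * w' = 1 := by
    have h3 : (⟨φ w, hcu w huw⟩ : ↥(centralizer ({(x : MG)} : Set MG))) * ⟨φ w, hcu w huw⟩ = 1 := by
      apply Subtype.ext
      show φ w * φ w = 1
      rw [← hφm, hww, hφ]
      group
    show c * ⟨φ w, hcu w huw⟩ * c⁻¹ * (c * ⟨φ w, hcu w huw⟩ * c⁻¹) = 1
    calc c * ⟨φ w, hcu w huw⟩ * c⁻¹ * (c * ⟨φ w, hcu w huw⟩ * c⁻¹) =
        c * (⟨φ w, hcu w huw⟩ * ⟨φ w, hcu w huw⟩) * c⁻¹ := by group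
      _ = 1 := by rw [h3]; group
  have hvw' : (⟨φ v, hcu v huv⟩ : ↥(centralizer ({(x : MG)} : Set MG))) * ⟨φ w, hcu w huw⟩ =
      ⟨φ w, hcu w huw⟩ * ⟨φ v, hcu v huv⟩ := by
    apply Subtype.ext
    show φ v * φ w = φ w * φ v
    rw [← hφm, ← hφm, hvw]
  have hw'z : w' * ⟨zz, mem_centralizer_singleton_iff.2 hc'⟩ = ⟨zz, mem_centralizer_singleton_iff.2 hc'⟩ * w' := by
    rw [← hcv]
    show c * ⟨φ w, hcu w huw⟩ * c⁻¹ * (c * ⟨φ v, hcu v huv⟩ * c⁻¹) =
      c * ⟨φ v, hcu v huv⟩ * c⁻¹ * (c * ⟨φ w, hcu w huw⟩ * c⁻¹)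
    calc c * ⟨φ w, hcu w huw⟩ * c⁻¹ * (c * ⟨φ v, hcu v huv⟩ * c⁻¹) =
        c * (⟨φ w, hcu w huw⟩ * ⟨φ v, hcu v huv⟩) * c⁻¹ := by group
      _ = c * (⟨φ v, hcu v huv⟩ * ⟨φ w, hcu w huw⟩) * c⁻¹ := by rw [hvw']
      _ = _ := by group
  rcases Cfsg.Agent.BpMon.Thirteen.only_zD KDone.lft LThreeB.Row.cent hx w' hw'2 hw'z with h3 | h3
  · have h4 : (⟨φ w, hcu w huw⟩ : ↥(centralizer ({(x : MG)} : Set MG))) = 1 := by
      calc (⟨φ w, hcu w huw⟩ : ↥(centralizer ({(x : MG)} : Set MG))) = c⁻¹ * w' * c := by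
            show _ = c⁻¹ * (c * ⟨φ w, hcu w huw⟩ * c⁻¹) * c
            group
        _ = 1 := by rw [h3]; group
    have h5 : φ w = 1 := congrArg Subtype.val h4
    have h6 := hφo w
    rw [h5, orderOf_one, hw] at h6
    norm_num at h6
  · apply hne
    have h4 : (⟨φ v, hcu v huv⟩ : ↥(centralizer ({(x : MG)} : Set MG))) = ⟨φ w, hcu w huw⟩ := by
      have h5 : c * ⟨φ v, hcu v huv⟩ * c⁻¹ = c * ⟨φ w, hcu w huw⟩ * c⁻¹ := hcv.trans h3.symm
      exact mul_left_cancel (mul_right_cancel h5)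
    have h5 : φ v = φ w := congrArg Subtype.val h4
    rw [hφ] at h5
    exact mul_left_cancel (mul_right_cancel h5)

/-- **a radical element of order 13 does not commute with it** -/
theorem ncomm_four {u v w : MG} (hu : orderOf u = 13) (hv : orderOf v = 2) (hw : orderOf w = 2) (huv : u * v = v * u)
    (huw : u * w = w * u) (hvw : v * w = w * v) (hne : v ≠ w) {x : MG} (hx : orderOf x = 13) (h : RC (MulAut.conj x)) :
    x * u ≠ u * x := by
  intro hxu
  have hfin := finite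
  have hp : Nat.Prime 13 := by norm_num
  have hodd : ∀ t : MG, orderOf t = 2 → x * t ≠ t * x := fun t ht => M.ncomm hp (by norm_num) hx h ht
  have huc : u ∉ center MG := by
    rw [center_model, Subgroup.mem_bot]
    rintro rfl
    rw [orderOf_one] at hu
    norm_num at hu
  have htop : centralizer ({u} : Set MG) ≠ ⊤ := by
    intro h1
    apply huc
    rw [mem_center_iff]
    intro g
    exact mem_centralizer_singleton_iff.1 (h1 ▸ mem_top g)
  have hxC : x ∈ centralizer ({u} : Set MG) := mem_centralizer_singleton_iff.2 hxu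
  have huC : u ∈ centralizer ({u} : Set MG) := mem_centralizer_singleton_iff.2 rfl
  have hvC : v ∈ centralizer ({u} : Set MG) := mem_centralizer_singleton_iff.2 huv.symm
  have hwC : w ∈ centralizer ({u} : Set MG) := mem_centralizer_singleton_iff.2 huw.symm
  have hno := Cfsg.Agent.MThirteen.TwoARow.no_two (x := u) (not_comm_z hu hv hw huv huw hvw hne)
  have key := mem_zpowers_of_four (C := ↥(centralizer ({u} : Set MG))) (x := ⟨x, hxC⟩) (y := ⟨u, huC⟩) (e := ⟨v, hvC⟩)
    (f := ⟨w, hwC⟩) hp (by norm_num) (by rw [Subgroup.orderOf_mk, hx]) (by rw [Subgroup.orderOf_mk, hu]) ?_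
    (H839.Rad.mem_rad h htop hxC) ?_ ?_ ?_ (by rw [Subgroup.orderOf_mk, hv]) (by rw [Subgroup.orderOf_mk, hw])
    (Subtype.ext hvw) ?_
  · obtain ⟨k, hk⟩ := mem_zpowers_iff.1 key
    have hk' : u ^ k = x := congrArg Subtype.val hk
    refine hodd v hv ?_
    rw [← hk']
    exact (show Commute u v from huv).zpow_left k
  · intro g
    exact Subtype.ext (mem_centralizer_singleton_iff.1 g.2)
  · intro t ht hc
    exact hodd t (by rw [Subgroup.orderOf_coe, ht]) (congrArg Subtype.val hc)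
  · intro A hA hAn hAne
    by_contra hcon
    push Not at hcon
    obtain ⟨m, hm1, hm, hd⟩ := exists_pow (x := (⟨x, hxC⟩ : ↥(centralizer ({u} : Set MG)))) hp
      (by rw [Subgroup.orderOf_mk, hx]) hA hAn hAne (fun a ha hc => by
        by_contra h
        exact hcon a ha h hc)
    exact hno A hA m hm1 (hm ▸ dvd_rfl) hd
  · exact fun t ht => BpSpor.MBigEleven.not_sq_in (Or.inr rfl) t ht
  · intro h
    exact hne (congrArg Subtype.val h)

end Cfsg.Agent.H109.Nr.T
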