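import Cfsg.Agent.H109.NrT1
import Cfsg.Agent.H109.NrCo
import Cfsg.Agent.H109.NrNum

/-!
# Radical elements of order 13 in the Monster (helper109, task 678 of helper839)

`noRad_M_thirteen`.
-/

set_option autoImplicit false
set_option maxRecDepth 100000
set_option linter.constructorNameAsVariable false

namespace Cfsg.Agent.H109.Nr.T

open Cfsg Cfsg.Agent.MonsterX Cfsg.Agent.MonsterX.InstData Cfsg.Agent.MonsterP Cfsg.Agent.BpSpor.MBigModel
open Cfsg.Agent.H459.Rad Cfsg.Agent.H459.Iface Cfsg.Agent.H839.Rad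
open Cfsg.Agent.H109.Nr.U Cfsg.Agent.H794 Cfsg.Agent.H794.MonThirteen Cfsg.Agent.H794.MonLift
open Cfsg.Agent.LThreeMB (fr KChart.Cent KChart.pi KChart.chart)
open Cfsg.Spor (Co1)
open Subgroup

/-- **The configuration.** -/
theorem hyp_zz : ∃ (x : ↥(centralizer ({zz} : Set MG))) (Q : Subgroup MG), orderOf x = 13 ∧ fr (pi x) = 1 ∧
    MonCube.Hyp 13 (x : MG) zz Q := by
  have hfin := finite
  have h := chart
  have h13 : Nat.Prime 13 := by norm_num
  obtain ⟨x, hx, hxs⟩ := MFive.KPair.exists_order h h13 (by decide) orderOf_s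
  have hx13 : x ^ 13 = 1 := by rw [← hx, pow_orderOf_eq_one]
  have hfr : fr (pi x) = 1 := BpMon.Thirteen.fr_pi KDone.lft LThreeB.Row.cent hx
  have hzx : zz * (x : MG) = x * zz := (mem_centralizer_singleton_iff.1 x.2).symm
  have only : ∀ t : MG, t * x = x * t → t * zz = zz * t → t * t = 1 → t = 1 ∨ t = zz := by
    intro t htx htz htt
    by_cases ht : t = 1
    · exact Or.inl ht
    · right
      exact BpMon.Thirteen.only_inv KDone.lft LThreeB.Row.cent (x := x) (t := ⟨t, mem_centralizer_singleton_iff.2 htz⟩) hx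
        (Subtype.ext htt) (fun h1 => ht (congrArg Subtype.val h1)) (Subtype.ext htx.symm)
  obtain ⟨k, hk, hkm⟩ := MonLift.exists_mem h h13 (by decide) hx13 (V := V) b_mem (by rw [hxs]; exact bs)
  obtain ⟨l, hl, hlm⟩ := MonLift.exists_mem h h13 (by decide) hx13 (V := V) c_mem (by rw [hxs]; exact cs)
  refine ⟨x, MonLift.lft pi x V, hx, hfr, ?_⟩
  refine ⟨?_, by rw [orderOf_coe, hx], by norm_num, hzx, only, isPGroup_lft h (by decide) hx13 hfr fun v hv => V_sq hv,
    fun q hq => lft_x hq, fun q hq => lft_z hq, z_mem h, ⟨k, hkm, l, hlm, not_comm h hx13 hfr only hk hl (lft_x hkm)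
      (lft_x hlm)⟩, ?_, ?_, ?_⟩
  · exact orderOf_zz
  · exact not_sq (Or.inr rfl) orderOf_zz
  · rw [card_M]
    norm_num
  · rw [card_M]
    norm_num

/-- **the order of `C(w) ∩ C(z)`** -/
theorem card_HH {x : ↥(centralizer ({zz} : Set MG))} (hx : orderOf x = 13) (hfr : fr (pi x) = 1) :
    Nat.card ↥(HH (x : MG) zz) ∣ 5616 := by
  have hfin := finite
  have hfin1 : Finite Co1 := BpSpor.MBigCo.finite_co1
  have hx13 : x ^ 13 = 1 := by rw [← hx, pow_orderOf_eq_one]
  let φ : ↥(HH (x : MG) zz) →* Co1 := pi.comp (inclusion (inf_le_right : HH (x : MG) zz ≤ centralizer ({zz} : Set MG)))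
  have hφ : ∀ h : ↥(HH (x : MG) zz), φ h = pi ⟨h, h.2.2⟩ := fun h => rfl
  have hs : orderOf (pi x) = 13 := by
    have : Fact (Nat.Prime 13) := ⟨by norm_num⟩
    refine orderOf_eq_prime (by rw [← map_pow, hx13, map_one]) ?_
    intro h1
    -- `pi x = 1`: `x ^ 4 = 1`
    have h2 : (x : MG) ∈ KDone.K.ι.range := (chart.pi_eq_one x).1 h1
    have h3 : (x : MG) ^ 4 = 1 := MFive.pow_four chart h2
    have h4 : orderOf (x : MG) ∣ 4 := orderOf_dvd_of_pow_eq_one h3
    rw [Subgroup.orderOf_coe, hx] at h4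
    norm_num at h4
  have hrange : Nat.card ↥φ.range ∣ Nat.card ↥(centralizer ({pi x} : Set Co1)) := by
    refine card_dvd_of_le ?_
    rintro _ ⟨h, rfl⟩
    rw [mem_centralizer_singleton_iff, hφ, ← map_mul, ← map_mul]
    congr 1
    apply Subtype.ext
    exact (mem_HH.1 h.2).1
  have hker : Nat.card ↥φ.ker ∣ 2 := by
    have h1 : ∀ a ∈ φ.ker, (a : MG) = 1 ∨ (a : MG) = zz := by
      intro a ha
      have h2 : pi ⟨a, a.2.2⟩ = 1 := MonoidHom.mem_ker.1 ha
      exact eq_of_pi_one chart (p := 13) (by decide) hx13 hfr (c := ⟨a, a.2.2⟩) h2 (mem_HH.1 a.2).1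
    have h2 : φ.ker.map (HH (x : MG) zz).subtype ≤ zpowers zz := by
      rintro _ ⟨a, ha, rfl⟩
      rcases h1 a ha with h3 | h3
      · show (a : MG) ∈ _
        rw [h3]
        exact one_mem _
      · show (a : MG) ∈ _
        rw [h3]
        exact mem_zpowers zz
    have h3 := card_dvd_of_le h2
    rwa [card_map_of_injective (HH (x : MG) zz).subtype_injective, Nat.card_zpowers, orderOf_zz] at h3
  have h1 : Nat.card ↥(HH (x : MG) zz) = Nat.card ↥φ.ker * Nat.card ↥φ.range := by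
    rw [← Subgroup.card_mul_index φ.ker, Subgroup.index_ker]
  rw [h1]
  exact (mul_dvd_mul hker hrange).trans (Co.card_cent_co1 hs)

/-! ### Numbers -/

theorem prime_cases {q : ℕ} (hq : q.Prime) (h : q ∣ cM) : q = 2 ∨ q = 3 ∨ q = 5 ∨ q = 7 ∨ q = 11 ∨ q = 13 ∨ q = 17 ∨
    q = 19 ∨ q = 23 ∨ q = 29 ∨ q = 31 ∨ q = 41 ∨ q = 47 ∨ q = 59 ∨ q = 71 := by
  have h1 : cM = 2 ^ 46 * (3 ^ 20 * (5 ^ 9 * (7 ^ 6 * (11 ^ 2 * (13 ^ 3 * (17 * (19 * (23 * (29 * (31 * (41 * (47 *
      (59 * 71))))))))))))) := by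
    unfold cM
    norm_num
  rw [h1] at h
  have key : ∀ {a b n : ℕ}, a.Prime → q ∣ a ^ n * b → q = a ∨ q ∣ b := by
    intro a b n ha h2
    rcases (Nat.Prime.dvd_mul hq).1 h2 with h3 | h3
    · exact Or.inl ((Nat.prime_dvd_prime_iff_eq hq ha).1 (hq.dvd_of_dvd_pow h3))
    · exact Or.inr h3
  have key1 : ∀ {a b : ℕ}, a.Prime → q ∣ a * b → q = a ∨ q ∣ b := by
    intro a b ha h2
    rcases (Nat.Prime.dvd_mul hq).1 h2 with h3 | h3
    · exact Or.inl ((Nat.prime_dvd_prime_iff_eq hq ha).1 h3)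
    · exact Or.inr h3
  rcases key (by norm_num) h with h | h
  · tauto
  rcases key (by norm_num) h with h | h
  · tauto
  rcases key (by norm_num) h with h | h
  · tauto
  rcases key (by norm_num) h with h | h
  · tauto
  rcases key (by norm_num) h with h | h
  · tauto
  rcases key (by norm_num) h with h | h
  · tauto
  rcases key1 (by norm_num) h with h | h
  · tauto
  rcases key1 (by norm_num) h with h | h
  · tauto
  rcases key1 (by norm_num) h with h | h
  · tauto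
  rcases key1 (by norm_num) h with h | h
  · tauto
  rcases key1 (by norm_num) h with h | h
  · tauto
  rcases key1 (by norm_num) h with h | h
  · tauto
  rcases key1 (by norm_num) h with h | h
  · tauto
  rcases key1 (by norm_num) h with h | h
  · tauto
  have h2 := (Nat.prime_dvd_prime_iff_eq hq (by norm_num)).1 h
  tauto

theorem tab_W : ∀ t ∈ [(2, 46), (3, 20), (5, 9), (7, 6), (11, 2), (17, 1), (19, 1), (23, 1), (29, 1), (31, 1), (41, 1),
    (47, 1), (59, 1), (71, 1)], ∀ j < t.2 + 1, 1 ≤ j → ¬ (13 ^ 2 ∣ t.1 ^ j - 1) := by decide +kernel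

theorem tab_pow_dvd : ∀ t ∈ [(2, 46), (3, 20), (5, 9), (7, 6), (11, 2), (17, 1), (19, 1), (23, 1), (29, 1), (31, 1), (41, 1),
    (47, 1), (59, 1), (71, 1)], ¬ (t.1 ^ (t.2 + 1) ∣ cM) := by decide +kernel

theorem hW_num : ∀ q : ℕ, q.Prime → q ≠ 13 → ∀ j, 1 ≤ j → q ^ j ∣ cM → ¬ 13 ^ 2 ∣ q ^ j - 1 := by
  intro q hq hq13 j hj hd
  have h1 : q ∣ cM := (dvd_pow_self q (by omega)).trans hd
  have key : ∀ t ∈ [(2, 46), (3, 20), (5, 9), (7, 6), (11, 2), (17, 1), (19, 1), (23, 1), (29, 1), (31, 1), (41, 1),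
      (47, 1), (59, 1), (71, 1)], t.1 = q → ¬ 13 ^ 2 ∣ q ^ j - 1 := by
    intro t ht htq
    subst htq
    refine tab_W t ht j ?_ hj
    by_contra hlt
    exact tab_pow_dvd t ht ((pow_dvd_pow t.1 (not_lt.1 hlt)).trans hd)
  rcases prime_cases hq h1 with h | h | h | h | h | h | h | h | h | h | h | h | h | h | h
  · exact key (2, 46) (by decide) h.symm
  · exact key (3, 20) (by decide) h.symm
  · exact key (5, 9) (by decide) h.symm
  · exact key (7, 6) (by decide) h.symm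
  · exact key (11, 2) (by decide) h.symm
  · exact absurd h hq13
  · exact key (17, 1) (by decide) h.symm
  · exact key (19, 1) (by decide) h.symm
  · exact key (23, 1) (by decide) h.symm
  · exact key (29, 1) (by decide) h.symm
  · exact key (31, 1) (by decide) h.symm
  · exact key (41, 1) (by decide) h.symm
  · exact key (47, 1) (by decide) h.symm
  · exact key (59, 1) (by decide) h.symm
  · exact key (71, 1) (by decide) h.symm

/-- conjugation into a subgroup of order `13 ^ 3` -/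
theorem conj_into {S : Subgroup MG} (hS : Nat.card ↥S = 13 ^ 3) {x : MG} (hx : orderOf x = 13) :
    ∃ g : MG, g * x * g⁻¹ ∈ S := by
  have hfin := finite
  have h13 : Fact (Nat.Prime 13) := ⟨by norm_num⟩
  have hSi : ¬ 13 ∣ S.index := by
    intro h1
    have h2 : 13 ^ 4 ∣ Nat.card MG := by
      rw [← S.card_mul_index, hS, pow_succ]
      exact mul_dvd_mul_left _ h1
    rw [card_M] at h2
    norm_num at h2
  let T : Sylow 13 MG := (IsPGroup.of_card hS).toSylow hSi
  have hx' : IsPGroup 13 ↥(zpowers x) := IsPGroup.of_card (n := 1) (by rw [Nat.card_zpowers, hx, pow_one])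
  obtain ⟨P', hP'⟩ := hx'.exists_le_sylow
  obtain ⟨k, hk⟩ := MulAction.exists_smul_eq MG P' T
  refine ⟨k, ?_⟩
  have h1 : k * x * k⁻¹ ∈ (T : Subgroup MG) := by
    rw [← hk, Sylow.coe_subgroup_smul]
    exact smul_mem_pointwise_smul x (MulAut.conj k) _ (hP' (mem_zpowers x))
  exact h1

/-- **the Sylow 13-subgroups are nonabelian if there is a radical element** -/
theorem nonab {x : MG} (hx : orderOf x = 13) (h : RC (MulAut.conj x)) {S : Subgroup MG} (hS : Nat.card ↥S = 13 ^ 3) :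
    ∃ a ∈ S, ∃ b ∈ S, a * b ≠ b * a := by
  have hfin := finite
  by_contra hcon
  push Not at hcon
  obtain ⟨u, v, t, hu, hv, ht, huv, hut, hvt, hne⟩ := exists_fours (r := 13) (by norm_num) (by norm_num) (by norm_num)
  obtain ⟨g, hg⟩ := conj_into hS hx
  obtain ⟨k, hk⟩ := conj_into hS hu
  have h1 := hcon _ hg _ hk
  have h2 : orderOf ((k⁻¹ * g) * x * (k⁻¹ * g)⁻¹) = 13 := by rw [← MulAut.conj_apply, MulEquiv.orderOf_eq, hx]
  refine ncomm_four hu hv ht huv hut hvt hne h2 (rc_conj h (k⁻¹ * g)) ?_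
  calc (k⁻¹ * g) * x * (k⁻¹ * g)⁻¹ * u = k⁻¹ * ((g * x * g⁻¹) * (k * u * k⁻¹)) * k := by group
    _ = k⁻¹ * ((k * u * k⁻¹) * (g * x * g⁻¹)) * k := by rw [h1]
    _ = _ := by group

/-- **The structure `Centre` if there is an element `x` of order 13 with `RC x`.** -/
theorem data_thirteen {x : MG} (hx : orderOf x = 13) (hRC : RC (MulAut.conj x)) :
    ∃ (w w₁ g : MG) (Q : Subgroup MG), Centre 13 w w₁ g Q ∧ IsPGroup 13 ↥Q ∧ ¬ 13 * Nat.card ↥Q ∣ Nat.card MG := by
  have hfin := finite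
  have h13 : Fact (Nat.Prime 13) := ⟨by norm_num⟩
  have hp : Nat.Prime 13 := by norm_num
  obtain ⟨xw, Q, ho, hfr, hyp⟩ := hyp_zz
  obtain ⟨w, hw⟩ : ∃ w : MG, w = xw := ⟨_, rfl⟩
  have hHH := card_HH ho hfr
  rw [← hw] at hyp hHH
  obtain ⟨R, hR, hwR, hRw, hQR, hRc, hno⟩ := hyp.exists_R
  obtain ⟨k, hk, l, hl, hkl⟩ := hyp.nc
  obtain ⟨N, hN⟩ := MonCore.exists_cfg hyp.hz (by rw [hyp.hx]; decide) hyp.zx hyp.only
  have hM4 : ¬ 13 ^ 4 ∣ Nat.card MG := hyp.h4
  have hcM : Nat.card MG = cM := card_M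
  have hna : ∀ S : Subgroup MG, Nat.card ↥S = 13 ^ 3 → ∃ a ∈ S, ∃ b ∈ S, a * b ≠ b * a := fun S hS => nonab hx hRC hS
  have hSC : SC 13 w R := SC.of_ne hp hyp.hx hRc hwR hRw (hna R hRc)
  by_cases hb0 : ∀ g : MG, g * w * g⁻¹ ∈ R → g * w * g⁻¹ ∈ zpowers w
  swap
  · push Not at hb0
    obtain ⟨g, hg, hgn⟩ := hb0
    obtain ⟨w₁, g₁, hcent⟩ := exists_centre_data hp (by norm_num) hM4 hSC hyp.q2 hyp.qx hQR hk hl (hno k hk l hl hkl) hg hgn
    exact ⟨w, w₁, g₁, R, hcent, hSC.isP hp, hSC.not_dvd hM4⟩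
  exfalso
  -- the index of `N(⟨w⟩)`
  have hidx := index_mod hp hM4 hSC hna hb0
  have hH2 : ¬ 13 ^ 2 ∣ Nat.card ↥(HH w zz) := by
    intro h1
    have h2 := h1.trans hHH
    norm_num at h2
  -- `(U)`
  have hU : ∀ P' : Subgroup MG, SC 13 w P' → ∀ M : Subgroup MG, M ≠ ⊤ → P' ≤ M → ∀ g ∈ M, g * w * g⁻¹ ∈ zpowers w := by
    intro P' hP' M hM hPM
    obtain ⟨g, hg⟩ := conj_into hP'.card hx
    have hog : orderOf (g * x * g⁻¹) = 13 := by rw [← MulAut.conj_apply, MulEquiv.orderOf_eq, hx]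
    refine norm_of_le hp hM4 hP' (by rw [hcM]; exact hW_num) ?_ hg ?_ (rc_conj hRC g) hM hPM
    · intro y hy
      obtain ⟨c, hc, hcR⟩ := exists_conj_in hp hM4 hSC (C := centralizer ({w} : Set MG))
        (fun a ha => mem_centralizer_singleton_iff.2 (hRw a ha)) (R := P') (hP'.isP hp)
        (fun a ha => mem_centralizer_singleton_iff.2 (hP'.cen a ha))
      have h1 := hcR _ hy
      have e : c * (y * w * y⁻¹) * c⁻¹ = (c * y) * w * (c * y)⁻¹ := by group
      rw [e] at h1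
      have h2 := hb0 _ h1
      rw [← e] at h2
      obtain ⟨i, hi⟩ := mem_zpowers_iff.1 h2
      have hcw : Commute c w := mem_centralizer_singleton_iff.1 hc
      refine mem_zpowers_iff.2 ⟨i, ?_⟩
      have h3 : c * (y * w * y⁻¹) * c⁻¹ = c * w ^ i * c⁻¹ := by
        rw [← hi, (hcw.zpow_right i).eq, mul_inv_cancel_right]
      exact (mul_left_cancel (mul_right_cancel h3)).symm
    · intro h1
      obtain ⟨i, hi⟩ := mem_zpowers_iff.1 h1
      refine Nr.M.ncomm hp (by norm_num) hog (rc_conj hRC g) orderOf_zz ?_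
      rw [← hi]
      exact ((show Commute w zz from hyp.zx.symm).zpow_left i).eq
  -- the primes dividing `|N|`
  have hNp : ∀ q : ℕ, q.Prime → q ∣ Nat.card ↥N → q = 3 ∨ q = 13 := by
    intro q hq hqN
    have hqH : q ≠ 2 → q ≠ 3 → q ≠ 13 → ¬ q ∣ Nat.card ↥(HH w zz) := by
      intro q2 q3 q13 h1
      have h2 : q ∣ 2 ^ 4 * (3 ^ 3 * 13) := h1.trans (hHH.trans (by norm_num))
      rcases (Nat.Prime.dvd_mul hq).1 h2 with h3 | h3
      · exact q2 ((Nat.prime_dvd_prime_iff_eq hq (by norm_num)).1 (hq.dvd_of_dvd_pow h3))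
      rcases (Nat.Prime.dvd_mul hq).1 h3 with h3 | h3
      · exact q3 ((Nat.prime_dvd_prime_iff_eq hq (by norm_num)).1 (hq.dvd_of_dvd_pow h3))
      · exact q13 ((Nat.prime_dvd_prime_iff_eq hq (by norm_num)).1 h3)
    have hfour : q ≠ 2 → q ≠ 3 → q ≠ 13 → q ∣ 306129918735099415756800 → ¬ q ∣ 12 → False := by
      intro q2 q3 q13 hd h12
      obtain ⟨u, v, t, hu, hv, ht, huv, hut, hvt, hne⟩ := exists_fours (r := q) hq q2 hd
      exact not_dvd_of_four hp hSC hN hH2 hyp.hz hyp.zx center_model hyp.only hU hq q13 h12 (hqH q2 q3 q13) hu hv ht huv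
        hut hvt hne hqN
    have hcyc : q ≠ 2 → q ≠ 3 → q ≠ 13 → ¬ q ^ 2 ∣ Nat.card MG → False := by
      intro q2 q3 q13 hd
      exact not_dvd_of_cyclic hN hyp.only hyp.q2 hyp.qx hyp.qz hyp.zQ hk hl hkl hq hd (hqH q2 q3 q13) hqN
    have hqM : q ∣ cM := by
      rw [← hcM]
      exact hqN.trans (card_subgroup_dvd_card N)
    rcases prime_cases hq hqM with rfl | rfl | rfl | rfl | rfl | rfl | rfl | rfl | rfl | rfl | rfl | rfl | rfl | rfl | rfl
    · exact absurd (even_iff_two_dvd.2 hqN) (Nat.not_even_iff_odd.2 hN.odd)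
    · exact Or.inl rfl
    · exact absurd (hfour (by norm_num) (by norm_num) (by norm_num) (by norm_num) (by norm_num)) id
    · exact absurd (hfour (by norm_num) (by norm_num) (by norm_num) (by norm_num) (by norm_num)) id
    · exact absurd (hfour (by norm_num) (by norm_num) (by norm_num) (by norm_num) (by norm_num)) id
    · exact Or.inr rfl
    all_goals exact absurd (hcyc (by norm_num) (by norm_num) (by norm_num) (by rw [card_M]; norm_num)) id
  -- the numbers
  have hw0 : orderOf w ≠ 0 := by rw [hyp.hx]; norm_num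
  obtain ⟨e, he, hB⟩ := relIndex_dvd (z := zz) hp hyp.hx
  obtain ⟨n, hn, hZ⟩ := sylow_count hp hyp.hx hyp.zx hyp.cz
  obtain ⟨m, hm, hC⟩ := index_mod_eight hyp.hz hyp.only hyp.q2 hyp.qx hyp.qz hk hl hkl
  have hW := card_norm hw0 hyp.hz hyp.zx hyp.only
  have hmN : m ∣ Nat.card ↥N := by
    have h1 := hN.card_cent
    have h2 : Nat.card ↥(centralizer ({w} : Set MG)) * Nat.card ↥(N ⊓ HH w zz) =
      Nat.card ↥N * Nat.card ↥(HH w zz) := h1
    rw [hC, mul_assoc, mul_comm (Nat.card ↥(HH w zz)), ← mul_assoc] at h2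
    exact Dvd.intro _ (Nat.eq_of_mul_eq_mul_right Nat.card_pos h2)
  refine numerics hHH ?_ ?_ hB he hZ hn card_cent_z hC hm hW (idx := (normalizer (zpowers w : Set MG)).index) ?_ hidx
    (fun q hq hqm => hNp q hq (hqm.trans hmN)) ?_
  · have h1 : zpowers w ≤ HH w zz := zpowers_le.2 (mem_HH.2 ⟨rfl, hyp.zx.symm⟩)
    have h2 := card_dvd_of_le h1
    rwa [Nat.card_zpowers, hyp.hx] at h2
  · refine (eight_dvd hyp.q2 hk hl hkl).trans (card_dvd_of_le fun q hq => mem_HH.2 ⟨hyp.qx q hq, hyp.qz q hq⟩)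
  · rw [← hcM]
    exact card_mul_index _
  · rw [← hRc]
    exact card_dvd_of_le fun a ha => mem_centralizer_singleton_iff.2 (hRw a ha)

/-- **The model.** -/
theorem noRad_thirteen : NoRad 13 MG := by
  have hfin := finite
  intro x hx hRC hPS
  obtain ⟨w, w₁, g, Q, hcent, hQ, hcard⟩ := data_thirteen hx hRC
  exact hcent.noRad_of_sylow (by norm_num) (by norm_num) center_model hQ hcard x hx hRC hPS

/-- **The Monster, `p = 13`.** -/
theorem noRad_M_thirteen {K : Type*} [Group K] [Finite K] (h : Cfsg.Spor.IsoM K) : NoRad 13 K := by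
  have hfin := finite
  obtain ⟨e⟩ := MonsterP.Equiv.equiv
  obtain ⟨f⟩ := h
  exact NoRad.congr (f.trans e) noRad_thirteen

end Cfsg.Agent.H109.Nr.T
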