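import Cfsg.Agent.H109.NrOrb
import Cfsg.Agent.H794.MonCube

/-!
# Sylow subgroups of order `p ^ 3` and radical elements (helper109, task 678)

`SC p w P` : `P` is a nonabelian subgroup of order `p ^ 3` with centre `⟨w⟩`. `p ^ 4` does not divide `|K|`.

* `exists_centre` : a conjugate of `w` in `P` outside of `⟨w⟩`: `NoRad p K`;
* `index_mod` : otherwise `|K : N(⟨w⟩)|` is 1 modulo `p ^ 2`;
* `comm_of_inv` : `w` centralises the `P`-invariant `q`-subgroups;
* `norm_of_le` : the proper subgroups containing `P` normalise `⟨w⟩`.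
-/

set_option autoImplicit false

namespace Cfsg.Agent.H109.Nr.U

open Subgroup Cfsg Cfsg.Agent.H459.Rad Cfsg.Agent.H839.Rad Cfsg.Agent.H794.MonSec

variable {K : Type*} [Group K] {p : ℕ} {w : K} {P : Subgroup K}

/-- `P` is nonabelian of order `p ^ 3` with centre `⟨w⟩` -/
structure SC (p : ℕ) (w : K) (P : Subgroup K) : Prop where
  ow : orderOf w = p
  card : Nat.card ↥P = p ^ 3
  mem : w ∈ P
  cen : ∀ a ∈ P, a * w = w * a
  comm : ∀ a ∈ P, ∀ b ∈ P, a * b * a⁻¹ * b⁻¹ ∈ zpowers w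
  hz : ∀ c ∈ P, (∀ a ∈ P, c * a = a * c) → c ∈ zpowers w
  ne : ∃ a ∈ P, ∃ b ∈ P, a * b ≠ b * a

/-- groups of order `p ^ 2` are abelian -/
theorem comm_of_sq {Y : Type*} [Group Y] (hp : p.Prime) (h : Nat.card Y = p ^ 2) (a b : Y) : a * b = b * a := by
  have : Fact p.Prime := ⟨hp⟩
  exact (IsPGroup.isMulCommutative_of_card_eq_prime_sq h).is_comm.comm a b

/-- a nonabelian group of order `p ^ 3` -/
theorem SC.of_ne (hp : p.Prime) (ow : orderOf w = p) (card : Nat.card ↥P = p ^ 3) (mem : w ∈ P)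
    (cen : ∀ a ∈ P, a * w = w * a) (ne : ∃ a ∈ P, ∃ b ∈ P, a * b ≠ b * a) : SC p w P := by
  have hpf : Fact p.Prime := ⟨hp⟩
  have hfin : Finite ↥P := Nat.finite_of_card_ne_zero (by rw [card]; exact pow_ne_zero 3 hp.ne_zero)
  let w' : ↥P := ⟨w, mem⟩
  have hw' : orderOf w' = p := by rw [Subgroup.orderOf_mk, ow]
  have hcen : zpowers w' ≤ center ↥P := zpowers_le.2 (mem_center_iff.2 fun a => Subtype.ext (cen a a.2))
  have hn : (zpowers w').Normal := ⟨fun a ha d => by
    have h1 := mem_center_iff.1 (hcen ha) d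
    rwa [h1, mul_inv_cancel_right]⟩
  have hq : Nat.card (↥P ⧸ zpowers w') = p ^ 2 := by
    have h1 := (zpowers w').card_mul_index
    rw [Nat.card_zpowers, hw', card, pow_succ, mul_comm] at h1
    exact Nat.eq_of_mul_eq_mul_right hp.pos h1
  have hmem : ∀ a : ↥P, a ∈ zpowers w' → (a : K) ∈ zpowers w := by
    intro a ha
    obtain ⟨i, rfl⟩ := mem_zpowers_iff.1 ha
    exact mem_zpowers_iff.2 ⟨i, rfl⟩
  -- the centre
  have hZ : center ↥P = zpowers w' := by
    by_contra hcon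
    have h1 : zpowers w' < center ↥P := lt_of_le_of_ne hcen (Ne.symm hcon)
    obtain ⟨k, hk⟩ := (Nat.dvd_prime_pow hp).1 (card ▸ card_subgroup_dvd_card (center ↥P))
    have h2 : p ^ 1 < p ^ k := by
      rw [← hk.2, pow_one, ← hw', ← Nat.card_zpowers]
      by_contra hlt
      exact h1.ne (Subgroup.eq_of_le_of_card_ge hcen (not_lt.1 hlt))
    have h3 := (Nat.pow_lt_pow_iff_right hp.one_lt).1 h2
    have h4 : Nat.card (↥P ⧸ center ↥P) ∣ p := by
      have h5 := (center ↥P).card_mul_index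
      rw [hk.2, card] at h5
      have h6 : (center ↥P).index = p ^ (3 - k) := by
        apply Nat.eq_of_mul_eq_mul_left (pow_pos hp.pos k)
        rw [h5, ← pow_add]
        congr 1
        omega
      have h7 : Nat.card (↥P ⧸ center ↥P) = p ^ (3 - k) := h6
      rw [h7]
      calc p ^ (3 - k) ∣ p ^ 1 := pow_dvd_pow p (by omega)
        _ = p := pow_one p
    have hcyc : IsCyclic (↥P ⧸ center ↥P) := by
      rcases (Nat.dvd_prime hp).1 h4 with h5 | h5
      · have : Subsingleton (↥P ⧸ center ↥P) := (Nat.card_eq_one_iff_unique.1 h5).1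
        exact isCyclic_of_subsingleton
      · exact isCyclic_of_prime_card h5
    obtain ⟨a, ha, b, hb, hab⟩ := ne
    apply hab
    have h5 := MonoidHom.isMulCommutative_of_isCyclic_of_ker_le_center (QuotientGroup.mk' (center ↥P))
      (by rw [QuotientGroup.ker_mk'])
    exact congrArg Subtype.val (h5.is_comm.comm (⟨a, ha⟩ : ↥P) ⟨b, hb⟩)
  refine ⟨ow, card, mem, cen, ?_, ?_, ne⟩
  · intro a ha b hb
    have h1 := comm_of_sq hp hq (QuotientGroup.mk' (zpowers w') ⟨a, ha⟩) (QuotientGroup.mk' (zpowers w') ⟨b, hb⟩)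
    have h2 : QuotientGroup.mk' (zpowers w') ((⟨a, ha⟩ : ↥P) * ⟨b, hb⟩ * ⟨a, ha⟩⁻¹ * ⟨b, hb⟩⁻¹) = 1 := by
      rw [map_mul, map_mul, map_mul, map_inv, map_inv, h1]
      group
    exact hmem _ ((QuotientGroup.eq_one_iff _).1 h2)
  · intro c hc h
    have h1 : (⟨c, hc⟩ : ↥P) ∈ center ↥P := mem_center_iff.2 fun a => Subtype.ext (h a a.2).symm
    rw [hZ] at h1
    exact hmem _ h1

theorem SC.isP (hp : p.Prime) (h : SC p w P) : IsPGroup p ↥P := by
  have : Fact p.Prime := ⟨hp⟩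
  exact IsPGroup.of_card h.card

variable [Finite K]

omit [Finite K] in
theorem SC.index (h : SC p w P) (h4 : ¬ p ^ 4 ∣ Nat.card K) : ¬ p ∣ P.index := by
  intro h1
  apply h4
  rw [← P.card_mul_index, h.card, pow_succ]
  exact mul_dvd_mul_left _ h1

/-- subgroups of order `p ^ 3` are conjugate -/
theorem exists_conj (hp : p.Prime) (h4 : ¬ p ^ 4 ∣ Nat.card K) (h : SC p w P) {R : Subgroup K} (hR : IsPGroup p ↥R) :
    ∃ g : K, ∀ a ∈ R, g * a * g⁻¹ ∈ P := by
  have hpf : Fact p.Prime := ⟨hp⟩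
  let S : Sylow p K := (h.isP hp).toSylow (h.index h4)
  obtain ⟨T, hT⟩ := hR.exists_le_sylow
  obtain ⟨g, hg⟩ := MulAction.exists_smul_eq K T S
  refine ⟨g, fun a ha => ?_⟩
  have h1 : g * a * g⁻¹ ∈ (S : Subgroup K) := by
    rw [← hg, Sylow.coe_subgroup_smul]
    exact smul_mem_pointwise_smul a (MulAut.conj g) _ (hT ha)
  exact h1

/-- in a subgroup `C` containing `P` -/
theorem exists_conj_in (hp : p.Prime) (h4 : ¬ p ^ 4 ∣ Nat.card K) (h : SC p w P) {C : Subgroup K} (hPC : P ≤ C)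
    {R : Subgroup K} (hR : IsPGroup p ↥R) (hRC : R ≤ C) : ∃ g ∈ C, ∀ a ∈ R, g * a * g⁻¹ ∈ P := by
  have hpf : Fact p.Prime := ⟨hp⟩
  have hi : ¬ p ∣ (P.subgroupOf C).index := by
    intro h1
    apply h4
    have h2 : P.relIndex C * C.index = P.index := relIndex_mul_index hPC
    rw [← P.card_mul_index, h.card, pow_succ]
    apply mul_dvd_mul_left
    rw [← h2]
    exact h1.mul_right _
  let S : Sylow p ↥C := ((h.isP hp).comap_of_injective C.subtype C.subtype_injective).toSylow hi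
  obtain ⟨T, hT⟩ := (hR.comap_of_injective C.subtype C.subtype_injective).exists_le_sylow
  obtain ⟨g, hg⟩ := MulAction.exists_smul_eq ↥C T S
  refine ⟨g, g.2, fun a ha => ?_⟩
  have h1 : g * ⟨a, hRC ha⟩ * g⁻¹ ∈ (S : Subgroup ↥C) := by
    rw [← hg, Sylow.coe_subgroup_smul]
    exact smul_mem_pointwise_smul (⟨a, hRC ha⟩ : ↥C) (MulAut.conj g) _ (hT ha)
  exact h1

/-- **A conjugate of `w` in `P` outside of `⟨w⟩`** -/
theorem exists_centre_data (hp : p.Prime) (hp5 : 5 ≤ p) (h4 : ¬ p ^ 4 ∣ Nat.card K) (h : SC p w P)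
    {Q : Subgroup K} (h2 : IsPGroup 2 ↥Q) (hQw : ∀ q ∈ Q, q * w = w * q) (hQP : ∀ q ∈ Q, ∀ r ∈ P, q * r * q⁻¹ ∈ P)
    {k l : K} (hk : k ∈ Q) (hl : l ∈ Q)
    (hno : ¬ ∀ r ∈ P, (k * l * k⁻¹ * l⁻¹) * r * (k * l * k⁻¹ * l⁻¹)⁻¹ = r)
    {g : K} (hg : g * w * g⁻¹ ∈ P) (hgn : g * w * g⁻¹ ∉ zpowers w) :
    ∃ w₁ g₁, Centre p w w₁ g₁ P := by
  have hpf : Fact p.Prime := ⟨hp⟩
  have hp2 : p ≠ 2 := by omega
  obtain ⟨w₁, hw₁⟩ : ∃ w₁, w₁ = g * w * g⁻¹ := ⟨_, rfl⟩
  rw [← hw₁] at hg hgn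
  -- `g P g⁻¹ ≤ C(w₁)`
  have hP' : SC p w₁ (P.map (MulAut.conj g).toMonoidHom) := by
    refine SC.of_ne hp ?_ ?_ ?_ ?_ ?_
    · rw [hw₁, ← MulAut.conj_apply, MulEquiv.orderOf_eq, h.ow]
    · rw [card_map_of_injective (MulAut.conj g).injective, h.card]
    · exact ⟨w, h.mem, hw₁.symm⟩
    · rintro _ ⟨a, ha, rfl⟩
      rw [hw₁]
      show g * a * g⁻¹ * (g * w * g⁻¹) = g * w * g⁻¹ * (g * a * g⁻¹)
      calc g * a * g⁻¹ * (g * w * g⁻¹) = g * (a * w) * g⁻¹ := by group
        _ = g * (w * a) * g⁻¹ := by rw [h.cen a ha]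
        _ = _ := by group
    · obtain ⟨a, ha, b, hb, hab⟩ := h.ne
      refine ⟨_, ⟨a, ha, rfl⟩, _, ⟨b, hb, rfl⟩, fun h1 => hab ?_⟩
      apply (MulAut.conj g).injective
      rw [map_mul, map_mul]
      exact h1
  obtain ⟨c, hc, hcP⟩ := exists_conj_in hp h4 hP' (C := centralizer ({w₁} : Set K))
    (fun a ha => mem_centralizer_singleton_iff.2 (hP'.cen a ha)) (R := zpowers w)
    (IsPGroup.of_card (n := 1) (by rw [Nat.card_zpowers, h.ow, pow_one]))
    (zpowers_le.2 (mem_centralizer_singleton_iff.2 (h.cen _ hg).symm))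
  have hcw : c * w₁ = w₁ * c := mem_centralizer_singleton_iff.1 hc
  have hcm := hcP w (mem_zpowers w)
  have hback : (c⁻¹ * g)⁻¹ * w * (c⁻¹ * g) ∈ P := by
    have h1 := H794.MonCore.mem_map_conj.1 hcm
    have e : (c⁻¹ * g)⁻¹ * w * (c⁻¹ * g) = g⁻¹ * (c * w * c⁻¹) * g := by group
    rw [e]
    exact h1
  have hcent : Centre p w w₁ (c⁻¹ * g) P := by
    refine ⟨h.ow, h.mem, h.cen, h.comm, ?_, hg, hgn, hback, ?_⟩
    · calc c⁻¹ * g * w * (c⁻¹ * g)⁻¹ = c⁻¹ * (g * w * g⁻¹) * c := by group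
        _ = c⁻¹ * (w₁ * c) := by rw [← hw₁, mul_assoc]
        _ = c⁻¹ * (c * w₁) := by rw [hcw]
        _ = w₁ := by group
    · refine hirr_of_irreducible h.cen h.mem h.hz hg hgn fun U hU hwU hinv => ?_
      by_contra hcon
      push Not at hcon
      obtain ⟨h5, h6⟩ := hcon
      have hwle : zpowers w ≤ U := zpowers_le.2 hwU
      obtain ⟨m, hm3, hm⟩ := (Nat.dvd_prime_pow hp).1 (h.card ▸ card_dvd_of_le hU)
      have hm1 : m ≠ 0 ∧ m ≠ 1 := by
        have h7 : p ∣ Nat.card ↥U := by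
          have := card_dvd_of_le hwle
          rwa [Nat.card_zpowers, h.ow] at this
        constructor
        · rintro rfl
          rw [hm, pow_zero] at h7
          exact hp.one_lt.ne' (Nat.dvd_one.1 h7)
        · rintro rfl
          apply h5
          refine (Subgroup.eq_of_le_of_card_ge hwle ?_).ge
          rw [hm, Nat.card_zpowers, h.ow, pow_one]
      have hm2 : m = 2 := by
        have h7 : m ≠ 3 := by
          rintro rfl
          exact h6 (Subgroup.eq_of_le_of_card_ge hU (by rw [hm, h.card])).ge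
        omega
      subst hm2
      apply hno
      -- `[k, l]` is trivial on `⟨w⟩`, `U / ⟨w⟩`, `P / U`
      have hcx' : ∀ q : K, q * w = w * q → ∀ a ∈ zpowers w, q * a * q⁻¹ = a := by
        intro q hq a ha
        obtain ⟨i, rfl⟩ := mem_zpowers_iff.1 ha
        exact mul_inv_eq_iff_eq_mul.2 ((show Commute q w from hq).zpow_right i).eq
      have hklQ : k * l * k⁻¹ * l⁻¹ ∈ Q := mul_mem (mul_mem (mul_mem hk hl) (inv_mem hk)) (inv_mem hl)
      obtain ⟨n, hn⟩ := h2 ⟨_, hklQ⟩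
      have hn' : (k * l * k⁻¹ * l⁻¹) ^ 2 ^ n = 1 := congrArg Subtype.val hn
      have hcop : (2 ^ n).Coprime p := Nat.Coprime.pow_left n ((Nat.coprime_primes Nat.prime_two hp).2 (Ne.symm hp2))
      have hQU : ∀ q ∈ Q, ∀ u ∈ U, q * u * q⁻¹ ∈ U := fun q hq u hu => hinv q (hQw q hq) (hQP q hq) u hu
      have hUP : IsPGroup p ↥U := (h.isP hp).to_le hU
      have t1 : ∀ u ∈ U, (k * l * k⁻¹ * l⁻¹) * u * (k * l * k⁻¹ * l⁻¹)⁻¹ = u := by
        refine cent_of_chain (A := zpowers w) hUP hn' hcop (hcx' _ (hQw _ hklQ)) hwle ?_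
        exact comm_trivial (p := p) hwle (by rw [hm, Nat.card_zpowers, h.ow, pow_two])
          (fun b hb a ha => by rw [hcx' b (h.cen b (hU hb)) a ha]; exact ha)
          (fun a ha => by rw [hcx' k (hQw k hk) a ha]; exact ha) (hQU k hk)
          (fun a ha => by rw [hcx' l (hQw l hl) a ha]; exact ha) (hQU l hl)
      refine cent_of_chain (A := U) (h.isP hp) hn' hcop t1 hU ?_
      refine comm_trivial (p := p) hU (by rw [hm, h.card]; ring) ?_ (hQU k hk) (hQP k hk) (hQU l hl) (hQP l hl)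
      intro b hb a ha
      have e : b * a * b⁻¹ = (b * a * b⁻¹ * a⁻¹) * a := by group
      rw [e]
      exact mul_mem (hwle (h.comm b hb a (hU ha))) ha
  exact ⟨_, _, hcent⟩

omit [Finite K] in
theorem SC.not_dvd (h4 : ¬ p ^ 4 ∣ Nat.card K) (h : SC p w P) : ¬ p * Nat.card ↥P ∣ Nat.card K := by
  rw [h.card]
  intro h5
  apply h4
  rwa [pow_succ, mul_comm]

theorem exists_centre (hp : p.Prime) (hp5 : 5 ≤ p) (hK : center K = ⊥) (h4 : ¬ p ^ 4 ∣ Nat.card K) (h : SC p w P)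
    {Q : Subgroup K} (h2 : IsPGroup 2 ↥Q) (hQw : ∀ q ∈ Q, q * w = w * q) (hQP : ∀ q ∈ Q, ∀ r ∈ P, q * r * q⁻¹ ∈ P)
    {k l : K} (hk : k ∈ Q) (hl : l ∈ Q)
    (hno : ¬ ∀ r ∈ P, (k * l * k⁻¹ * l⁻¹) * r * (k * l * k⁻¹ * l⁻¹)⁻¹ = r)
    {g : K} (hg : g * w * g⁻¹ ∈ P) (hgn : g * w * g⁻¹ ∉ zpowers w) : NoRad p K := by
  obtain ⟨w₁, g₁, hcent⟩ := exists_centre_data hp hp5 h4 h h2 hQw hQP hk hl hno hg hgn
  exact hcent.noRad_of_sylow hp hp5 hK (h.isP hp) (h.not_dvd h4)

/-- **The index of `N(⟨w⟩)`** -/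
theorem index_mod (hp : p.Prime) (h4 : ¬ p ^ 4 ∣ Nat.card K) (h : SC p w P)
    (hna : ∀ R : Subgroup K, Nat.card ↥R = p ^ 3 → ∃ a ∈ R, ∃ b ∈ R, a * b ≠ b * a)
    (hb0 : ∀ g : K, g * w * g⁻¹ ∈ P → g * w * g⁻¹ ∈ zpowers w) :
    (normalizer (zpowers w : Set K)).index % p ^ 2 = 1 := by
  have hpf : Fact p.Prime := ⟨hp⟩
  by_contra hmod
  -- elements of order `p` commuting with `P`
  have hCC : ∀ c : K, (∀ a ∈ P, a * c = c * a) → orderOf c = p → c ∈ zpowers w := by
    intro c hc hco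
    have hcP : c ∈ P := by
      have h1 : IsPGroup p ↥(zpowers c) := IsPGroup.of_card (n := 1) (by rw [Nat.card_zpowers, hco, pow_one])
      obtain ⟨g, hg, hgP⟩ := exists_conj_in hp h4 h (C := centralizer ({c} : Set K))
        (fun a ha => mem_centralizer_singleton_iff.2 (hc a ha)) h1
        (zpowers_le.2 (mem_centralizer_singleton_iff.2 rfl))
      have h2 := hgP c (mem_zpowers c)
      rwa [mem_centralizer_singleton_iff.1 hg, mul_inv_cancel_right] at h2
    exact h.hz c hcP fun a ha => (hc a ha).symm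
  obtain ⟨g, hgn, hgc⟩ := exists_conj_index hp h.ow (h.isP hp) h.cen hCC hmod
  obtain ⟨v, hv⟩ : ∃ v, v = g * w * g⁻¹ := ⟨_, rfl⟩
  have hov : orderOf v = p := by rw [hv, ← MulAut.conj_apply, MulEquiv.orderOf_eq, h.ow]
  rw [← hv] at hgn hgc
  have hwF := mem_of_index hp h.ow h.cen h.comm h.ne (F := P ⊓ centralizer ({v} : Set K)) inf_le_left h.mem hgc
  by_cases hvP : v ∈ P
  · exact hgn (hv ▸ hb0 g (hv ▸ hvP))
  -- `F ⟨v⟩` is abelian of order `p ^ 3`
  let F : Subgroup K := P ⊓ centralizer ({v} : Set K)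
  have hFcard : Nat.card ↥F = p ^ 2 := by
    have h1 : Nat.card ↥F * p = p ^ 2 * p := by rw [hgc, h.card]; ring
    exact Nat.eq_of_mul_eq_mul_right hp.pos h1
  have hFv : ∀ a ∈ F, a * v = v * a := fun a ha => mem_centralizer_singleton_iff.1 ha.2
  have hFF : ∀ a ∈ F, ∀ b ∈ F, a * b = b * a := fun a ha b hb =>
    congrArg Subtype.val (comm_of_sq hp hFcard (⟨a, ha⟩ : ↥F) ⟨b, hb⟩)
  have hE : ∀ a ∈ F ⊔ zpowers v, ∀ b ∈ F ⊔ zpowers v, a * b = b * a := by
    have h1 : F ≤ centralizer (F : Set K) := fun a ha => mem_centralizer_iff.2 fun b hb => hFF b hb a ha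
    have h2 : F ≤ centralizer (zpowers v : Set K) := by
      intro a ha
      rw [mem_centralizer_iff]
      intro b hb
      obtain ⟨i, rfl⟩ := mem_zpowers_iff.1 hb
      exact ((show Commute a v from hFv a ha).zpow_right i).eq.symm
    have h3 : F ⊔ zpowers v ≤ centralizer (F ⊔ zpowers v : Subgroup K) := by
      have h4 : ∀ A B : Subgroup K, A ≤ centralizer (B : Set K) → B ≤ centralizer (A : Set K) := fun A B h =>
        Subgroup.le_centralizer_iff.1 h
      have h5 : zpowers v ≤ centralizer (zpowers v : Set K) := by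
        rw [zpowers_le, mem_centralizer_iff]
        intro b hb
        obtain ⟨i, rfl⟩ := mem_zpowers_iff.1 hb
        exact ((Commute.refl v).zpow_left i).eq
      refine sup_le ?_ ?_
      · exact h4 _ _ (sup_le h1 (h4 _ _ h2))
      · exact h4 _ _ (sup_le h2 h5)
    intro a ha b hb
    exact (mem_centralizer_iff.1 (h3 hb) a ha)
  have hEc : Nat.card ↥(F ⊔ zpowers v) = p ^ 3 := by
    have h1 := H278.ThompsonSurj.card_sup_mul (K := F) (H := zpowers v) (by
      rw [zpowers_le, mem_normalizer_iff]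
      intro a
      constructor
      · intro ha
        rw [← hFv a ha, mul_inv_cancel_right]
        exact ha
      · intro ha
        have h2 := hFv _ ha
        have h3 : a = v * a * v⁻¹ := by
          have h4 : v * a * v⁻¹ * v = v * (v * a * v⁻¹) := h2
          have h5 : v * a = v * (v * a * v⁻¹) := by
            rw [← h4]
            group
          exact mul_left_cancel h5
        rw [h3]
        exact ha)
    have h2 : F ⊓ zpowers v = ⊥ := by
      rw [eq_bot_iff]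
      intro a ha
      obtain ⟨haF, hav⟩ := mem_inf.1 ha
      obtain ⟨i, rfl⟩ := mem_zpowers_iff.1 hav
      rw [Subgroup.mem_bot]
      by_contra h3
      apply hvP
      exact mem_of_zpow hp hov (fun h5 => h3 (zpow_eq_one_of_dvd hov h5)) (inf_le_left (a := P) haF)
    rw [h2, Subgroup.card_bot, mul_one, hFcard, Nat.card_zpowers, hov] at h1
    rw [h1]
    ring
  obtain ⟨a, ha, b, hb, hab⟩ := hna _ hEc
  exact hab (hE a ha b hb)

/-- **`w` centralises the `P`-invariant `q`-subgroups** -/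
theorem comm_of_inv (hp : p.Prime) (h : SC p w P) {q : ℕ} (hq : q.Prime) (hpq : q ≠ p)
    (hW : ∀ j, 1 ≤ j → q ^ j ∣ Nat.card K → ¬ p ^ 2 ∣ q ^ j - 1) {B : Subgroup K} (hB : IsPGroup q ↥B)
    (hBP : ∀ a ∈ P, ∀ v ∈ B, a * v * a⁻¹ ∈ B) : ∀ v ∈ B, w * v = v * w := by
  have hpf : Fact p.Prime := ⟨hp⟩
  have hqf : Fact q.Prime := ⟨hq⟩
  let X := {v : ↥B // w * (v : K) ≠ v * w}
  let act : MulAction ↥P X :=
    { smul := fun a v => ⟨⟨(a : K) * v.1 * (a : K)⁻¹, hBP a a.2 v.1 v.1.2⟩, by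
        intro h1
        apply v.2
        have h2 : w * ((a : K) * v.1 * (a : K)⁻¹) = (a : K) * v.1 * (a : K)⁻¹ * w := h1
        have ca : Commute (a : K) w := h.cen a a.2
        have h3 : (a : K) * (w * v.1) * (a : K)⁻¹ = (a : K) * (v.1 * w) * (a : K)⁻¹ := by
          calc (a : K) * (w * v.1) * (a : K)⁻¹ = ((a : K) * w) * v.1 * (a : K)⁻¹ := by group
            _ = (w * a) * v.1 * (a : K)⁻¹ := by rw [ca.eq]
            _ = w * ((a : K) * v.1 * (a : K)⁻¹) := by group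
            _ = (a : K) * v.1 * ((a : K)⁻¹ * w) := by rw [h2]; group
            _ = (a : K) * v.1 * (w * (a : K)⁻¹) := by rw [ca.inv_left.eq]
            _ = _ := by group
        exact mul_left_cancel (mul_right_cancel h3)⟩
      one_smul := fun v => by
        apply Subtype.ext
        apply Subtype.ext
        show (1 : K) * v.1 * (1 : K)⁻¹ = v.1
        group
      mul_smul := fun a b v => by
        apply Subtype.ext
        apply Subtype.ext
        show ((a : K) * b) * v.1 * ((a : K) * b)⁻¹ = a * (b * v.1 * (b : K)⁻¹) * (a : K)⁻¹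
        group }
  have hstab : ∀ v : X, p ^ 2 ∣ (MulAction.stabilizer ↥P v).index := by
    intro v
    have h1 := (MulAction.stabilizer ↥P v).card_mul_index
    rw [h.card] at h1
    obtain ⟨m, hm3, hm⟩ := (Nat.dvd_prime_pow hp).1 (Dvd.intro_left _ h1)
    rw [hm]
    apply pow_dvd_pow
    by_contra hlt
    have hmem : ∀ a : ↥P, a ∈ MulAction.stabilizer ↥P v ↔ (a : K) * v.1 = v.1 * a := by
      intro a
      rw [MulAction.mem_stabilizer_iff]
      constructor
      · intro h2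
        have h3 : (a : K) * v.1 * (a : K)⁻¹ = v.1 := congrArg (fun x : X => (x.1 : K)) h2
        exact mul_inv_eq_iff_eq_mul.1 h3
      · intro h2
        apply Subtype.ext
        apply Subtype.ext
        exact mul_inv_eq_iff_eq_mul.2 h2
    apply v.2
    -- `w` is in the stabilizer
    suffices hs : (⟨w, h.mem⟩ : ↥P) ∈ MulAction.stabilizer ↥P v from (hmem _).1 hs
    rcases (show m = 0 ∨ m = 1 by omega) with rfl | rfl
    · rw [pow_zero, index_eq_one] at hm
      rw [hm]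
      exact mem_top _
    · rw [hm, pow_one] at h1
      have h2 := mem_of_index hp h.ow h.cen h.comm h.ne (F := (MulAction.stabilizer ↥P v).map P.subtype)
        (map_subtype_le _) h.mem (by rw [card_map_of_injective P.subtype_injective, h1, h.card])
      obtain ⟨a, ha, haw⟩ := h2
      have h3 : a = ⟨w, h.mem⟩ := Subtype.ext haw
      rw [← h3]
      exact ha
  have hcardX := dvd_card (A := ↥P) (α := X) hstab
  -- the centralizer of `w` in `B`
  let C : Subgroup ↥B := (centralizer ({w} : Set K)).subgroupOf B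
  have hX : Nat.card X + Nat.card ↥C = Nat.card ↥B := by
    classical
    have := Fintype.ofFinite ↥B
    have h1 : Nat.card X = Nat.card {v : ↥B // ¬ v ∈ C} := by
      apply Nat.card_congr
      refine Equiv.subtypeEquivRight fun v => ?_
      rw [mem_subgroupOf, mem_centralizer_singleton_iff]
      exact ⟨fun h1 h2 => h1 h2.symm, fun h1 h2 => h1 h2.symm⟩
    have h2 : Nat.card ↥C = Nat.card {v : ↥B // v ∈ C} := rfl
    rw [h1, h2, Nat.card_eq_fintype_card, Nat.card_eq_fintype_card, Nat.card_eq_fintype_card,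
      Fintype.card_subtype_compl]
    have h3 := Fintype.card_subtype_le (fun v : ↥B => v ∈ C)
    omega
  obtain ⟨n, hn⟩ := IsPGroup.iff_card.1 hB
  obtain ⟨k, hk⟩ := IsPGroup.iff_card.1 (hB.to_subgroup C)
  have hC : C = ⊤ := by
    rw [hn, hk] at hX
    by_contra hne
    have h1 : Nat.card ↥C ≠ Nat.card ↥B := fun h2 => hne (Subgroup.eq_top_of_card_eq _ h2)
    rw [hn, hk] at h1
    have h2 : q ^ k ∣ q ^ n := by
      rw [← hn, ← hk]
      exact card_subgroup_dvd_card C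
    have h3 : k ≤ n := (Nat.pow_dvd_pow_iff_le_right hq.one_lt).1 h2
    have h4 : k ≠ n := fun h5 => h1 (by rw [h5])
    have h5 : q ^ n = q ^ k * q ^ (n - k) := by
      rw [← pow_add]
      congr 1
      omega
    have h6 : Nat.card X = q ^ k * (q ^ (n - k) - 1) := by
      rw [Nat.mul_sub, mul_one, ← h5]
      omega
    refine hW (n - k) (by omega) ?_ ?_
    · refine Dvd.dvd.trans (pow_dvd_pow q (Nat.sub_le n k)) ?_
      rw [← hn]
      exact card_subgroup_dvd_card B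
    · rw [h6] at hcardX
      exact (Nat.Coprime.pow_left 2 (Nat.Coprime.pow_right k
        ((Nat.coprime_primes hp hq).2 (Ne.symm hpq)))).dvd_of_dvd_mul_left hcardX
  intro v hv
  have h1 : (⟨v, hv⟩ : ↥B) ∈ C := by rw [hC]; exact mem_top _
  exact (mem_centralizer_singleton_iff.1 (mem_subgroupOf.1 h1)).symm

end Cfsg.Agent.H109.Nr.U
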