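import Cfsg.Agent.H109.NrU

/-!
# The proper subgroups containing `P` (helper109, task 678)

* `norm_of_le` : the proper subgroups containing `P` normalise `⟨w⟩`, if `P` contains a radical element outside of `⟨w⟩`.
-/

set_option autoImplicit false

namespace Cfsg.Agent.H109.Nr.U

open Subgroup Cfsg Cfsg.Agent.H459.Rad Cfsg.Agent.H839.Rad Cfsg.Agent.H794.MonSec

variable {K : Type*} [Group K] {p : ℕ} {w : K} {P : Subgroup K} [Finite K]

/-- **the proper subgroups containing `P`** -/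
theorem norm_of_le (hp : p.Prime) (h4 : ¬ p ^ 4 ∣ Nat.card K) (h : SC p w P)
    (hW : ∀ q : ℕ, q.Prime → q ≠ p → ∀ j, 1 ≤ j → q ^ j ∣ Nat.card K → ¬ p ^ 2 ∣ q ^ j - 1)
    (hb0 : ∀ g : K, g * w * g⁻¹ ∈ P → g * w * g⁻¹ ∈ zpowers w)
    {x : K} (hxP : x ∈ P) (hxw : x ∉ zpowers w) (hx : RC (MulAut.conj x)) {M : Subgroup K} (hM : M ≠ ⊤) (hPM : P ≤ M) :
    ∀ g ∈ M, g * w * g⁻¹ ∈ zpowers w := by
  have hpf : Fact p.Prime := ⟨hp⟩
  set T := solvableRadical ↥M with hTdef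
  have hTn : T.Normal := rad_normal ↥M
  have hTs : Group.IsSolvable ↥T := rad_solvable ↥M
  have hxT : (⟨x, hPM hxP⟩ : ↥M) ∈ T := mem_rad hx hM (hPM hxP)
  -- `w ∈ T`
  have hwT : (⟨w, hPM h.mem⟩ : ↥M) ∈ T := by
    obtain ⟨a, ha, hne⟩ : ∃ a ∈ P, x * a ≠ a * x := by
      by_contra hcon
      push Not at hcon
      exact hxw (h.hz x hxP hcon)
    obtain ⟨i, hi⟩ := mem_zpowers_iff.1 (h.comm a ha x hxP)
    have h1 : (⟨a, hPM ha⟩ : ↥M) * ⟨x, hPM hxP⟩ * ⟨a, hPM ha⟩⁻¹ * ⟨x, hPM hxP⟩⁻¹ ∈ T :=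
      mul_mem (hTn.conj_mem _ hxT _) (inv_mem hxT)
    have h2 : (⟨w, hPM h.mem⟩ : ↥M) ^ i ∈ T := by
      have h3 : (⟨w, hPM h.mem⟩ : ↥M) ^ i = ⟨a, hPM ha⟩ * ⟨x, hPM hxP⟩ * ⟨a, hPM ha⟩⁻¹ * ⟨x, hPM hxP⟩⁻¹ :=
        Subtype.ext hi
      rw [h3]
      exact h1
    refine mem_of_zpow hp (by rw [Subgroup.orderOf_mk, h.ow]) (i := i) (fun h3 => hne ?_) h2
    rw [zpow_eq_one_of_dvd h.ow h3] at hi
    have h4 : a * x * a⁻¹ * x⁻¹ = 1 := hi.symm
    rw [mul_inv_eq_one, mul_inv_eq_iff_eq_mul] at h4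
    exact h4.symm
  -- the Sylow subgroup of `T`
  let PM : Subgroup ↥M := P.subgroupOf M
  have hiM : ¬ p ∣ PM.index := by
    intro h1
    apply h.index h4
    have h2 : P.relIndex M * M.index = P.index := relIndex_mul_index hPM
    rw [← h2]
    exact h1.mul_right _
  have hiT : ¬ p ∣ (PM.subgroupOf T).index := by
    intro h1
    apply hiM
    have h2 : PM.relIndex T = PM.relIndex (PM ⊔ T) := by
      have e1 := H278.ThompsonSurj.card_sup_mul (K := T) (H := PM) (by rw [normalizer_eq_top]; exact le_top)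
      have e2 := card_mul_relIndex (A := PM ⊓ T) (B := T) inf_le_right
      have e3 := card_mul_relIndex (A := PM) (B := PM ⊔ T) le_sup_left
      rw [inf_relIndex_right] at e2
      rw [sup_comm, ← e3, inf_comm, ← e2] at e1
      have h5 : 0 < Nat.card ↥(PM ⊓ T) * Nat.card ↥PM := Nat.mul_pos Nat.card_pos Nat.card_pos
      apply Nat.eq_of_mul_eq_mul_left h5
      linarith [e1]
    have h3 : PM.relIndex (PM ⊔ T) * (PM ⊔ T).index = PM.index := relIndex_mul_index le_sup_left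
    rw [← h3, ← h2]
    exact h1.mul_right _
  have hPMp : IsPGroup p ↥PM := (h.isP hp).comap_of_injective M.subtype M.subtype_injective
  let S : Sylow p ↥T := (hPMp.comap_of_injective T.subtype T.subtype_injective).toSylow hiT
  have hS : ∀ t : ↥T, t ∈ (S : Subgroup ↥T) ↔ ((t : ↥M) : K) ∈ P := fun t => Iff.rfl
  let w' : ↥T := ⟨⟨w, hPM h.mem⟩, hwT⟩
  -- `w` commutes with `O_{p'}(T)`
  let Y : Subgroup ↥T := pPrimeCore p ↥T
  have hYch : Y.Characteristic := Lib.Cores.pPrimeCore_characteristic p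
  let YM : Subgroup ↥M := Y.map T.subtype
  have hYMn : YM.Normal := inferInstance
  let YK : Subgroup K := YM.map M.subtype
  have hPY : P ≤ normalizer (YK : Set K) := by
    intro a ha
    refine Transfer.FusionBasic.mem_normalizer_of_conj_mem ?_
    rintro _ ⟨y, hy, rfl⟩
    exact ⟨⟨a, hPM ha⟩ * y * ⟨a, hPM ha⟩⁻¹, hYMn.conj_mem y hy _, rfl⟩
  have hcardY : Nat.card ↥YK = Nat.card ↥Y := by
    rw [card_map_of_injective M.subtype_injective, card_map_of_injective T.subtype_injective]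
  have hYcop : (Nat.card ↥Y).Coprime p := Lib.Cores.pPrimeCore_coprime p
  have hpY : ¬ p ∣ Nat.card ↥YK := by
    rw [hcardY]
    intro hd
    have h1 := Nat.dvd_gcd hd (dvd_refl p)
    rw [hYcop] at h1
    exact hp.one_lt.ne' (Nat.dvd_one.1 h1)
  let φ : ↥P →* MulAut ↥YK := (YK.normalizerMonoidHom).comp (inclusion hPY)
  have hφ : ∀ (a : ↥P) (y : ↥YK), ((φ a y : ↥YK) : K) = (a : K) * y * (a : K)⁻¹ := fun a y => rfl
  have hYw : ∀ y ∈ YK, w * y = y * w := by
    intro y hy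
    have h1 := trivial_of_sylow φ (h.isP hp) hpY ⟨w, h.mem⟩ (by
      intro q hq B hB hBi v hv
      have hqf : Fact q.Prime := ⟨hq⟩
      by_cases hqp : q = p
      · subst hqp
        have h1 : v = 1 := by
          obtain ⟨n, hn⟩ := hB ⟨v, hv⟩
          have h2 : v ^ q ^ n = 1 := congrArg Subtype.val hn
          have h3 : (q ^ n).Coprime (Nat.card ↥YK) := Nat.Coprime.pow_left n
            ((Nat.Prime.coprime_iff_not_dvd hp).2 hpY)
          exact orderOf_eq_one_iff.1 (Nat.eq_one_of_dvd_coprimes h3 (orderOf_dvd_of_pow_eq_one h2)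
            (orderOf_dvd_natCard v))
        rw [h1, map_one]
      · have h2 := comm_of_inv hp h hq hqp (hW q hq hqp) (B := B.map YK.subtype) (hB.map _) (by
          rintro a ha _ ⟨u, hu, rfl⟩
          exact ⟨_, hBi ⟨a, ha⟩ u hu, rfl⟩) v ⟨v, hv, rfl⟩
        apply Subtype.ext
        rw [hφ]
        exact mul_inv_eq_iff_eq_mul.2 h2) ⟨y, hy⟩
    have h2 : w * y * w⁻¹ = y := congrArg Subtype.val h1
    exact mul_inv_eq_iff_eq_mul.1 h2
  intro g hg
  apply hb0
  have key := mem_of_auto S (w := w') ((hS w').2 h.mem) (fun a ha => by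
    apply Subtype.ext
    apply Subtype.ext
    exact h.cen _ ((hS a).1 ha)) (fun y hy => by
    apply Subtype.ext
    apply Subtype.ext
    exact (hYw _ ⟨_, ⟨y, hy, rfl⟩, rfl⟩).symm) (MulAut.conjNormal (⟨g, hg⟩ : ↥M))
  exact (hS _).1 key

end Cfsg.Agent.H109.Nr.U
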