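import Cfsg.Agent.H423.PGOrth
import Cfsg.Agent.H109.EndPsl
import Cfsg.Agent.S0243

/-!
# Abelian 3-subgroups of orthogonal groups in characteristic different from 3 (helper109, task 496 of helper777)

`Inv r G` : `G` has an abelian subgroup of order `3 ^ r` inverted by an element of `G`.
`inv_plus` : `O⁺_{2h}(F)` has `Inv (a * (2 * (h / 2)))` if `3 ^ a` divides `|F| ^ 2 - 1`.
-/

set_option autoImplicit false

namespace Cfsg.Agent.H109.ROrth

open Matrix Subgroup Cfsg.Agent.H423.PGOrth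

local notation "S2" => Matrix.SpecialLinearGroup (Fin 2)
local notation "P2" => Matrix.ProjectiveSpecialLinearGroup (Fin 2)

section abstract

/-- an abelian subgroup of order `3 ^ r` inverted by an element -/
def Inv (r : ℕ) (G : Type*) [Group G] : Prop :=
  ∃ (A : Subgroup G) (s : G), (∀ x ∈ A, ∀ y ∈ A, x * y = y * x) ∧ (∀ x ∈ A, s * x * s⁻¹ = x⁻¹) ∧ Nat.card A = 3 ^ r

theorem Inv.zero (G : Type*) [Group G] : Inv 0 G := by
  refine ⟨⊥, 1, ?_, ?_, by simp⟩
  · intro x hx y hy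
    rw [Subgroup.mem_bot] at hx hy
    rw [hx, hy]
  · intro x hx
    rw [Subgroup.mem_bot] at hx
    simp [hx]

theorem Inv.prod {r s : ℕ} {G H : Type*} [Group G] [Group H] (h1 : Inv r G) (h2 : Inv s H) : Inv (r + s) (G × H) := by
  obtain ⟨A, a, hA, ha, hA'⟩ := h1
  obtain ⟨B, b, hB, hb, hB'⟩ := h2
  refine ⟨A.prod B, (a, b), ?_, ?_, ?_⟩
  · rintro x ⟨hx1, hx2⟩ y ⟨hy1, hy2⟩
    exact Prod.ext (hA _ hx1 _ hy1) (hB _ hx2 _ hy2)
  · rintro x ⟨hx1, hx2⟩
    exact Prod.ext (ha _ hx1) (hb _ hx2)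
  · rw [Nat.card_congr (A.prodEquiv B).toEquiv, Nat.card_prod, hA', hB', pow_add]

theorem Inv.map {r : ℕ} {G H : Type*} [Group G] [Group H] (f : G →* H) (hf : Function.Injective f) (h : Inv r G) :
    Inv r H := by
  obtain ⟨A, a, hA, ha, hA'⟩ := h
  refine ⟨A.map f, f a, ?_, ?_, ?_⟩
  · rintro _ ⟨x, hx, rfl⟩ _ ⟨y, hy, rfl⟩
    rw [← map_mul, ← map_mul, hA x hx y hy]
  · rintro _ ⟨x, hx, rfl⟩
    rw [← map_mul, ← map_inv, ← map_mul, ha x hx, map_inv]
  · rw [← hA']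
    exact (Nat.card_congr (A.equivMapOfInjective f hf).toEquiv).symm

end abstract

section SL

variable {F : Type*} [Field F]

/-- companion matrix -/
def cm (t : F) : S2 F := ⟨!![0, -1; 1, t], by simp [Matrix.det_fin_two]⟩

theorem exists_orderOf [Finite F] {a : ℕ} (h3 : ¬ 3 ∣ Nat.card F) (ha : 3 ^ a ∣ Nat.card F ^ 2 - 1) :
    ∃ g : S2 F, orderOf g = 3 ^ a := by
  classical
  have := Fintype.ofFinite F
  have : Fact (Nat.Prime 3) := ⟨Nat.prime_three⟩
  obtain ⟨P⟩ : Nonempty (Sylow 3 (P2 F)) := inferInstance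
  have hc := EndPsl.isCyclic_sylow (F := F) (p := 3) (by norm_num) h3 P
  have h1 : 3 ^ a ∣ Nat.card (P2 F) := by
    have h2 := Cfsg.Agent.S0243.result (F := F) rfl 2 le_rfl
    have h3' := Cfsg.Agent.S0242.result (F := F) rfl 2 (by norm_num)
    rw [← h3', ← Nat.card_eq_fintype_card] at h2
    have hq : 1 < Nat.card F := Finite.one_lt_card
    have h4 : Nat.gcd 2 (Nat.card F - 1) * Nat.card (P2 F) = Nat.card (S2 F) := by
      have : (Nat.card F - 1) * (Nat.gcd 2 (Nat.card F - 1) * Nat.card (P2 F)) = (Nat.card F - 1) * Nat.card (S2 F) := by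
        rw [← h2]; ring
      exact Nat.eq_of_mul_eq_mul_left (by omega) this
    have h5 : 3 ^ a ∣ Nat.gcd 2 (Nat.card F - 1) * Nat.card (P2 F) := by
      rw [h4, EndPsl.card_sl2]
      exact Dvd.dvd.mul_left ha _
    refine Nat.Coprime.dvd_of_dvd_mul_left ?_ h5
    have h6 : Nat.gcd 2 (Nat.card F - 1) ∣ 2 := Nat.gcd_dvd_left _ _
    exact Nat.Coprime.coprime_dvd_right h6 (Nat.Coprime.pow_left _ (by norm_num))
  have h2 : 3 ^ a ∣ Nat.card P := P.pow_dvd_card_of_pow_dvd_card h1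
  obtain ⟨x, hx⟩ := hc.exists_ofOrder_eq_natCard
  have hpr : Function.Surjective (QuotientGroup.mk' (Subgroup.center (S2 F))) := QuotientGroup.mk'_surjective _
  obtain ⟨g, hg⟩ := hpr (x : P2 F)
  have h4 : 3 ^ a ∣ orderOf g := by
    refine h2.trans ?_
    rw [← hx, ← Subgroup.orderOf_coe, ← hg]
    exact orderOf_map_dvd _ g
  have h5 : orderOf g ≠ 0 := (orderOf_pos g).ne'
  exact ⟨g ^ (orderOf g / 3 ^ a), orderOf_pow_orderOf_div h5 h4⟩

/-- a non-scalar matrix of determinant 1 is conjugate to a companion matrix -/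
theorem exists_companion (g : S2 F) (hg : ¬ ∃ c : F, g.1 = Matrix.scalar (Fin 2) c) :
    ∃ (t : F) (P : Matrix (Fin 2) (Fin 2) F), P.det ≠ 0 ∧ g.1 * P = P * (cm t).1 := by
  have key : ∀ x y : F, x * (g.1 1 0 * x + g.1 1 1 * y) - y * (g.1 0 0 * x + g.1 0 1 * y) ≠ 0 →
      ∃ (t : F) (P : Matrix (Fin 2) (Fin 2) F), P.det ≠ 0 ∧ g.1 * P = P * (cm t).1 := by
    intro x y h
    refine ⟨g.1 0 0 + g.1 1 1, !![x, g.1 0 0 * x + g.1 0 1 * y; y, g.1 1 0 * x + g.1 1 1 * y], ?_, ?_⟩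
    · rw [Matrix.det_fin_two_of]
      intro h2
      exact h (by linear_combination h2)
    · have hd : g.1 0 0 * g.1 1 1 - g.1 0 1 * g.1 1 0 = 1 := by rw [← Matrix.det_fin_two, g.2]
      show g.1 * _ = _ * !![0, -1; 1, g.1 0 0 + g.1 1 1]
      ext i j
      fin_cases i <;> fin_cases j <;> simp [Matrix.mul_apply, Fin.sum_univ_two]
      · linear_combination -x * hd
      · linear_combination -y * hd
  by_cases h1 : g.1 1 0 = 0
  · by_cases h2 : g.1 0 1 = 0
    · by_cases h3 : g.1 0 0 = g.1 1 1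
      · exfalso
        apply hg
        refine ⟨g.1 0 0, ?_⟩
        ext i j
        fin_cases i <;> fin_cases j <;> simp [h1, h2, h3]
      · apply key 1 1
        rw [h1, h2]
        intro h4
        apply h3
        linear_combination -h4
    · apply key 0 1
      intro h3
      apply h2
      linear_combination -h3
  · apply key 1 0
    intro h3
    apply h1
    linear_combination h3

theorem pow_mul_eq {g c P : Matrix (Fin 2) (Fin 2) F} (h : g * P = P * c) (n : ℕ) : g ^ n * P = P * c ^ n := by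
  induction n with
  | zero => simp
  | succ n ih => rw [pow_succ, Matrix.mul_assoc, h, ← Matrix.mul_assoc, ih, Matrix.mul_assoc, pow_succ]

theorem exists_cm [Finite F] {a : ℕ} (ha1 : 1 ≤ a) (h3 : ¬ 3 ∣ Nat.card F) (ha : 3 ^ a ∣ Nat.card F ^ 2 - 1) :
    ∃ t : F, orderOf (cm t) = 3 ^ a := by
  obtain ⟨g, hg⟩ := exists_orderOf (F := F) h3 ha
  have hns : ¬ ∃ c : F, g.1 = Matrix.scalar (Fin 2) c := by
    rintro ⟨c, hc⟩
    have h1 : c * c = 1 := by
      have := g.2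
      rw [hc] at this
      have h2 : c = 1 ∨ c = -1 := by simpa [Matrix.det_fin_two] using this
      rcases h2 with rfl | rfl <;> simp
    have h2 : g ^ 2 = 1 := by
      apply Subtype.ext
      rw [Matrix.SpecialLinearGroup.coe_pow, hc, ← map_pow, pow_two, h1, map_one]
      rfl
    have h4 : 3 ^ a ∣ 2 := by
      rw [← hg]
      exact orderOf_dvd_of_pow_eq_one h2
    have h5 := Nat.le_of_dvd (by norm_num) h4
    have h6 : 3 ^ 1 ≤ 3 ^ a := Nat.pow_le_pow_right (by norm_num) ha1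
    omega
  obtain ⟨t, P, hP, he⟩ := exists_companion g hns
  refine ⟨t, ?_⟩
  rw [← hg]
  have hu : IsUnit P := (Matrix.isUnit_iff_isUnit_det P).2 (isUnit_iff_ne_zero.2 hP)
  apply orderOf_eq_orderOf_iff.2
  intro n
  have h1 := pow_mul_eq he n
  constructor
  · intro h
    have h2 : (cm t).1 ^ n = 1 := by
      have := congrArg Subtype.val h
      rwa [Matrix.SpecialLinearGroup.coe_pow] at this
    rw [h2, mul_one] at h1
    apply Subtype.ext
    rw [Matrix.SpecialLinearGroup.coe_pow]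
    exact hu.mul_right_cancel (by rw [h1]; exact (one_mul P).symm)
  · intro h
    have h2 : g.1 ^ n = 1 := by
      have := congrArg Subtype.val h
      rwa [Matrix.SpecialLinearGroup.coe_pow] at this
    rw [h2, one_mul] at h1
    apply Subtype.ext
    rw [Matrix.SpecialLinearGroup.coe_pow]
    exact hu.mul_left_cancel (by rw [← h1]; exact (mul_one P).symm)

end SL

section four

variable {F : Type*} [Field F]

/-- the inverting isometry -/
def sM : Matrix (Fin 2 ⊕ Fin 2) (Fin 2 ⊕ Fin 2) F :=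
  Matrix.fromBlocks 0 !![1, 0; 0, -1] !![1, 0; 0, -1] 0

theorem sM_mul : sM * sM = (1 : Matrix (Fin 2 ⊕ Fin 2) (Fin 2 ⊕ Fin 2) F) := by
  rw [sM, Matrix.fromBlocks_multiply, ← Matrix.fromBlocks_one, Matrix.fromBlocks_inj]
  refine ⟨?_, ?_, ?_, ?_⟩ <;> ext i j <;> fin_cases i <;> fin_cases j <;> simp

def sI : ↥(Cfsg.isometryGroup F (Cfsg.quadFormPlus 2 F)) :=
  ⟨⟨sM, sM, sM_mul, sM_mul⟩, by
    rw [mem_iso]
    intro v
    show Cfsg.quadFormPlus 2 F (sM *ᵥ v) = _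
    rw [sM, Matrix.fromBlocks_mulVec]
    simp only [Cfsg.quadFormPlus, Fin.sum_univ_two, Sum.elim_inl, Sum.elim_inr, Pi.add_apply, Matrix.mulVec,
      dotProduct, Function.comp_apply]
    simp [mul_comm]⟩

theorem sI_mul : sI * sI = (1 : ↥(Cfsg.isometryGroup F (Cfsg.quadFormPlus 2 F))) := by
  apply Subtype.ext
  apply Units.ext
  exact sM_mul

theorem sI_inv : (sI : ↥(Cfsg.isometryGroup F (Cfsg.quadFormPlus 2 F)))⁻¹ = sI := inv_eq_of_mul_eq_one_right sI_mul

theorem inv_cm (t : F) : ((cm t)⁻¹).1 = !![t, 1; -1, 0] := by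
  rw [Matrix.SpecialLinearGroup.coe_inv, Matrix.adjugate_fin_two]
  ext i j
  fin_cases i <;> fin_cases j <;> simp [cm]

theorem sI_lev (t : F) : sI * lev 2 (cm t) * sI⁻¹ = (lev 2 (cm t))⁻¹ := by
  rw [sI_inv, ← map_inv]
  apply Subtype.ext
  apply Units.ext
  show sM * Matrix.fromBlocks (cm t).1 0 0 ((cm t)⁻¹).1ᵀ * sM = Matrix.fromBlocks ((cm t)⁻¹).1 0 0 ((cm t)⁻¹⁻¹).1ᵀ
  rw [inv_inv, inv_cm]
  show sM * Matrix.fromBlocks !![0, -1; 1, t] 0 0 !![t, 1; -1, 0]ᵀ * sM =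
    Matrix.fromBlocks !![t, 1; -1, 0] 0 0 !![0, -1; 1, t]ᵀ
  have e1 : (!![t, 1; -1, 0] : Matrix (Fin 2) (Fin 2) F)ᵀ = !![t, -1; -(-1), 0] := by
    ext i j
    fin_cases i <;> fin_cases j <;> simp
  have e2 : (!![0, -1; 1, t] : Matrix (Fin 2) (Fin 2) F)ᵀ = !![0, -(-1); -1, t] := by
    ext i j
    fin_cases i <;> fin_cases j <;> simp
  rw [e1, e2, sM]
  simp only [Matrix.fromBlocks_multiply, Matrix.mul_zero, Matrix.zero_mul, add_zero, zero_add]
  rw [Matrix.fromBlocks_inj]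
  refine ⟨?_, ?_, ?_, ?_⟩ <;> ext i j <;> fin_cases i <;> fin_cases j <;> simp [Matrix.mul_apply, Fin.sum_univ_two]

theorem sI_left (t : F) : sI * left (cm t) * sI⁻¹ = (left (cm t))⁻¹ := by
  rw [sI_inv, ← map_inv]
  apply Subtype.ext
  apply Units.ext
  show sM * (swM * Matrix.fromBlocks (cm t).1 0 0 ((cm t)⁻¹).1ᵀ * swM) * sM =
    swM * Matrix.fromBlocks ((cm t)⁻¹).1 0 0 ((cm t)⁻¹⁻¹).1ᵀ * swM
  rw [inv_inv, inv_cm]
  show sM * (swM * Matrix.fromBlocks !![0, -1; 1, t] 0 0 !![t, 1; -1, 0]ᵀ * swM) * sM =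
    swM * Matrix.fromBlocks !![t, 1; -1, 0] 0 0 !![0, -1; 1, t]ᵀ * swM
  have e1 : (!![t, 1; -1, 0] : Matrix (Fin 2) (Fin 2) F)ᵀ = !![t, -1; -(-1), 0] := by
    ext i j
    fin_cases i <;> fin_cases j <;> simp
  have e2 : (!![0, -1; 1, t] : Matrix (Fin 2) (Fin 2) F)ᵀ = !![0, -(-1); -1, t] := by
    ext i j
    fin_cases i <;> fin_cases j <;> simp
  rw [e1, e2, mat_left, mat_left, sM]
  simp only [Matrix.fromBlocks_multiply, Matrix.mul_zero, Matrix.zero_mul, add_zero, zero_add]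
  rw [Matrix.fromBlocks_inj]
  refine ⟨?_, ?_, ?_, ?_⟩ <;> ext i j <;> fin_cases i <;> fin_cases j <;> simp [Matrix.mul_apply, Fin.sum_univ_two]

/-- the two commuting `SL₂` -/
def both : S2 F × S2 F →* ↥(Cfsg.isometryGroup F (Cfsg.quadFormPlus 2 F)) :=
  (lev 2).noncommCoprod left fun g h => left_comm g h

theorem both_apply (x : S2 F × S2 F) : both x = lev 2 x.1 * left x.2 := rfl

theorem both_scalar {g h : S2 F} (e : both (g, h) = 1) : ∃ c : F, g.1 = Matrix.scalar (Fin 2) c := by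
  rw [both_apply] at e
  have e1 : lev 2 g = left h⁻¹ := by
    rw [map_inv]
    exact eq_inv_of_mul_eq_one_left e
  have e2 := congrArg (fun x : ↥(Cfsg.isometryGroup F (Cfsg.quadFormPlus 2 F)) =>
      ((x : GL (Fin 2 ⊕ Fin 2) F) : Matrix (Fin 2 ⊕ Fin 2) (Fin 2 ⊕ Fin 2) F)) e1
  simp only [coe_lev, coe_left] at e2
  obtain ⟨a, b, c, d, h1, h2, -⟩ := coe_SL2 h⁻¹
  rw [h1, h2, mat_left, Matrix.fromBlocks_inj] at e2
  refine ⟨a, ?_⟩
  rw [e2.1]
  ext i j
  fin_cases i <;> fin_cases j <;> simp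

theorem sq_eq_one_of_scalar {g : S2 F} (h : ∃ c : F, g.1 = Matrix.scalar (Fin 2) c) : g ^ 2 = 1 := by
  obtain ⟨c, hc⟩ := h
  have h1 : c * c = 1 := by
    have := g.2
    rw [hc] at this
    have h2 : c = 1 ∨ c = -1 := by simpa [Matrix.det_fin_two] using this
    rcases h2 with rfl | rfl <;> simp
  apply Subtype.ext
  rw [Matrix.SpecialLinearGroup.coe_pow, hc, ← map_pow, pow_two, h1, map_one]
  rfl

theorem inv_four [Finite F] {a : ℕ} (h3 : ¬ 3 ∣ Nat.card F) (ha : 3 ^ a ∣ Nat.card F ^ 2 - 1) :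
    Inv (2 * a) ↥(Cfsg.isometryGroup F (Cfsg.quadFormPlus 2 F)) := by
  rcases Nat.eq_zero_or_pos a with rfl | ha1
  · exact Inv.zero _
  obtain ⟨t, ht⟩ := exists_cm ha1 h3 ha
  have hodd : ∀ g ∈ zpowers (cm t), g ^ 2 = 1 → g = 1 := by
    intro g hg h2
    have h4 : g ^ (3 ^ a) = 1 := by
      rw [← ht]
      obtain ⟨k, rfl⟩ := mem_zpowers_iff.1 hg
      rw [← zpow_natCast, ← _root_.zpow_mul, mul_comm, _root_.zpow_mul, zpow_natCast, pow_orderOf_eq_one, _root_.one_zpow]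
    have h5 : Nat.Coprime (3 ^ a) 2 := Nat.Coprime.pow_left _ (by norm_num)
    have h6 := (pow_gcd_eq_one (a := g)).2 ⟨h4, h2⟩
    rwa [h5, pow_one] at h6
  have hinj : ∀ x ∈ (zpowers (cm t)).prod (zpowers (cm t)), both x = 1 → x = 1 := by
    rintro ⟨g, h⟩ ⟨hg, hh⟩ e
    have h1 : g = 1 := hodd g hg (sq_eq_one_of_scalar (both_scalar e))
    subst h1
    rw [both_apply, map_one, one_mul] at e
    have h2 : h = 1 := by
      have hl : Function.Injective (left (F := F)) :=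
        (MulEquiv.injective (MulAut.conj refl)).comp (lev_injective 2)
      exact (injective_iff_map_eq_one _).1 hl _ e
    rw [h2]
    rfl
  refine ⟨((zpowers (cm t)).prod (zpowers (cm t))).map both, sI, ?_, ?_, ?_⟩
  · rintro _ ⟨x, hx, rfl⟩ _ ⟨y, hy, rfl⟩
    rw [← map_mul, ← map_mul]
    congr 1
    refine Prod.ext ?_ ?_
    · obtain ⟨k, hk⟩ := mem_zpowers_iff.1 hx.1
      obtain ⟨l, hl⟩ := mem_zpowers_iff.1 hy.1
      show x.1 * y.1 = y.1 * x.1
      rw [← hk, ← hl, ← _root_.zpow_add, ← _root_.zpow_add, add_comm]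
    · obtain ⟨k, hk⟩ := mem_zpowers_iff.1 hx.2
      obtain ⟨l, hl⟩ := mem_zpowers_iff.1 hy.2
      show x.2 * y.2 = y.2 * x.2
      rw [← hk, ← hl, ← _root_.zpow_add, ← _root_.zpow_add, add_comm]
  · rintro _ ⟨⟨g, h⟩, ⟨hg, hh⟩, rfl⟩
    obtain ⟨k, hk⟩ := mem_zpowers_iff.1 hg
    obtain ⟨l, hl⟩ := mem_zpowers_iff.1 hh
    replace hk : cm t ^ k = g := hk
    replace hl : cm t ^ l = h := hl
    rw [both_apply]
    show sI * (lev 2 g * left h) * sI⁻¹ = (lev 2 g * left h)⁻¹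
    have e1 : sI * lev 2 g * sI⁻¹ = (lev 2 g)⁻¹ := by
      rw [← hk, map_zpow, ← conj_zpow, sI_lev, _root_.inv_zpow]
    have e2 : sI * left h * sI⁻¹ = (left h)⁻¹ := by
      rw [← hl, map_zpow, ← conj_zpow, sI_left, _root_.inv_zpow]
    have e3 : sI * (lev 2 g * left h) * sI⁻¹ = (sI * lev 2 g * sI⁻¹) * (sI * left h * sI⁻¹) := by group
    rw [e3, e1, e2, left_comm, _root_.mul_inv_rev]
  · have h1 : Nat.card (((zpowers (cm t)).prod (zpowers (cm t))).map both) =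
        Nat.card ((zpowers (cm t)).prod (zpowers (cm t))) := by
      have hi : Function.Injective (both.comp ((zpowers (cm t)).prod (zpowers (cm t))).subtype) := by
        rw [injective_iff_map_eq_one]
        intro x hx
        exact Subtype.ext (hinj x x.2 hx)
      have h2 := Nat.card_congr (MonoidHom.ofInjective hi).toEquiv
      rw [MonoidHom.range_comp, Subgroup.range_subtype] at h2
      exact h2.symm
    rw [h1, Nat.card_congr (Subgroup.prodEquiv _ _).toEquiv, Nat.card_prod, Nat.card_zpowers, ht, two_mul, pow_add]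

theorem inv_plus [Finite F] {a : ℕ} (h3 : ¬ 3 ∣ Nat.card F) (ha : 3 ^ a ∣ Nat.card F ^ 2 - 1) (n l : ℕ) :
    Inv (n * (2 * a)) ↥(Cfsg.isometryGroup F (Cfsg.quadFormPlus (2 * n + l) F)) := by
  induction n with
  | zero =>
    rw [zero_mul]
    exact Inv.zero _
  | succ n ih =>
    have h1 := (inv_four (F := F) h3 ha).prod ih
    have h2 := h1.map (isoBlk (Cfsg.Agent.H423.PGBlk.spE 2 (2 * n + l)) (spl_plus (F := F) 2 (2 * n + l)))
      (isoBlk_injective _ _)
    have e1 : 2 * a + n * (2 * a) = (n + 1) * (2 * a) := by ring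
    have e2 : 2 + (2 * n + l) = 2 * (n + 1) + l := by ring
    rwa [e1, e2] at h2

end four

end Cfsg.Agent.H109.ROrth
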