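import Cfsg.Agent.H109.RecSuzB
import Cfsg.Agent.H361.Alt.PslOrd
import Cfsg.Agent.H713.Spor.Fi22
import Cfsg.Agent.S2074

/-!
# The Suzuki group is recognizable by its element orders (helper109, task 2851, S3484)
-/

set_option autoImplicit false

namespace Cfsg.Agent.H109.RecSuz

open Subgroup Cfsg Cfsg.Agent.H58.Rec Cfsg.Agent.H455.Isolated Cfsg.Agent.OrdDiv Cfsg.Agent.H436
open Cfsg.Spor (Suz)
open Cfsg.Agent.H868.CopSuz (finSuz)

universe u v

theorem not_of_eleven {n s : ℕ} (hs : s.Prime) (h11 : s ≠ 11) (hd : 11 * s ∣ n) : ¬ HasOrd Suz n := by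
  have hfin := finSuz
  exact H306.Rec.not_hasOrd_of_isolated isolated_eleven hs h11 hd

theorem not_of_thirteen {n s : ℕ} (hs : s.Prime) (h11 : s ≠ 13) (hd : 13 * s ∣ n) : ¬ HasOrd Suz n := by
  have hfin := finSuz
  exact H306.Rec.not_hasOrd_of_isolated isolated_thirteen hs h11 hd

theorem not_of_card {n : ℕ} (h : ¬ n ∣ 448345497600) : ¬ HasOrd Suz n := by
  rintro ⟨g, hg⟩
  apply h
  rw [← hg, ← card_suz]
  exact orderOf_dvd_natCard g

theorem not_35 : ¬ HasOrd Suz 35 := by
  have hfin := finSuz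
  rintro ⟨g, hg⟩
  exact H361.Alt.SuzF.no_35 (S := Suz) ⟨MulEquiv.refl _⟩ g hg

open Equiv Equiv.Perm in
theorem alt_35 {n : ℕ} (hn : n = 13 ∨ n = 14 ∨ n = 15 ∨ n = 16) : ∃ x : alternatingGroup (Fin n), orderOf x = 35 := by
  have key : ∀ {G : Type} [Group G] (x : G), x ^ 35 = 1 → x ^ 5 ≠ 1 → x ^ 7 ≠ 1 → orderOf x = 35 := by
    intro G _ x h h5 h7
    refine orderOf_eq_of_pow_and_pow_div_prime (by norm_num) h fun p hp hd => ?_
    have h1 : p = 5 ∨ p = 7 := by
      have h2 : p ∣ 5 * 7 := hd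
      rcases hp.dvd_mul.1 h2 with h3 | h3
      · exact Or.inl ((Nat.prime_dvd_prime_iff_eq hp (by norm_num)).1 h3)
      · exact Or.inr ((Nat.prime_dvd_prime_iff_eq hp (by norm_num)).1 h3)
    rcases h1 with rfl | rfl
    · exact h7
    · exact h5
  rcases hn with rfl | rfl | rfl | rfl
  · exact ⟨⟨c[0, 1, 2, 3, 4] * c[5, 6, 7, 8, 9, 10, 11], by
      rw [mem_alternatingGroup]
      decide +kernel⟩,
      key _ (by decide +kernel) (by decide +kernel) (by decide +kernel)⟩
  · exact ⟨⟨c[0, 1, 2, 3, 4] * c[5, 6, 7, 8, 9, 10, 11], by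
      rw [mem_alternatingGroup]
      decide +kernel⟩,
      key _ (by decide +kernel) (by decide +kernel) (by decide +kernel)⟩
  · exact ⟨⟨c[0, 1, 2, 3, 4] * c[5, 6, 7, 8, 9, 10, 11], by
      rw [mem_alternatingGroup]
      decide +kernel⟩,
      key _ (by decide +kernel) (by decide +kernel) (by decide +kernel)⟩
  · exact ⟨⟨c[0, 1, 2, 3, 4] * c[5, 6, 7, 8, 9, 10, 11], by
      rw [mem_alternatingGroup]
      decide +kernel⟩,
      key _ (by decide +kernel) (by decide +kernel) (by decide +kernel)⟩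

theorem lst_eq : lst [2, 3, 5, 7, 11, 13] [11, 13] 13 17 =
    [.alt 13, .alt 14, .alt 15, .alt 16, .suz, .fi22, .psl 5 3, .psl 6 3] := by
  decide +kernel

/-- the simple groups with element orders in `ω(Suz)` -/
theorem simple_eq (hN : NameHyp.{u}) (S : Type u) [Group S] [Finite S] [IsSimpleGroup S] (hS : ¬ IsMulCommutative S)
    (h : H306.Rec.Sub S Suz) : Nonempty (S ≃* Suz) := by
  have hfin := finSuz
  obtain ⟨g, hg, hm⟩ := H306.Rec.name_mem hN hS h (ps := [2, 3, 5, 7, 11, 13]) (rs := [11, 13]) (B := 13) (N := 17)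
    card_suz (by norm_num) (by decide) (by norm_num) (by decide)
    (fun r hr hd => by rcases prime_cases hr hd with rfl | rfl | rfl | rfl | rfl | rfl <;> decide)
    (by
      intro r hr
      simp only [List.mem_cons, List.not_mem_nil, or_false] at hr
      rcases hr with rfl | rfl
      · exact h.dvd 11 good_eleven
      · exact h.dvd 13 good_thirteen)
  rw [lst_eq] at hm
  have halt : ∀ n : ℕ, (n = 13 ∨ n = 14 ∨ n = 15 ∨ n = 16) → IsNamed (.alt n) S → False := by
    intro n hn hg
    obtain ⟨e⟩ := hg.real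
    obtain ⟨x, hx⟩ := alt_35 hn
    exact not_35 (h.ord 35 ⟨e.symm x, by rw [MulEquiv.orderOf_eq, hx]⟩)
  simp only [List.mem_cons, List.not_mem_nil, or_false] at hm
  rcases hm with rfl | rfl | rfl | rfl | rfl | rfl | rfl | rfl
  · exact (halt 13 (by norm_num) hg).elim
  · exact (halt 14 (by norm_num) hg).elim
  · exact (halt 15 (by norm_num) hg).elim
  · exact (halt 16 (by norm_num) hg).elim
  · exact hg.real
  · obtain ⟨e⟩ := hg.real
    obtain ⟨x, hx⟩ := H713.Spor.Fi22.exists_22 e
    exact (not_of_eleven (s := 2) (by norm_num) (by norm_num) (by norm_num) (h.ord 22 ⟨x, hx⟩)).elim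
  · obtain ⟨x, hx⟩ := H361.Alt.psl_5_3 hg
    exact (not_of_card (by norm_num) (h.ord 121 ⟨x, hx⟩)).elim
  · obtain ⟨x, hx⟩ := H361.Alt.psl_6_3 hg
    exact (not_of_thirteen (s := 7) (by norm_num) (by norm_num) (by norm_num) (h.ord 91 ⟨x, hx⟩)).elim

/-- the outer part -/
theorem outer_part (X : Type u) [Group X] [Finite X] (S : Subgroup X) [S.Normal] (hidx : S.index = 2)
    (he : Nonempty (S ≃* Suz)) : ∃ n, HasOrd X n ∧ ¬ HasOrd Suz n := by
  have hfin := finSuz
  obtain ⟨e⟩ := he
  have hc : Nat.card S = 448345497600 := (Nat.card_congr e.toEquiv).trans card_suz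
  refine ⟨2 * 11, hasOrd_two_mul_of_class S hidx (by decide) ((hasOrd_prime (by norm_num)).2 (by rw [hc]; norm_num)) ?_,
    not_of_eleven (s := 2) (by norm_num) (by norm_num) (by norm_num)⟩
  exact one_class (by norm_num) (by rw [hc]; norm_num) (frob_eleven.of_injective e.symm.toMonoidHom e.symm.injective)

theorem rec_model (hN : NameHyp.{u}) {G : Type u} [Group G] [Finite G] (h : Same G Suz) : Nonempty (G ≃* Suz) := by
  have hfin := finSuz
  refine H306.Rec.main h good_eleven isolated_thirteen (by norm_num) (by norm_num) (by norm_num)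
    (by rw [card_suz]; norm_num) (by rw [card_suz]; norm_num) (simple_eq hN) ?_ (Or.inr ⟨S2074.result, ?_⟩)
  · intro p hp hd
    rw [card_suz] at hd
    rcases prime_cases hp hd with rfl | rfl | rfl | rfl | rfl | rfl
    · exact Or.inr ⟨3, 11, by norm_num, by norm_num, frob_three,
        not_of_eleven (s := 2) (by norm_num) (by norm_num) (by norm_num)⟩
    · exact Or.inr ⟨11, 10, by norm_num, by norm_num, frob_eleven, not_30⟩
    · exact Or.inr ⟨3, 11, by norm_num, by norm_num, frob_three,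
        not_of_eleven (s := 5) (by norm_num) (by norm_num) (by norm_num)⟩
    · exact Or.inr ⟨3, 11, by norm_num, by norm_num, frob_three,
        not_of_eleven (s := 7) (by norm_num) (by norm_num) (by norm_num)⟩
    · exact Or.inl good_eleven
    · exact Or.inl good_thirteen
  · intro X _ _ S _ hidx _ he
    exact outer_part X S hidx he

/-- **The Suzuki group is recognizable by its element orders.** -/
theorem rec_suz (hN : NameHyp.{u}) {G : Type u} [Group G] [Finite G] {M : Type v} [Group M] [Finite M]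
    (hM : Spor.IsoSuz M) (h : Same G M) : Nonempty (G ≃* M) := by
  obtain ⟨e⟩ := hM
  obtain ⟨f⟩ := rec_model hN (G := G) (fun n => (h n).trans ⟨fun h1 => h1.congr e, fun h1 => h1.congr e.symm⟩)
  exact ⟨f.trans e.symm⟩

end Cfsg.Agent.H109.RecSuz
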