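import Cfsg.Agent.H109.RecSuzA
import Cfsg.Agent.H868.CopSuzB
import Cfsg.Agent.H393.Iso.Suz
import Cfsg.Agent.BpTab.Spor
import Cfsg.Agent.H361.Alt.Suz
import Cfsg.Agent.H306.Rec.Tools

/-!
# The Suzuki group: isolated primes, element orders, Frobenius groups (helper109, task 2851, S3484)

* `isolated_eleven`, `isolated_thirteen`, `good_eleven`, `good_thirteen`;
* `not_30` : no element of order 30;
* `frob_three` : `3^5 : 11`, `frob_eleven` : `11 : 10`.
-/

set_option autoImplicit false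

namespace Cfsg.Agent.H109.RecSuz

open Subgroup Cfsg Cfsg.Agent.H58.Rec Cfsg.Agent.H455.Isolated
open Cfsg.Spor (Suz)
open Cfsg.Agent.SporRec.SuzCl (Fx)
open Cfsg.Agent.SporadicRecognition.SuzPhi Cfsg.Agent.CpAutSuz.Fix
open Cfsg.Agent.H868.CopSuz (finSuz common)

theorem card_suz : Nat.card Suz = 448345497600 := NotCT.Orders.suz ⟨MulEquiv.refl _⟩

/-- elements of order 11 have no fixed points -/
theorem Fx_eleven {x : Suz} (hx : orderOf x = 11) : Fx x = ∅ := by
  rw [Finset.eq_empty_iff_forall_notMem]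
  intro a ha
  exact no_fix (l := 11) (by norm_num) hx (mem_Fx.1 ha).1 (mem_Fx.1 ha).2

theorem Fx_mod {x y : Suz} (hx : orderOf x = 11) (h : x * y = y * x) : (Fx y).card % 11 = 0 := by
  have : Fact (Nat.Prime 11) := ⟨by norm_num⟩
  have h1 := common hx h
  rw [Fx_eleven hx, Finset.empty_inter, Finset.card_empty] at h1
  exact h1

theorem prime_cases {s : ℕ} (hs : s.Prime) (hd : s ∣ 448345497600) :
    s = 2 ∨ s = 3 ∨ s = 5 ∨ s = 7 ∨ s = 11 ∨ s = 13 := by
  have h1 := H306.Rec.mem_of_dvd_pow (ps := [2, 3, 5, 7, 11, 13]) (by decide +kernel) (m := 448345497600) (k := 13)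
    (by decide +kernel) hs hd
  simpa using h1

/-- the parts of an element of order `a * b` -/
theorem parts {X : Type*} [Group X] {g : X} {a b : ℕ} (ha : 0 < a) (hb : 0 < b) (hg : orderOf g = a * b) :
    orderOf (g ^ b) = a ∧ orderOf (g ^ a) = b ∧ g ^ b * g ^ a = g ^ a * g ^ b := by
  refine ⟨?_, ?_, ((Commute.refl g).pow_pow b a).eq⟩
  · rw [orderOf_pow_of_dvd hb.ne' (by rw [hg]; exact dvd_mul_left _ _), hg]
    exact Nat.mul_div_cancel _ hb
  · rw [orderOf_pow_of_dvd ha.ne' (by rw [hg]; exact dvd_mul_right _ _), hg]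
    exact Nat.mul_div_cancel_left _ ha

/-- **11 is isolated** -/
theorem isolated_eleven : Isolated Suz 11 := by
  have hfin := finSuz
  intro s hs hs11 g hg
  obtain ⟨h1, h2, h3⟩ := parts (by norm_num) hs.pos hg
  have hd : s ∣ 448345497600 := by
    rw [← card_suz]
    exact (Dvd.intro_left 11 hg.symm).trans (orderOf_dvd_natCard g)
  rcases prime_cases hs hd with rfl | rfl | rfl | rfl | rfl | rfl
  · exact H393.Iso.na_suz ⟨MulEquiv.refl _⟩ _ _ h1 h2 h3
  · exact no_33 h1 h2 h3.symm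
  · have := Fx_mod h1 h3
    rcases CpAutSuz.Five.card_Fx_five h2 with h | h <;> rw [h] at this <;> norm_num at this
  · have := Fx_mod h1 h3
    rw [card_Fx_seven h2] at this
    norm_num at this
  · exact hs11 rfl
  · have := Fx_mod h1 h3
    rw [card_Fx_thirteen h2] at this
    norm_num at this

/-- **13 is isolated** -/
theorem isolated_thirteen : Isolated Suz 13 := by
  have hfin := finSuz
  exact H306.Rec.isolated_of_sc (by norm_num) H868.CopSuz.sc_thirteen

theorem good_eleven : Good Suz 11 := by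
  have hfin := finSuz
  exact good_of_two (s := 13) (by norm_num) (by norm_num) (by rw [card_suz]; norm_num) isolated_eleven (by norm_num)
    (by norm_num) (by rw [card_suz]; norm_num) isolated_thirteen (by norm_num)

theorem good_thirteen : Good Suz 13 := by
  have hfin := finSuz
  exact good_of_two (s := 11) (by norm_num) (by norm_num) (by rw [card_suz]; norm_num) isolated_thirteen (by norm_num)
    (by norm_num) (by rw [card_suz]; norm_num) isolated_eleven (by norm_num)

/-- **no element of order 30** -/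
theorem not_30 : ¬ HasOrd Suz 30 := by
  have hfin := finSuz
  rintro ⟨g, hg⟩
  obtain ⟨h1, h2, h3⟩ := parts (a := 5) (b := 6) (by norm_num) (by norm_num) (by rw [hg])
  obtain ⟨h4, h5, h6⟩ := parts (g := g ^ 5) (a := 2) (b := 3) (by norm_num) (by norm_num) (by rw [h2])
  have hc1 : Commute (g ^ 6) ((g ^ 5) ^ 3) := ((Commute.refl g).pow_pow 6 5).pow_right 3
  have hc2 : Commute (g ^ 6) ((g ^ 5) ^ 2) := ((Commute.refl g).pow_pow 6 5).pow_right 2
  obtain ⟨n, hn⟩ := Cfsg.Agent.BpSpor.SuzFive.bd h4 (g ^ 6) h1 hc1.eq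
  have h7 : (g ^ 5) ^ 2 ∈ (centralizer ({(g ^ 5) ^ 3} : Set Suz) ⊓ centralizer ({g ^ 6} : Set Suz) : Subgroup Suz) :=
    ⟨mem_centralizer_singleton_iff.2 h6.symm, mem_centralizer_singleton_iff.2 hc2.eq.symm⟩
  have h8 := orderOf_dvd_natCard (⟨_, h7⟩ :
    (centralizer ({(g ^ 5) ^ 3} : Set Suz) ⊓ centralizer ({g ^ 6} : Set Suz) : Subgroup Suz))
  rw [Subgroup.orderOf_mk, h5] at h8
  have h9 := h8.trans hn
  rcases (Nat.Prime.dvd_mul Nat.prime_three).1 h9 with h | h
  · norm_num at h
  · exact absurd (Nat.prime_three.dvd_of_dvd_pow h) (by norm_num)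

/-- `3^5 : 11` -/
theorem frob_three : HasFrob Suz 3 11 := by
  have hfin := finSuz
  have hfr : ∃ y : Suz, orderOf y = 11 ∧ y ∈ normalizer (SuzThree.Elementary.A0 : Set Suz) ∧
    ∀ i : ℕ, ¬ 11 ∣ i → ∃ a ∈ SuzThree.Elementary.A0, ¬ Commute (y ^ i) a := H361.Alt.SuzF.exists_eleven
  obtain ⟨y, hy, hn, hc⟩ := hfr
  refine ⟨SuzThree.Elementary.A0, y, H361.Alt.SuzF.a0_three, ?_, hn, hy, ?_⟩
  · intro h
    obtain ⟨a, ha, hya⟩ := hc 1 (by norm_num)
    rw [h, mem_bot] at ha
    rw [ha] at hya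
    exact hya (Commute.one_right _)
  · intro j hj hj' a ha hcomm
    by_contra ha1
    have h3 : orderOf a = 3 := by
      have : Fact (Nat.Prime 3) := ⟨Nat.prime_three⟩
      exact orderOf_eq_prime (SuzThree.Elementary.cube_A0 ha) ha1
    have h11 : orderOf (y ^ j) = 11 := by
      rw [orderOf_pow' y hj.ne', hy, Nat.Coprime.gcd_eq_one, Nat.div_one]
      rw [Nat.Prime.coprime_iff_not_dvd (by norm_num)]
      exact fun h => absurd (Nat.le_of_dvd hj h) (by omega)
    exact no_33 h11 h3 hcomm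

/-- `11 : 10` -/
theorem frob_eleven : HasFrob Suz 11 10 := by
  have hfin := finSuz
  exact hasFrob_of_isolated (by norm_num) card_suz isolated_eleven (by norm_num) (by norm_num) (by norm_num)
    (by decide +kernel)

end Cfsg.Agent.H109.RecSuz
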