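import Mathlib
import Cfsg.Agent.H109.Base

/-!
# Root groups from few relations (helper109)

* `comm_of_trinomial` : the trick of Campbell, Robertson and Williams.
* `exists_x_core` : a root group `x : F → G` from an abelian group of exponent `p` generated by the conjugates of `u`.
-/

set_option autoImplicit false

namespace Cfsg.Agent.H109

open Polynomial
open scoped IsMulCommutative

section trinomial

variable {G : Type*} [Group G]

/-- **Campbell, Robertson, Williams**: if `a b = b a`, `u u^a = u^a u = u^b`, the conjugates of `u` by the powers of `a`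
commute. -/
theorem comm_of_trinomial {u a b : G} (hab : Commute a b)
    (h1 : u * (a * u * a⁻¹) = b * u * b⁻¹) (h2 : (a * u * a⁻¹) * u = b * u * b⁻¹) (i j : ℤ) :
    Commute (a ^ i * u * (a ^ i)⁻¹) (a ^ j * u * (a ^ j)⁻¹) := by
  -- shift
  have shift : ∀ (k m n : ℤ), Commute (a ^ m * u * (a ^ m)⁻¹) (a ^ n * u * (a ^ n)⁻¹) →
      Commute (a ^ (k + m) * u * (a ^ (k + m))⁻¹) (a ^ (k + n) * u * (a ^ (k + n))⁻¹) := by
    intro k m n hmn
    have := hmn.map (MulAut.conj (a ^ k)).toMonoidHom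
    simp only [MulEquiv.toMonoidHom_eq_coe, MonoidHom.coe_coe, MulAut.conj_apply] at this
    have e : ∀ t : ℤ, a ^ (k + t) * u * (a ^ (k + t))⁻¹ = a ^ k * (a ^ t * u * (a ^ t)⁻¹) * (a ^ k)⁻¹ := by
      intro t; rw [zpow_add]; group
    rw [e, e]
    exact this
  have key : ∀ n : ℕ, Commute u (a ^ (n : ℤ) * u * (a ^ (n : ℤ))⁻¹) := by
    intro n
    induction n using Nat.strong_induction_on with
    | _ n ih =>
      rcases n with _ | n
      · simp
      rcases n with _ | n
      · have e : u * (a * u * a⁻¹) = (a * u * a⁻¹) * u := h1.trans h2.symm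
        have e' : Commute u (a * u * a⁻¹) := e
        simpa using e'
      · -- c_0 commutes with c_(n+1)
        have h0 := ih (n + 1) (by omega)
        have hb := h0.map (MulAut.conj b).toMonoidHom
        simp only [MulEquiv.toMonoidHom_eq_coe, MonoidHom.coe_coe, MulAut.conj_apply] at hb
        have e1 : b * (a ^ ((n + 1 : ℕ) : ℤ) * u * (a ^ ((n + 1 : ℕ) : ℤ))⁻¹) * b⁻¹ =
            (a ^ ((n + 1 : ℕ) : ℤ) * u * (a ^ ((n + 1 : ℕ) : ℤ))⁻¹) *
            (a ^ ((n + 1 + 1 : ℕ) : ℤ) * u * (a ^ ((n + 1 + 1 : ℕ) : ℤ))⁻¹) := by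
          have hz : Commute (a ^ ((n + 1 : ℕ) : ℤ)) b := hab.zpow_left _
          calc b * (a ^ ((n + 1 : ℕ) : ℤ) * u * (a ^ ((n + 1 : ℕ) : ℤ))⁻¹) * b⁻¹
              = (b * a ^ ((n + 1 : ℕ) : ℤ)) * u * (b * a ^ ((n + 1 : ℕ) : ℤ))⁻¹ := by group
            _ = (a ^ ((n + 1 : ℕ) : ℤ) * b) * u * (a ^ ((n + 1 : ℕ) : ℤ) * b)⁻¹ := by rw [hz.eq]
            _ = a ^ ((n + 1 : ℕ) : ℤ) * (b * u * b⁻¹) * (a ^ ((n + 1 : ℕ) : ℤ))⁻¹ := by group
            _ = _ := by
              rw [← h1]
              have : a ^ ((n + 1 + 1 : ℕ) : ℤ) = a ^ ((n + 1 : ℕ) : ℤ) * a := by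
                rw [← zpow_add_one]; congr 1
              rw [this]
              group
        rw [e1, ← h1] at hb
        have e2 : a * u * a⁻¹ = a ^ (1 : ℤ) * u * (a ^ (1 : ℤ))⁻¹ := by rw [zpow_one]
        have c1 : Commute (a * u * a⁻¹) (a ^ ((n + 1 : ℕ) : ℤ) * u * (a ^ ((n + 1 : ℕ) : ℤ))⁻¹) := by
          have := shift 1 0 n (by simpa using ih n (by omega))
          rw [e2]
          have e3 : (1 : ℤ) + 0 = 1 := by norm_num
          have e4 : (1 : ℤ) + n = ((n + 1 : ℕ) : ℤ) := by push_cast; ring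
          rw [e3, e4] at this
          exact this
        have c2 : Commute (a * u * a⁻¹) (a ^ ((n + 1 + 1 : ℕ) : ℤ) * u * (a ^ ((n + 1 + 1 : ℕ) : ℤ))⁻¹) := by
          have := shift 1 0 (n + 1 : ℕ) (by simpa using ih (n + 1) (by omega))
          rw [e2]
          have e3 : (1 : ℤ) + 0 = 1 := by norm_num
          have e4 : (1 : ℤ) + ((n + 1 : ℕ) : ℤ) = ((n + 1 + 1 : ℕ) : ℤ) := by push_cast; ring
          rw [e3, e4] at this
          exact this
        have c3 := c1.mul_right c2
        have c4 := hb.mul_left c3.inv_left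
        rw [mul_inv_cancel_right] at c4
        have c5 := h0.inv_right.mul_right c4
        rw [inv_mul_cancel_left] at c5
        exact c5
  rcases le_total i j with hij | hij
  · obtain ⟨n, hn⟩ := Int.eq_ofNat_of_zero_le (sub_nonneg.2 hij)
    have := shift i 0 n (by simpa using key n)
    have e : i + (n : ℤ) = j := by omega
    rwa [add_zero, e] at this
  · obtain ⟨n, hn⟩ := Int.eq_ofNat_of_zero_le (sub_nonneg.2 hij)
    have := shift j 0 n (by simpa using key n)
    have e : j + (n : ℤ) = i := by omega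
    rw [add_zero, e] at this
    exact this.symm

end trinomial

section core

variable {G : Type*} [Group G] {p : ℕ} [Fact p.Prime] {F : Type*} [Field F] [Fintype F] [Algebra (ZMod p) F]

/-- The root group, auxiliary version. -/
theorem exists_x_aux (U : Subgroup G) [IsMulCommutative U] [Module (ZMod p) (Additive U)]
    {u a h : G} (hu : u ∈ U) (ha : a ∈ Subgroup.normalizer (U : Set G)) (hh : h ∈ Subgroup.normalizer (U : Set G))
    (hah : Commute a h)
    (hgen : U ≤ Subgroup.closure {g | ∃ i : ℤ, g = a ^ i * u * (a ^ i)⁻¹})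
    {α γ : F} (hα : Algebra.adjoin (ZMod p) {α} = ⊤) {l : List ℤ} (hl : ev α l = γ)
    (hact : h * u * h⁻¹ = pw a u l)
    (hpoly : pw a u (lst (minpoly (ZMod p) α)) = 1 ∨
      ∃ f g : (ZMod p)[X], l = lst f ∧ f * minpoly (ZMod p) α = g * (X ^ Fintype.card F - X) ∧
        a ^ (Fintype.card F - 1) = 1) :
    ∃ x : F → G, (∀ s t, x (s + t) = x s * x t) ∧ x 1 = u ∧ (∀ t, a * x t * a⁻¹ = x (α * t)) ∧
      (∀ t, h * x t * h⁻¹ = x (γ * t)) ∧ (∀ t, x t ∈ U) := by
  classical
  -- conjugation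
  let N := Subgroup.normalizer (U : Set G)
  have hN : ∀ g ∈ N, ∀ v ∈ U, g * v * g⁻¹ ∈ U := fun g hg v hv =>
    (Subgroup.mem_normalizer_iff.1 hg v).1 hv
  let Φ : N →* Module.End (ZMod p) (Additive U) :=
    { toFun := fun g => AddMonoidHom.toZModLinearMap p
        { toFun := fun v => Additive.ofMul ⟨g.1 * (Additive.toMul v).1 * g.1⁻¹, hN _ g.2 _ (Additive.toMul v).2⟩
          map_zero' := by
            apply Additive.toMul.injective
            apply Subtype.ext
            simp
          map_add' := by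
            intro v w
            apply Additive.toMul.injective
            apply Subtype.ext
            simp [mul_assoc] }
      map_one' := by
        refine LinearMap.ext fun v => ?_
        rw [Module.End.one_apply]
        refine Additive.toMul.injective (Subtype.ext ?_)
        change (1 : G) * ((Additive.toMul v : U) : G) * (1 : G)⁻¹ = ((Additive.toMul v : U) : G)
        simp
      map_mul' := by
        intro g k
        refine LinearMap.ext fun v => ?_
        rw [Module.End.mul_apply]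
        refine Additive.toMul.injective (Subtype.ext ?_)
        change ((g : G) * (k : G)) * ((Additive.toMul v : U) : G) * ((g : G) * (k : G))⁻¹ =
          (g : G) * ((k : G) * ((Additive.toMul v : U) : G) * (k : G)⁻¹) * (g : G)⁻¹
        group }
  have hΦ : ∀ (g : N) (v : Additive U), ((Additive.toMul (Φ g v) : U) : G) =
      g.1 * (Additive.toMul v).1 * g.1⁻¹ := fun g v => rfl
  let Y := Φ ⟨a, ha⟩
  let T := Φ ⟨h, hh⟩
  let u0 : Additive U := Additive.ofMul ⟨u, hu⟩
  -- Lemma A
  have hA : ∀ (g : N) (v : Additive U) (l : List ℤ),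
      ((Additive.toMul ((ev (Φ g) l) v) : U) : G) = pw g.1 (Additive.toMul v).1 l := by
    intro g v l
    induction l with
    | nil => simp
    | cons c l ih =>
      have e1 : ((Additive.toMul ((c : Module.End (ZMod p) (Additive U)) v) : U) : G) =
          ((Additive.toMul v : U) : G) ^ c := by
        rw [Module.End.intCast_apply, toMul_zsmul]
        rfl
      rw [ev_cons, pw_cons, LinearMap.add_apply, toMul_add, Subgroup.coe_mul, e1, Module.End.mul_apply, hΦ, ih]
  -- Lemma B
  have hB : ∀ S : Module.End (ZMod p) (Additive U), S * Y = Y * S → S u0 = 0 → S = 0 := by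
    intro S hS hS0
    have hYn : ∀ n : ℕ, Y ^ n = Φ (⟨a, ha⟩ ^ n) := fun n => (map_pow Φ _ n).symm
    have h1 : ∀ i : ℤ, S * Φ (⟨a, ha⟩ ^ i) = Φ (⟨a, ha⟩ ^ i) * S := by
      have hcN : Commute S (Φ ⟨a, ha⟩) := hS
      intro i
      have hun : ∀ g : N, Φ g * Φ g⁻¹ = 1 := fun g => by rw [← map_mul, mul_inv_cancel, map_one]
      have hun' : ∀ g : N, Φ g⁻¹ * Φ g = 1 := fun g => by rw [← map_mul, inv_mul_cancel, map_one]
      obtain ⟨n, rfl | rfl⟩ := i.eq_nat_or_neg
      · rw [zpow_natCast, map_pow]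
        exact (hcN.pow_right n).eq
      · rw [zpow_neg, zpow_natCast]
        have h2 : Commute S (Φ (⟨a, ha⟩ ^ n)) := by rw [map_pow]; exact hcN.pow_right n
        calc S * Φ ((⟨a, ha⟩ ^ n)⁻¹) = (Φ ((⟨a, ha⟩ ^ n)⁻¹) * Φ (⟨a, ha⟩ ^ n)) * S * Φ ((⟨a, ha⟩ ^ n)⁻¹) := by
              rw [hun', one_mul]
          _ = Φ ((⟨a, ha⟩ ^ n)⁻¹) * (S * Φ (⟨a, ha⟩ ^ n)) * Φ ((⟨a, ha⟩ ^ n)⁻¹) := by
              rw [h2.eq]; simp only [mul_assoc]
          _ = Φ ((⟨a, ha⟩ ^ n)⁻¹) * S := by
              rw [mul_assoc, mul_assoc S, hun, mul_one]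
    refine LinearMap.ext fun v => ?_
    change S v = 0
    have h3 : ∀ g ∈ Subgroup.closure {g | ∃ i : ℤ, g = a ^ i * u * (a ^ i)⁻¹}, ∀ hg : g ∈ U,
        S (Additive.ofMul ⟨g, hg⟩) = 0 := by
      intro g hg
      have hle : Subgroup.closure {g | ∃ i : ℤ, g = a ^ i * u * (a ^ i)⁻¹} ≤ U := by
        rw [Subgroup.closure_le]
        rintro _ ⟨i, rfl⟩
        exact hN _ (Subgroup.zpow_mem _ ha i) _ hu
      induction hg using Subgroup.closure_induction with
      | mem y hy =>
        obtain ⟨i, rfl⟩ := hy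
        intro hg
        have h4 := congrArg (fun R : Module.End (ZMod p) (Additive U) => R u0) (h1 i)
        simp only [Module.End.mul_apply] at h4
        rw [hS0, map_zero] at h4
        rw [← h4]
        congr 1
      | one => intro hg; exact map_zero S
      | mul y z hy hz ihy ihz =>
        intro hg
        have : (Additive.ofMul (⟨y * z, hg⟩ : U)) = Additive.ofMul ⟨y, hle hy⟩ + Additive.ofMul ⟨z, hle hz⟩ := rfl
        rw [this, map_add, ihy, ihz, add_zero]
      | inv y hy ihy =>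
        intro hg
        have : (Additive.ofMul (⟨y⁻¹, hg⟩ : U)) = - Additive.ofMul ⟨y, hle hy⟩ := rfl
        rw [this, map_neg, ihy, neg_zero]
    exact h3 _ (hgen (Additive.toMul v).2) (Additive.toMul v).2
  have hYT : T * Y = Y * T := by
    change Φ _ * Φ _ = Φ _ * Φ _
    rw [← map_mul, ← map_mul]
    congr 1
    exact Subtype.ext hah.symm.eq
  have hevY : ∀ l : List ℤ, ev Y l * Y = Y * ev Y l := by
    intro l
    induction l with
    | nil => simp
    | cons c l ih =>
      rw [ev_cons, add_mul, mul_add, mul_assoc, ih, (Int.cast_commute c Y).eq]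
  have hTl : T = ev Y l := by
    have := hB (T - ev Y l) (by rw [sub_mul, mul_sub, hYT, hevY]) (by
      rw [LinearMap.sub_apply, sub_eq_zero]
      apply Additive.toMul.injective
      apply Subtype.ext
      rw [hA]
      exact hact)
    exact sub_eq_zero.1 this
  have hmin : aeval Y (minpoly (ZMod p) α) = 0 := by
    rcases hpoly with h1 | ⟨f, g, hlf, hfg, haq⟩
    · rw [← ev_lst]
      apply hB _ (hevY _)
      apply Additive.toMul.injective
      apply Subtype.ext
      rw [hA]
      exact h1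
    · have hY : Y ^ Fintype.card F - Y = 0 := by
        have h1 : Y ^ (Fintype.card F - 1) = 1 := by
          change Φ _ ^ _ = 1
          rw [← map_pow]
          have : (⟨a, ha⟩ : N) ^ (Fintype.card F - 1) = 1 := Subtype.ext haq
          rw [this, map_one]
        have h2 : Fintype.card F = (Fintype.card F - 1) + 1 := by
          have := Fintype.card_pos (α := F)
          omega
        rw [h2, pow_succ, h1, one_mul, sub_self]
      have hT : T = aeval Y f := by rw [hTl, hlf, ev_lst]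
      have h3 : T * aeval Y (minpoly (ZMod p) α) = 0 := by
        rw [hT, ← map_mul, hfg, map_mul, map_sub, map_pow, aeval_X, hY, mul_zero]
      have h4 : Φ (⟨h, hh⟩)⁻¹ * T = 1 := by
        change Φ (⟨h, hh⟩)⁻¹ * Φ ⟨h, hh⟩ = 1
        rw [← map_mul, inv_mul_cancel, map_one]
      calc aeval Y (minpoly (ZMod p) α) = (Φ (⟨h, hh⟩)⁻¹ * T) * aeval Y (minpoly (ZMod p) α) := by
            rw [h4, one_mul]
        _ = 0 := by rw [mul_assoc, h3, mul_zero]
  obtain ⟨Ψ, hΨ⟩ := root_hom α hα Y hmin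
  have hΨγ : Ψ γ = T := by rw [← hl, map_ev, hΨ, hTl]
  refine ⟨fun t => ((Additive.toMul (Ψ t u0) : U) : G), ?_, ?_, ?_, ?_, ?_⟩
  · intro s t
    simp [map_add]
  · simp [u0]
  · intro t
    change a * ((Additive.toMul (Ψ t u0) : U) : G) * a⁻¹ = ((Additive.toMul (Ψ (α * t) u0) : U) : G)
    rw [map_mul, hΨ, Module.End.mul_apply]
    exact (hΦ ⟨a, ha⟩ _).symm
  · intro t
    change h * ((Additive.toMul (Ψ t u0) : U) : G) * h⁻¹ = ((Additive.toMul (Ψ (γ * t) u0) : U) : G)
    rw [map_mul, hΨγ, Module.End.mul_apply]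
    exact (hΦ ⟨h, hh⟩ _).symm
  · intro t
    exact (Additive.toMul (Ψ t u0)).2

/-- The root group. -/
theorem exists_x_core (U : Subgroup G) (hc : ∀ v ∈ U, ∀ w ∈ U, v * w = w * v) (hp : ∀ v ∈ U, v ^ p = 1)
    {u a h : G} (hu : u ∈ U) (ha : a ∈ Subgroup.normalizer (U : Set G)) (hh : h ∈ Subgroup.normalizer (U : Set G))
    (hah : Commute a h)
    (hgen : U ≤ Subgroup.closure {g | ∃ i : ℤ, g = a ^ i * u * (a ^ i)⁻¹})
    {α γ : F} (hα : Algebra.adjoin (ZMod p) {α} = ⊤) {l : List ℤ} (hl : ev α l = γ)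
    (hact : h * u * h⁻¹ = pw a u l)
    (hpoly : pw a u (lst (minpoly (ZMod p) α)) = 1 ∨
      ∃ f g : (ZMod p)[X], l = lst f ∧ f * minpoly (ZMod p) α = g * (X ^ Fintype.card F - X) ∧
        a ^ (Fintype.card F - 1) = 1) :
    ∃ x : F → G, (∀ s t, x (s + t) = x s * x t) ∧ x 1 = u ∧ (∀ t, a * x t * a⁻¹ = x (α * t)) ∧
      (∀ t, h * x t * h⁻¹ = x (γ * t)) ∧ (∀ t, x t ∈ U) := by
  have hI : IsMulCommutative U := ⟨⟨fun v w => Subtype.ext (hc v v.2 w w.2)⟩⟩
  have hM : ∀ v : Additive U, p • v = 0 := fun v => Additive.toMul.injective (by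
    rw [toMul_nsmul, toMul_zero]
    exact Subtype.ext (hp _ (Additive.toMul v).2))
  let _ : Module (ZMod p) (Additive U) := AddCommGroup.zmodModule (n := p) hM
  exact exists_x_aux U hu ha hh hah hgen hα hl hact hpoly

end core

end Cfsg.Agent.H109
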