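import Mathlib
import Cfsg.Agent.Lib.SL2Lift

/-!
# The relations of `SL₂(F)` from two values of the Weyl relation (helper109)

* `rel_of` : the relations `SL2Lift.Rel` from a torus homomorphism and the Weyl relation for representatives of the
  units modulo squares.
* `relSL` : the relations hold in `SL₂(F)`.
-/

set_option autoImplicit false

namespace Cfsg.Agent.H109

open Matrix Cfsg.Agent.Lib

variable {F : Type*} [Field F]

open Classical in
/-- extension of a homomorphism of the units by `1` -/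
noncomputable def ext1 {G : Type*} [Group G] (Hm : Fˣ →* G) (a : F) : G :=
  if ha : a = 0 then 1 else Hm (Units.mk0 a ha)

theorem ext1_of_ne {G : Type*} [Group G] (Hm : Fˣ →* G) {a : F} (ha : a ≠ 0) :
    ext1 Hm a = Hm (Units.mk0 a ha) := dif_neg ha

theorem ext1_unit {G : Type*} [Group G] (Hm : Fˣ →* G) (a : Fˣ) : ext1 Hm (a : F) = Hm a := by
  rw [ext1_of_ne Hm a.ne_zero]
  congr 1
  exact Units.ext rfl

/-- The relations from few Weyl relations. -/
theorem rel_of {G : Type*} [Group G] {x : F → G} {w : G} (Hm : Fˣ →* G) (hx : ∀ s t, x (s + t) = x s * x t)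
    (hc : ∀ (a : Fˣ) (t : F), Hm a * x t * (Hm a)⁻¹ = x ((a : F) ^ 2 * t))
    (wh : ∀ a : Fˣ, w * Hm a * w⁻¹ = (Hm a)⁻¹) (ww : w * w = Hm (-1))
    (wx : ∀ t : Fˣ, ∃ a s : Fˣ, t = a ^ 2 * s ∧
      w * x (s : F) * w = x (-((s⁻¹ : Fˣ) : F)) * Hm (-s⁻¹) * w * x (-((s⁻¹ : Fˣ) : F))) :
    SL2Lift.Rel x (ext1 Hm) w where
  add := hx
  mul := by
    intro a b ha hb
    rw [ext1_of_ne _ ha, ext1_of_ne _ hb, ext1_of_ne _ (mul_ne_zero ha hb), ← map_mul]
    congr 1
    exact Units.ext rfl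
  conj := by
    intro a t ha
    have := hc (Units.mk0 a ha) t
    rw [Units.val_mk0] at this
    rw [ext1_of_ne _ ha, ← this]
    simp
  wh := by
    intro a ha
    rw [ext1_of_ne _ ha, ext1_of_ne _ (inv_ne_zero ha)]
    have e : Units.mk0 a⁻¹ (inv_ne_zero ha) = (Units.mk0 a ha)⁻¹ := Units.ext (by simp)
    rw [e, map_inv, ← wh]
    group
  ww := by
    rw [ww, ext1_of_ne _ (neg_ne_zero.2 one_ne_zero)]
    congr 1
    exact Units.ext (by simp)
  wx := by
    intro t ht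
    obtain ⟨a, s, hts, hs⟩ := wx (Units.mk0 t ht)
    have ht' : t = (a : F) ^ 2 * (s : F) := by
      have := congrArg (Units.val) hts
      simpa using this
    have e0 : ext1 Hm (-t⁻¹) = Hm (-(a ^ 2 * s)⁻¹) := by
      rw [← hts, ← ext1_unit]
      congr 1
    have hai : ∀ t : F, (Hm a)⁻¹ * x t * Hm a = x (((a⁻¹ : Fˣ) : F) ^ 2 * t) := by
      intro t
      have := hc a⁻¹ t
      rw [map_inv, inv_inv] at this
      exact this
    have e1 : w * x t * w = (Hm a)⁻¹ * (w * x (s : F) * w) * Hm a := by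
      have h1 : w * Hm a = (Hm a)⁻¹ * w := by rw [← wh]; group
      have h2 : (Hm a)⁻¹ * w = w * Hm a := h1.symm
      rw [ht', ← hc]
      calc w * (Hm a * x (s : F) * (Hm a)⁻¹) * w = (w * Hm a) * x (s : F) * ((Hm a)⁻¹ * w) := by group
        _ = ((Hm a)⁻¹ * w) * x (s : F) * (w * Hm a) := by rw [h1, h2]
        _ = _ := by group
    have e2 : (Hm a)⁻¹ * Hm (-s⁻¹) * w * Hm a = Hm (-(a ^ 2 * s)⁻¹) * w := by
      have h1 : w * Hm a = (Hm a)⁻¹ * w := by rw [← wh]; group
      rw [mul_assoc, h1, ← mul_assoc, ← map_inv, ← map_mul, ← map_mul]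
      congr 2
      rw [mul_neg, neg_mul]
      congr 1
      rw [mul_inv, sq, mul_inv]
      exact mul_right_comm _ _ _
    rw [e1, hs, e0]
    have e3 : x (-t⁻¹) = (Hm a)⁻¹ * x (-((s⁻¹ : Fˣ) : F)) * Hm a := by
      rw [hai]
      congr 1
      rw [ht', mul_inv]
      push_cast
      simp [inv_pow]
    have e4 : ∀ X A B H W : G, H⁻¹ * (X * A * W * X) * H = (H⁻¹ * X * H) * (H⁻¹ * A * W * H) * (H⁻¹ * X * H) := by
      intro X A B H W
      group
    rw [e3, e4 _ _ 1, e2]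
    simp only [mul_assoc]

variable (F) in
/-- the diagonal homomorphism -/
noncomputable def dH : Fˣ →* SpecialLinearGroup (Fin 2) F where
  toFun a := SL2Lift.H (a : F) a.ne_zero
  map_one' := by
    apply SL2Lift.ext' <;> simp [SL2Lift.H]
  map_mul' a b := by
    apply SL2Lift.ext' <;> rw [SL2Lift.mulH] <;> simp [SL2Lift.H, mul_comm]

theorem dH_apply (a : Fˣ) : dH F a = SL2Lift.H (a : F) a.ne_zero := rfl

/-- The relations hold in `SL₂(F)`. -/
theorem relSL : SL2Lift.Rel (SL2Lift.X : F → _) (ext1 (dH F)) SL2Lift.W where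
  add := by
    intro s t
    apply SL2Lift.ext' <;> rw [SL2Lift.mulX] <;> simp [SL2Lift.X, add_comm]
  mul := by
    intro a b ha hb
    rw [ext1_of_ne _ ha, ext1_of_ne _ hb, ext1_of_ne _ (mul_ne_zero ha hb), ← map_mul]
    congr 1
    exact Units.ext rfl
  conj := by
    intro a t ha
    rw [ext1_of_ne _ ha, dH_apply]
    apply SL2Lift.ext' <;> rw [SL2Lift.mulH, SL2Lift.mulX] <;> simp [SL2Lift.H, SL2Lift.X]
    field_simp
  wh := by
    intro a ha
    rw [ext1_of_ne _ ha, ext1_of_ne _ (inv_ne_zero ha), dH_apply, dH_apply]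
    apply SL2Lift.ext' <;> rw [SL2Lift.mulH, SL2Lift.mulW] <;> simp [SL2Lift.H, SL2Lift.W]
  ww := by
    rw [ext1_of_ne _ (neg_ne_zero.2 one_ne_zero), dH_apply]
    apply SL2Lift.ext' <;> rw [SL2Lift.mulW] <;> simp [SL2Lift.H, SL2Lift.W]
  wx := by
    intro t ht
    rw [ext1_of_ne _ (neg_ne_zero.2 (inv_ne_zero ht)), dH_apply]
    apply SL2Lift.ext' <;> rw [SL2Lift.mulW, SL2Lift.mulX] <;> rw [SL2Lift.mulX, SL2Lift.mulW, SL2Lift.mulH] <;>
      simp [SL2Lift.H, SL2Lift.W, SL2Lift.X, ht]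

end Cfsg.Agent.H109
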