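import Mathlib
import Cfsg.Agent.H109.SL3a

/-!
# The homomorphism from `SL₃(F)` (helper109)
-/

set_option autoImplicit false
set_option linter.unusedSectionVars false

namespace Cfsg.Agent.H109

open scoped commutatorElement
open Cfsg.Agent.Lib Cfsg.Agent.AGraded
open Matrix (SpecialLinearGroup)

variable {F : Type*} [Field F] {J : Type*} [Group J] {x : F → J} {Hm : Fˣ →* J} {w c : J}

/-- the root elements -/
def XX (x : F → J) (w c : J) (i j : Fin 3) (t : F) : J :=
  match i, j with
  | 0, 1 => x t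
  | 1, 0 => yy x w t
  | 1, 2 => c * x t * c⁻¹
  | 2, 1 => c * yy x w t * c⁻¹
  | 2, 0 => c⁻¹ * x t * c
  | 0, 2 => c⁻¹ * yy x w t * c
  | _, _ => 1

theorem conj_br (g a b : J) : ⁅g * a * g⁻¹, g * b * g⁻¹⁆ = g * ⁅a, b⁆ * g⁻¹ := by
  simp only [commutatorElement_def]; group

theorem conj_br' (g a b : J) : ⁅g⁻¹ * a * g, g⁻¹ * b * g⁆ = g⁻¹ * ⁅a, b⁆ * g := by
  simp only [commutatorElement_def]; group

theorem conj_comm {a b : J} (h : Commute a b) (g : J) : Commute (g * a * g⁻¹) (g * b * g⁻¹) := by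
  have := h.map (MulAut.conj g).toMonoidHom
  simpa only [MulEquiv.toMonoidHom_eq_coe, MonoidHom.coe_coe, MulAut.conj_apply] using this

theorem conj_comm' {a b : J} (h : Commute a b) (g : J) : Commute (g⁻¹ * a * g) (g⁻¹ * b * g) := by
  have := conj_comm h g⁻¹
  rwa [inv_inv] at this

section

variable (h : D3 x Hm w c) {S : Set Fˣ}
  (span1 : ∀ M : AddSubgroup F, (∀ k : Fˣ, ∀ s ∈ S, (k : F) ^ 3 * (s : F) ∈ M) → ∀ t, t ∈ M)
  (span2 : ∀ M : AddSubgroup F, (∀ k : Fˣ, ∀ s ∈ S, (k : F) ^ 3 * ((s⁻¹ : Fˣ) : F) ∈ M) → ∀ t, t ∈ M)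
  (hC : ∀ s ∈ S, ⁅x 1, c * x (s : F) * c⁻¹⁆ = c⁻¹ * yy x w (s : F) * c)

include h

theorem add23 (s t : F) : c * x (s + t) * c⁻¹ = (c * x s * c⁻¹) * (c * x t * c⁻¹) := by
  rw [h.rel.add]; group

theorem add13 (s t : F) : c⁻¹ * yy x w (s + t) * c = (c⁻¹ * yy x w s * c) * (c⁻¹ * yy x w t * c) := by
  rw [yy_add h.rel]; group

include span1 span2 hC

theorem tri : (∀ r s, ⁅x r, c * x s * c⁻¹⁆ = c⁻¹ * yy x w (r * s) * c) ∧
    (∀ s t, Commute (c * x s * c⁻¹) (c⁻¹ * yy x w t * c)) ∧
    (∀ r t, Commute (x r) (c⁻¹ * yy x w t * c)) := by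
  refine triple (A := x) (B := fun t => c * x t * c⁻¹) (C := fun t => c⁻¹ * yy x w t * c) h.rel.add (add23 h)
    (add13 h) S span1 span2 ?_
  intro r k s hs
  have e1 := hC s hs
  set a : Fˣ := r * k with ha
  set b : Fˣ := r * k ^ 2 with hb
  have d1 : Act (Hm a * (c * Hm b * c⁻¹)) x (r : F) := by
    refine ((h.a0x a).mul (h.a1x b)).congr rfl (fun _ => rfl) ?_
    rw [ha, hb]; push_cast
    have := r.ne_zero
    have := k.ne_zero
    field_simp
  have d2 : Act (Hm a * (c * Hm b * c⁻¹)) (fun t => c * x t * c⁻¹) ((r : F) * (k : F) ^ 3) := by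
    refine ((h.a0x23 a).mul (h.a1x23 b)).congr rfl (fun _ => rfl) ?_
    rw [ha, hb]; push_cast
    have := r.ne_zero
    have := k.ne_zero
    field_simp
  have d3 : Act (Hm a * (c * Hm b * c⁻¹)) (fun t => c⁻¹ * yy x w t * c) ((r : F) * ((r : F) * (k : F) ^ 3)) := by
    refine ((h.a0x13 a).mul (h.a1x13 b)).congr rfl (fun _ => rfl) ?_
    rw [ha, hb]; push_cast
    ring
  have e2 := d1 1
  have e3 := d2 (s : F)
  have e4 := d3 (s : F)
  rw [mul_one] at e2
  simp only at e3 e4
  rw [← e2, ← e3, conj_br, e1, e4]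
  congr 3
  ring

theorem stein : SteinRel (XX x w c) := by
  obtain ⟨t1, t2, t3⟩ := tri h span1 span2 hC
  have hc := h.cinv
  have hc2 := h.cinv2
  have hcc : c * c = c⁻¹ := hc.symm
  -- conjugation by `c`
  have cc1 : ∀ z : J, c * (c * z * c⁻¹) * c⁻¹ = c⁻¹ * z * c := by
    intro z
    calc c * (c * z * c⁻¹) * c⁻¹ = (c * c) * z * (c * c)⁻¹ := by group
      _ = _ := by rw [hcc, inv_inv]
  have cc2 : ∀ z : J, c * (c⁻¹ * z * c) * c⁻¹ = z := by intro z; group
  have cc3 : ∀ z : J, c⁻¹ * (c⁻¹ * z * c) * c = c * z * c⁻¹ := by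
    intro z
    calc c⁻¹ * (c⁻¹ * z * c) * c = (c⁻¹ * c⁻¹) * z * (c⁻¹ * c⁻¹)⁻¹ := by
          simp only [mul_assoc, mul_inv_rev, inv_inv]
      _ = _ := by rw [hc2]
  have cc4 : ∀ z : J, c⁻¹ * (c * z * c⁻¹) * c = z := by intro z; group
  -- (0,1,2)
  have b012 : ∀ a b, ⁅x a, c * x b * c⁻¹⁆ = c⁻¹ * yy x w (a * b) * c := t1
  have b120 : ∀ a b, ⁅c * x a * c⁻¹, c⁻¹ * x b * c⁆ = yy x w (a * b) := by
    intro a b
    rw [← cc1 (x b), conj_br, b012, cc2]
  have b201 : ∀ a b, ⁅c⁻¹ * x a * c, x b⁆ = c * yy x w (a * b) * c⁻¹ := by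
    intro a b
    rw [← cc1 (x a), ← cc2 (x b), conj_br, b120]
  -- (2,1,0)
  have b210 : ∀ a b, ⁅c * yy x w a * c⁻¹, yy x w b⁆ = c⁻¹ * x (a * b) * c := by
    intro a b
    have h1 := h.s01 (-a)
    have h2 := h.s12 (-b)
    rw [neg_neg] at h1 h2
    rw [← h1, ← h2, conj_br, b012, neg_mul_neg, h.s02]
  have b021 : ∀ a b, ⁅c⁻¹ * yy x w a * c, c * yy x w b * c⁻¹⁆ = x (a * b) := by
    intro a b
    rw [← cc1 (yy x w a), conj_br, b210, cc2]
  have b102 : ∀ a b, ⁅yy x w a, c⁻¹ * yy x w b * c⁆ = c * x (a * b) * c⁻¹ := by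
    intro a b
    rw [← cc1 (yy x w b), ← cc2 (yy x w a), conj_br, b021]
  -- columns and rows
  have col2 : ∀ a b, Commute (c * x a * c⁻¹) (c⁻¹ * yy x w b * c) := t2
  have col0 : ∀ a b, Commute (c⁻¹ * x a * c) (yy x w b) := by
    intro a b
    have := conj_comm (col2 a b) c
    rwa [cc1, cc2] at this
  have col1 : ∀ a b, Commute (x a) (c * yy x w b * c⁻¹) := by
    intro a b
    have := conj_comm (col0 a b) c
    rwa [cc2] at this
  have row0 : ∀ a b, Commute (x a) (c⁻¹ * yy x w b * c) := t3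
  have row1 : ∀ a b, Commute (c * x a * c⁻¹) (yy x w b) := by
    intro a b
    have := conj_comm (row0 a b) c
    rwa [cc2] at this
  have row2 : ∀ a b, Commute (c⁻¹ * x a * c) (c * yy x w b * c⁻¹) := by
    intro a b
    have := conj_comm (row1 a b) c
    rwa [cc1] at this
  have xc : ∀ a b, Commute (x a) (x b) := by
    intro a b
    change x a * x b = x b * x a
    rw [← h.rel.add, ← h.rel.add, add_comm]
  have yc : ∀ a b, Commute (yy x w a) (yy x w b) := by
    intro a b
    change yy x w a * yy x w b = yy x w b * yy x w a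
    rw [← yy_add h.rel, ← yy_add h.rel, add_comm]
  refine ⟨?_, ?_, ?_⟩
  · intro i j hij a b
    fin_cases i <;> fin_cases j <;> first
      | exact absurd rfl hij
      | exact h.rel.add a b
      | exact yy_add h.rel a b
      | exact add23 h a b
      | exact add13 h a b
      | (change c * yy x w (a + b) * c⁻¹ = (c * yy x w a * c⁻¹) * (c * yy x w b * c⁻¹)
         rw [yy_add h.rel]; group)
      | (change c⁻¹ * x (a + b) * c = (c⁻¹ * x a * c) * (c⁻¹ * x b * c)
         rw [h.rel.add]; group)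
  · intro i j k l hij hkl hjk hil a b
    fin_cases i <;> fin_cases j <;> first
      | exact absurd rfl hij
      | (fin_cases k <;> first
          | exact absurd rfl hjk
          | (fin_cases l <;> first
              | exact absurd rfl hkl
              | exact absurd rfl hil
              | exact (xc a b).eq
              | exact (yc a b).eq
              | exact (conj_comm (xc a b) c).eq
              | exact (conj_comm (yc a b) c).eq
              | exact (conj_comm' (xc a b) c).eq
              | exact (conj_comm' (yc a b) c).eq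
              | exact (col2 a b).eq
              | exact (col2 b a).symm.eq
              | exact (col0 a b).eq
              | exact (col0 b a).symm.eq
              | exact (col1 a b).eq
              | exact (col1 b a).symm.eq
              | exact (row0 a b).eq
              | exact (row0 b a).symm.eq
              | exact (row1 a b).eq
              | exact (row1 b a).symm.eq
              | exact (row2 a b).eq
              | exact (row2 b a).symm.eq))
  · intro i j k hij hjk hik a b
    fin_cases i <;> fin_cases j <;> first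
      | exact absurd rfl hij
      | (fin_cases k <;> first
          | exact absurd rfl hjk
          | exact absurd rfl hik
          | exact b012 a b
          | exact b120 a b
          | exact b201 a b
          | exact b210 a b
          | exact b021 a b
          | exact b102 a b)

end

end Cfsg.Agent.H109
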