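import Mathlib
import Cfsg.Agent.H109.SL3b

/-!
# The homomorphism from `SL₃(F)` and the matrices (helper109)
-/

set_option autoImplicit false
set_option linter.unusedSectionVars false

namespace Cfsg.Agent.H109

open scoped commutatorElement
open Cfsg.Agent.Lib Cfsg.Agent.AGraded
open Matrix (SpecialLinearGroup)

section hom

variable {F : Type*} [Field F] {J : Type*} [Group J] {x : F → J} {Hm : Fˣ →* J} {w c : J}

section

variable (r : SL2Lift.Rel x (ext1 Hm) w)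

include r

theorem t01 (u : Fˣ) : (x (u : F) * yy x w (-(u : F)⁻¹) * x (u : F)) *
    (x (-1) * yy x w (-(-1 : F)⁻¹) * x (-1)) = Hm u := by
  have h1 := weyl_eq r u
  have h2 := weyl_eq r (-1)
  rw [Units.val_inv_eq_inv_val] at h1 h2
  rw [Units.val_neg, Units.val_one] at h2
  rw [h1, h2]
  calc Hm u * w * (Hm (-1) * w) = Hm u * (w * Hm (-1) * w⁻¹) * (w * w) := by group
    _ = Hm u := by rw [rel_wh r, rel_ww r]; group

theorem t10 (u : Fˣ) : (yy x w (u : F) * x (-(u : F)⁻¹) * yy x w (u : F)) *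
    (yy x w (-1) * x (-(-1 : F)⁻¹) * yy x w (-1)) = (Hm u)⁻¹ := by
  have key : ∀ v : Fˣ, yy x w (v : F) * x (-(v : F)⁻¹) * yy x w (v : F) = w * Hm (-v) := by
    intro v
    have h1 := weyl_eq r (-v)
    have e1 : yy x w (v : F) = w * x ((-v : Fˣ) : F) * w⁻¹ := by
      rw [w_x]; congr 1; push_cast; ring
    have e2 : x (-(v : F)⁻¹) = w * yy x w (-(((-v)⁻¹ : Fˣ) : F)) * w⁻¹ := by
      rw [w_yy r]; congr 1; push_cast; simp [inv_neg]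
    rw [e2, e1]
    calc w * x ((-v : Fˣ) : F) * w⁻¹ * (w * yy x w (-(((-v)⁻¹ : Fˣ) : F)) * w⁻¹) * (w * x ((-v : Fˣ) : F) * w⁻¹) =
        w * (x ((-v : Fˣ) : F) * yy x w (-(((-v)⁻¹ : Fˣ) : F)) * x ((-v : Fˣ) : F)) * w⁻¹ := by group
      _ = _ := by rw [h1]; group
  have h1 := key u
  have h2 := key (-1)
  rw [Units.val_neg, Units.val_one] at h2
  rw [h1, h2, neg_neg, map_one, mul_one]
  calc w * Hm (-u) * w = (w * Hm (-u) * w⁻¹) * (w * w) := by group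
    _ = (Hm u)⁻¹ := by
      rw [rel_wh r, rel_ww r, ← map_inv, ← map_inv, ← map_mul]
      congr 1
      simp

end

variable (h : D3 x Hm w c)

include h

theorem hRel : CTFrame.Torus.HRel (XX x w c) := by
  have conj3 : ∀ g a b d e f k : J, (g * a * g⁻¹) * (g * b * g⁻¹) * (g * d * g⁻¹) * ((g * e * g⁻¹) * (g * f * g⁻¹) *
      (g * k * g⁻¹)) = g * ((a * b * d) * (e * f * k)) * g⁻¹ := by
    intros; group
  have conj3' : ∀ g a b d e f k : J, (g⁻¹ * a * g) * (g⁻¹ * b * g) * (g⁻¹ * d * g) * ((g⁻¹ * e * g) * (g⁻¹ * f * g) *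
      (g⁻¹ * k * g)) = g⁻¹ * ((a * b * d) * (e * f * k)) * g := by
    intros; group
  have r := h.rel
  intro i j hij a b ha hb
  obtain ⟨u, rfl⟩ : ∃ u : Fˣ, a = (u : F) := ⟨Units.mk0 a ha, rfl⟩
  obtain ⟨v, rfl⟩ : ∃ u : Fˣ, b = (u : F) := ⟨Units.mk0 b hb, rfl⟩
  have m01 := t01 r
  have m10 := t10 r
  rw [← Units.val_mul]
  fin_cases i <;> fin_cases j <;> first
    | exact absurd rfl hij
    | (change (x (u : F) * yy x w (-(u : F)⁻¹) * x (u : F)) * (x (-1) * yy x w (-(-1 : F)⁻¹) * x (-1)) *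
          ((x (v : F) * yy x w (-(v : F)⁻¹) * x (v : F)) * (x (-1) * yy x w (-(-1 : F)⁻¹) * x (-1))) =
          (x ((u * v : Fˣ) : F) * yy x w (-((u * v : Fˣ) : F)⁻¹) * x ((u * v : Fˣ) : F)) *
          (x (-1) * yy x w (-(-1 : F)⁻¹) * x (-1))
       rw [m01, m01, m01, map_mul])
    | (change (yy x w (u : F) * x (-(u : F)⁻¹) * yy x w (u : F)) *
          (yy x w (-1) * x (-(-1 : F)⁻¹) * yy x w (-1)) *
          ((yy x w (v : F) * x (-(v : F)⁻¹) * yy x w (v : F)) *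
          (yy x w (-1) * x (-(-1 : F)⁻¹) * yy x w (-1))) =
          (yy x w ((u * v : Fˣ) : F) * x (-((u * v : Fˣ) : F)⁻¹) * yy x w ((u * v : Fˣ) : F)) *
          (yy x w (-1) * x (-(-1 : F)⁻¹) * yy x w (-1))
       rw [m10, m10, m10, mul_comm u v, map_mul, mul_inv_rev])
    | (change (c * x (u : F) * c⁻¹) * (c * yy x w (-(u : F)⁻¹) * c⁻¹) * (c * x (u : F) * c⁻¹) *
          ((c * x (-1) * c⁻¹) * (c * yy x w (-(-1 : F)⁻¹) * c⁻¹) * (c * x (-1) * c⁻¹)) *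
          ((c * x (v : F) * c⁻¹) * (c * yy x w (-(v : F)⁻¹) * c⁻¹) * (c * x (v : F) * c⁻¹) *
          ((c * x (-1) * c⁻¹) * (c * yy x w (-(-1 : F)⁻¹) * c⁻¹) * (c * x (-1) * c⁻¹))) =
          (c * x ((u * v : Fˣ) : F) * c⁻¹) * (c * yy x w (-((u * v : Fˣ) : F)⁻¹) * c⁻¹) *
          (c * x ((u * v : Fˣ) : F) * c⁻¹) *
          ((c * x (-1) * c⁻¹) * (c * yy x w (-(-1 : F)⁻¹) * c⁻¹) * (c * x (-1) * c⁻¹))
       rw [conj3, conj3, conj3, m01, m01, m01, map_mul]; group)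
    | (change (c * yy x w (u : F) * c⁻¹) * (c * x (-(u : F)⁻¹) * c⁻¹) * (c * yy x w (u : F) * c⁻¹) *
          ((c * yy x w (-1) * c⁻¹) * (c * x (-(-1 : F)⁻¹) * c⁻¹) * (c * yy x w (-1) * c⁻¹)) *
          ((c * yy x w (v : F) * c⁻¹) * (c * x (-(v : F)⁻¹) * c⁻¹) * (c * yy x w (v : F) * c⁻¹) *
          ((c * yy x w (-1) * c⁻¹) * (c * x (-(-1 : F)⁻¹) * c⁻¹) * (c * yy x w (-1) * c⁻¹))) =
          (c * yy x w ((u * v : Fˣ) : F) * c⁻¹) * (c * x (-((u * v : Fˣ) : F)⁻¹) * c⁻¹) *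
          (c * yy x w ((u * v : Fˣ) : F) * c⁻¹) *
          ((c * yy x w (-1) * c⁻¹) * (c * x (-(-1 : F)⁻¹) * c⁻¹) * (c * yy x w (-1) * c⁻¹))
       rw [conj3, conj3, conj3, m10, m10, m10, mul_comm u v, map_mul]; group)
    | (change (c⁻¹ * x (u : F) * c) * (c⁻¹ * yy x w (-(u : F)⁻¹) * c) * (c⁻¹ * x (u : F) * c) *
          ((c⁻¹ * x (-1) * c) * (c⁻¹ * yy x w (-(-1 : F)⁻¹) * c) * (c⁻¹ * x (-1) * c)) *
          ((c⁻¹ * x (v : F) * c) * (c⁻¹ * yy x w (-(v : F)⁻¹) * c) * (c⁻¹ * x (v : F) * c) *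
          ((c⁻¹ * x (-1) * c) * (c⁻¹ * yy x w (-(-1 : F)⁻¹) * c) * (c⁻¹ * x (-1) * c))) =
          (c⁻¹ * x ((u * v : Fˣ) : F) * c) * (c⁻¹ * yy x w (-((u * v : Fˣ) : F)⁻¹) * c) *
          (c⁻¹ * x ((u * v : Fˣ) : F) * c) *
          ((c⁻¹ * x (-1) * c) * (c⁻¹ * yy x w (-(-1 : F)⁻¹) * c) * (c⁻¹ * x (-1) * c))
       rw [conj3', conj3', conj3', m01, m01, m01, map_mul]; group)
    | (change (c⁻¹ * yy x w (u : F) * c) * (c⁻¹ * x (-(u : F)⁻¹) * c) * (c⁻¹ * yy x w (u : F) * c) *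
          ((c⁻¹ * yy x w (-1) * c) * (c⁻¹ * x (-(-1 : F)⁻¹) * c) * (c⁻¹ * yy x w (-1) * c)) *
          ((c⁻¹ * yy x w (v : F) * c) * (c⁻¹ * x (-(v : F)⁻¹) * c) * (c⁻¹ * yy x w (v : F) * c) *
          ((c⁻¹ * yy x w (-1) * c) * (c⁻¹ * x (-(-1 : F)⁻¹) * c) * (c⁻¹ * yy x w (-1) * c))) =
          (c⁻¹ * yy x w ((u * v : Fˣ) : F) * c) * (c⁻¹ * x (-((u * v : Fˣ) : F)⁻¹) * c) *
          (c⁻¹ * yy x w ((u * v : Fˣ) : F) * c) *
          ((c⁻¹ * yy x w (-1) * c) * (c⁻¹ * x (-(-1 : F)⁻¹) * c) * (c⁻¹ * yy x w (-1) * c))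
       rw [conj3', conj3', conj3', m10, m10, m10, mul_comm u v, map_mul]; group)

variable {S : Set Fˣ}
  (span1 : ∀ M : AddSubgroup F, (∀ k : Fˣ, ∀ s ∈ S, (k : F) ^ 3 * (s : F) ∈ M) → ∀ t, t ∈ M)
  (span2 : ∀ M : AddSubgroup F, (∀ k : Fˣ, ∀ s ∈ S, (k : F) ^ 3 * ((s⁻¹ : Fˣ) : F) ∈ M) → ∀ t, t ∈ M)
  (hC : ∀ s ∈ S, ⁅x 1, c * x (s : F) * c⁻¹⁆ = c⁻¹ * yy x w (s : F) * c)

include span1 span2 hC

theorem exists_hom3 : ∃ π : SpecialLinearGroup (Fin 3) F →* J,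
    ∀ i j (hij : i ≠ j) a, π (SpecialLinearGroup.transvection hij a) = XX x w c i j a := by
  obtain ⟨π, h1, -, -⟩ := CTFrame.Hom.exists_hom (stein h span1 span2 hC) (hRel h) (by simp)
  exact ⟨π, h1⟩

end hom

end Cfsg.Agent.H109
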