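import Mathlib
import Cfsg.Agent.H109.SL3c

/-!
# `SL₃(F)`: matrices (helper109)
-/

set_option autoImplicit false
set_option linter.unusedSectionVars false

namespace Cfsg.Agent.H109

open scoped commutatorElement
open Cfsg.Agent.Lib Cfsg.Agent.AGraded
open Matrix (SpecialLinearGroup)

section gen

variable {F : Type*} [Field F] {J : Type*} [Group J] {x : F → J} {Hm : Fˣ →* J} {w c : J}

theorem rel_map {G : Type*} [Group G] {h : F → J} (r : SL2Lift.Rel x h w) (φ : J →* G) :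
    SL2Lift.Rel (fun t => φ (x t)) (fun t => φ (h t)) (φ w) where
  add s t := by rw [r.add, map_mul]
  mul a b ha hb := by rw [r.mul a b ha hb, map_mul]
  conj a t ha := by rw [← map_mul, r.conj a t ha, map_mul]
  wh a ha := by rw [← map_mul, r.wh a ha, map_mul]
  ww := by rw [← map_mul, r.ww]
  wx t ht := by rw [← map_mul, ← map_mul, r.wx t ht, map_mul, map_mul, map_mul]

theorem act_pw {g h : J} {γ k : F} {x : F → J} (hx : ∀ s t, x (s + t) = x s * x t)
    (hh : ∀ t, h * x t * h⁻¹ = x (γ * t)) (hgh : Commute g h) (hg : g * x 1 * g⁻¹ = x k)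
    (hgen : ∀ t, ∃ l, ev γ l = t) : Act g x k := by
  have key : ∀ l : List ℤ, g * pw h (x 1) l * g⁻¹ = pw h (x k) l := by
    intro l
    induction l with
    | nil => simp
    | cons a l ih =>
      rw [pw_cons, pw_cons, ← ih, ← hg]
      have e1 : g * h = h * g := hgh.eq
      calc g * (x 1 ^ a * (h * pw h (x 1) l * h⁻¹)) * g⁻¹ =
          (g * x 1 ^ a * g⁻¹) * ((g * h) * pw h (x 1) l * (g * h)⁻¹) := by group
        _ = (g * x 1 * g⁻¹) ^ a * (h * (g * pw h (x 1) l * g⁻¹) * h⁻¹) := by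
          rw [conj_zpow, e1]; group
  intro t
  obtain ⟨l, hl⟩ := hgen t
  have := key l
  rw [pw_root hx hh, pw_root hx hh, hl, mul_one, mul_comm] at this
  exact this

theorem d3_of_gen [Fintype F] {ζ : Fˣ} (hζ : ∀ y, y ∈ Subgroup.zpowers ζ) (rel : SL2Lift.Rel x (ext1 Hm) w)
    (c3 : c * c * c = 1) (wc : (w * c⁻¹) * (w * c⁻¹) = 1)
    (wg : w * (c * Hm ζ * c⁻¹) * w⁻¹ = Hm ζ * (c * Hm ζ * c⁻¹))
    (hg : Commute (Hm ζ) (c * Hm ζ * c⁻¹))
    (act : Act (c * Hm ζ * c⁻¹) x ((ζ⁻¹ : Fˣ) : F))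
    (R : (w * c⁻¹) * (c⁻¹ * x 1 * c) * (w * c⁻¹)⁻¹ = c⁻¹ * yy x w 1 * c) : D3 x Hm w c where
  rel := rel
  c3 := c3
  wc := wc
  wg := by
    intro a
    obtain ⟨i, rfl⟩ := hζ a
    simp only [map_zpow]
    rw [← conj_zpow, ← conj_zpow, wg, hg.mul_zpow]
  hg := by
    intro a b
    obtain ⟨i, rfl⟩ := hζ a
    obtain ⟨j, rfl⟩ := hζ b
    simp only [map_zpow]
    rw [← conj_zpow]
    exact hg.zpow_zpow i j
  act := by
    intro a t
    let Hg : Fˣ →* J := (MulAut.conj c).toMonoidHom.comp Hm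
    have := torus_conj hζ (Hm := Hg) (x := x) (χ := (MulEquiv.inv Fˣ).toMonoidHom) (by
      intro t
      exact act t) a t
    exact this
  R := R

end gen

section mat

variable {F : Type*} [Field F]

/-- the embedding of `SL₂` in the upper left corner, as a function -/
def embF (A : SpecialLinearGroup (Fin 2) F) : SpecialLinearGroup (Fin 3) F :=
  ⟨!![A.1 0 0, A.1 0 1, 0; A.1 1 0, A.1 1 1, 0; 0, 0, 1], by
    have := SL2Lift.det_eq A
    rw [Matrix.det_fin_three]
    simp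
    linear_combination this⟩

theorem embF_coe (A : SpecialLinearGroup (Fin 2) F) :
    (embF A).1 = !![A.1 0 0, A.1 0 1, 0; A.1 1 0, A.1 1 1, 0; 0, 0, 1] := rfl

/-- the embedding of `SL₂` in the upper left corner -/
def emb : SpecialLinearGroup (Fin 2) F →* SpecialLinearGroup (Fin 3) F where
  toFun A := embF A
  map_one' := by
    apply Subtype.ext
    rw [embF_coe]
    ext i j
    fin_cases i <;> fin_cases j <;> simp
  map_mul' A B := by
    apply Subtype.ext
    rw [Matrix.SpecialLinearGroup.coe_mul, embF_coe, embF_coe, embF_coe, Matrix.SpecialLinearGroup.coe_mul]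
    ext i j
    fin_cases i <;> fin_cases j <;> simp [Matrix.mul_apply, Fin.sum_univ_three, Fin.sum_univ_two]

theorem emb_coe (A : SpecialLinearGroup (Fin 2) F) :
    (emb A).1 = !![A.1 0 0, A.1 0 1, 0; A.1 1 0, A.1 1 1, 0; 0, 0, 1] := rfl

/-- the permutation matrix `e₁ → e₂ → e₃ → e₁` -/
def c3m : SpecialLinearGroup (Fin 3) F := ⟨!![0, 0, 1; 1, 0, 0; 0, 1, 0], by
  rw [Matrix.det_fin_three]; simp⟩

/-- its inverse -/
def c3i : SpecialLinearGroup (Fin 3) F := ⟨!![0, 1, 0; 0, 0, 1; 1, 0, 0], by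
  rw [Matrix.det_fin_three]; simp⟩

theorem c3_mul : (c3m : SpecialLinearGroup (Fin 3) F) * c3i = 1 := by
  apply Subtype.ext
  rw [Matrix.SpecialLinearGroup.coe_mul]
  ext i j
  fin_cases i <;> fin_cases j <;> simp [c3m, c3i, Matrix.mul_apply, Fin.sum_univ_three]

theorem c3_inv : (c3m : SpecialLinearGroup (Fin 3) F)⁻¹ = c3i := inv_eq_of_mul_eq_one_right c3_mul

theorem c3_cube : (c3m : SpecialLinearGroup (Fin 3) F) * c3m * c3m = 1 := by
  apply Subtype.ext
  rw [Matrix.SpecialLinearGroup.coe_mul, Matrix.SpecialLinearGroup.coe_mul]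
  ext i j
  fin_cases i <;> fin_cases j <;> simp [c3m, Matrix.mul_apply, Fin.sum_univ_three]

/-- root elements of `SL₃` -/
def x3 (t : F) : SpecialLinearGroup (Fin 3) F := emb (SL2Lift.X t)

/-- torus of `SL₃` -/
noncomputable def H3 : Fˣ →* SpecialLinearGroup (Fin 3) F := emb.comp (dH F)

/-- Weyl element of `SL₃` -/
def w3 : SpecialLinearGroup (Fin 3) F := emb SL2Lift.W

theorem rel3 : SL2Lift.Rel (x3 : F → _) (ext1 H3) w3 := by
  have := rel_map (relSL (F := F)) emb
  have e : (fun t : F => emb (ext1 (dH F) t)) = ext1 H3 := by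
    funext t
    unfold ext1
    split_ifs <;> simp [H3]
  rw [e] at this
  exact this

theorem H3_coe (a : Fˣ) : (H3 a : SpecialLinearGroup (Fin 3) F).1 = !![(a : F), 0, 0; 0, (a : F)⁻¹, 0; 0, 0, 1] := by
  change (emb (SL2Lift.H (a : F) a.ne_zero)).1 = _
  rw [emb_coe]
  simp [SL2Lift.H]

theorem w3_coe : (w3 : SpecialLinearGroup (Fin 3) F).1 = !![0, 1, 0; -1, 0, 0; 0, 0, 1] := by
  rw [w3, emb_coe]
  simp [SL2Lift.W]

theorem x3_coe (t : F) : (x3 t : SpecialLinearGroup (Fin 3) F).1 = !![1, t, 0; 0, 1, 0; 0, 0, 1] := by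
  rw [x3, emb_coe]
  simp [SL2Lift.X]

/-- the inverse of `w3` -/
def w3i : SpecialLinearGroup (Fin 3) F := ⟨!![0, -1, 0; 1, 0, 0; 0, 0, 1], by
  rw [Matrix.det_fin_three]; simp⟩

theorem w3i_coe : (w3i : SpecialLinearGroup (Fin 3) F).1 = !![0, -1, 0; 1, 0, 0; 0, 0, 1] := rfl

theorem w3_inv : (w3 : SpecialLinearGroup (Fin 3) F)⁻¹ = w3i := by
  apply inv_eq_of_mul_eq_one_right
  apply Subtype.ext
  rw [Matrix.SpecialLinearGroup.coe_mul, w3_coe, w3i_coe]
  ext i j
  fin_cases i <;> fin_cases j <;> simp [Matrix.mul_apply, Fin.sum_univ_three]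

theorem w3_inv_coe : ((w3 : SpecialLinearGroup (Fin 3) F)⁻¹).1 = !![0, -1, 0; 1, 0, 0; 0, 0, 1] := by
  rw [w3_inv, w3i_coe]

theorem yy3_coe (t : F) : (yy (x3 : F → _) w3 t : SpecialLinearGroup (Fin 3) F).1 = !![1, 0, 0; t, 1, 0; 0, 0, 1] := by
  unfold yy
  rw [Matrix.SpecialLinearGroup.coe_mul, Matrix.SpecialLinearGroup.coe_mul, w3_coe, x3_coe, w3_inv_coe]
  ext i j
  fin_cases i <;> fin_cases j <;> simp [Matrix.mul_apply, Fin.sum_univ_three]

theorem H23_coe (a : Fˣ) : (c3m * H3 a * c3m⁻¹ : SpecialLinearGroup (Fin 3) F).1 =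
    !![1, 0, 0; 0, (a : F), 0; 0, 0, (a : F)⁻¹] := by
  rw [c3_inv, Matrix.SpecialLinearGroup.coe_mul, Matrix.SpecialLinearGroup.coe_mul, H3_coe]
  ext i j
  fin_cases i <;> fin_cases j <;> simp [c3m, c3i, Matrix.mul_apply, Fin.sum_univ_three]

theorem d3_mat : D3 (x3 : F → _) H3 w3 c3m where
  rel := rel3
  c3 := c3_cube
  wc := by
    rw [c3_inv]
    apply Subtype.ext
    simp only [Matrix.SpecialLinearGroup.coe_mul]
    rw [w3_coe]
    ext i j
    fin_cases i <;> fin_cases j <;> simp [c3i, Matrix.mul_apply, Fin.sum_univ_three]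
  wg := by
    intro a
    rw [mul_inv_eq_iff_eq_mul]
    apply Subtype.ext
    rw [Matrix.SpecialLinearGroup.coe_mul w3 (c3m * H3 a * c3m⁻¹), Matrix.SpecialLinearGroup.coe_mul _ w3,
      Matrix.SpecialLinearGroup.coe_mul (H3 a) (c3m * H3 a * c3m⁻¹), H23_coe, w3_coe, H3_coe]
    ext i j
    fin_cases i <;> fin_cases j <;> simp [Matrix.mul_apply, Fin.sum_univ_three]
  hg := by
    intro a b
    apply Subtype.ext
    rw [Matrix.SpecialLinearGroup.coe_mul (H3 a) (c3m * H3 b * c3m⁻¹),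
      Matrix.SpecialLinearGroup.coe_mul (c3m * H3 b * c3m⁻¹) (H3 a), H23_coe, H3_coe]
    ext i j
    fin_cases i <;> fin_cases j <;> simp [Matrix.mul_apply, Fin.sum_univ_three, mul_comm]
  act := by
    intro a t
    rw [mul_inv_eq_iff_eq_mul]
    apply Subtype.ext
    rw [Matrix.SpecialLinearGroup.coe_mul (c3m * H3 a * c3m⁻¹) (x3 t),
      Matrix.SpecialLinearGroup.coe_mul (x3 _) (c3m * H3 a * c3m⁻¹), H23_coe, x3_coe, x3_coe]
    ext i j
    fin_cases i <;> fin_cases j <;> simp [Matrix.mul_apply, Fin.sum_univ_three, mul_comm]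
  R := by
    rw [mul_inv_eq_iff_eq_mul, c3_inv]
    apply Subtype.ext
    simp only [Matrix.SpecialLinearGroup.coe_mul]
    rw [w3_coe, x3_coe, yy3_coe]
    ext i j
    fin_cases i <;> fin_cases j <;> simp [c3m, c3i, Matrix.mul_apply, Fin.sum_univ_three]

theorem C_mat (s : F) : ⁅(x3 1 : SpecialLinearGroup (Fin 3) F), c3m * x3 s * c3m⁻¹⁆ = c3m⁻¹ * yy x3 w3 s * c3m := by
  rw [commutatorElement_def, mul_inv_eq_iff_eq_mul, mul_inv_eq_iff_eq_mul, c3_inv]
  apply Subtype.ext
  simp only [Matrix.SpecialLinearGroup.coe_mul]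
  rw [x3_coe, x3_coe, yy3_coe]
  ext i j
  fin_cases i <;> fin_cases j <;> simp [c3m, c3i, Matrix.mul_apply, Fin.sum_univ_three]

/-- the root elements are the elementary transvections -/
theorem XX_mat {i j : Fin 3} (hij : i ≠ j) (t : F) : XX (x3 : F → _) w3 c3m i j t =
    SpecialLinearGroup.transvection hij t := by
  apply Subtype.ext
  fin_cases i <;> fin_cases j <;> first
    | exact absurd rfl hij
    | (change (x3 t : SpecialLinearGroup (Fin 3) F).1 = _
       rw [x3_coe]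
       ext i j
       fin_cases i <;> fin_cases j <;> simp [Matrix.SpecialLinearGroup.transvection_coe])
    | (change (yy x3 w3 t : SpecialLinearGroup (Fin 3) F).1 = _
       rw [yy3_coe]
       ext i j
       fin_cases i <;> fin_cases j <;> simp [Matrix.SpecialLinearGroup.transvection_coe])
    | (change (c3m * x3 t * c3m⁻¹ : SpecialLinearGroup (Fin 3) F).1 = _
       rw [c3_inv, Matrix.SpecialLinearGroup.coe_mul, Matrix.SpecialLinearGroup.coe_mul, x3_coe]
       ext i j
       fin_cases i <;> fin_cases j <;> simp [Matrix.SpecialLinearGroup.transvection_coe,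
        c3m, c3i, Matrix.mul_apply, Fin.sum_univ_three])
    | (change (c3m * yy x3 w3 t * c3m⁻¹ : SpecialLinearGroup (Fin 3) F).1 = _
       rw [c3_inv, Matrix.SpecialLinearGroup.coe_mul, Matrix.SpecialLinearGroup.coe_mul, yy3_coe]
       ext i j
       fin_cases i <;> fin_cases j <;> simp [Matrix.SpecialLinearGroup.transvection_coe,
        c3m, c3i, Matrix.mul_apply, Fin.sum_univ_three])
    | (change (c3m⁻¹ * x3 t * c3m : SpecialLinearGroup (Fin 3) F).1 = _
       rw [c3_inv, Matrix.SpecialLinearGroup.coe_mul, Matrix.SpecialLinearGroup.coe_mul, x3_coe]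
       ext i j
       fin_cases i <;> fin_cases j <;> simp [Matrix.SpecialLinearGroup.transvection_coe,
        c3m, c3i, Matrix.mul_apply, Fin.sum_univ_three])
    | (change (c3m⁻¹ * yy x3 w3 t * c3m : SpecialLinearGroup (Fin 3) F).1 = _
       rw [c3_inv, Matrix.SpecialLinearGroup.coe_mul, Matrix.SpecialLinearGroup.coe_mul, yy3_coe]
       ext i j
       fin_cases i <;> fin_cases j <;> simp [Matrix.SpecialLinearGroup.transvection_coe,
        c3m, c3i, Matrix.mul_apply, Fin.sum_univ_three])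

end mat

end Cfsg.Agent.H109
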