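import Mathlib
import Cfsg.Agent.H109.SLnA
import Cfsg.Agent.H109.SL3d

/-!
# `SLₙ(F)`: the abstract data and the homomorphism (helper109)
-/

set_option autoImplicit false
set_option linter.unusedSectionVars false

namespace Cfsg.Agent.H109

section act

variable {F : Type*} [Field F] {J : Type*} [Group J]

theorem Act.one (z : F → J) : Act (1 : J) z 1 := by
  intro t; simp

theorem Act.pow {d : J} {z : F → J} {k : F} (h : Act d z k) (n : ℕ) : Act (d ^ n) z (k ^ n) := by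
  induction n with
  | zero => simpa using Act.one z
  | succ n ih => rw [pow_succ, pow_succ]; exact ih.mul h

theorem sq_span [Fintype F] {ζ : Fˣ} (hζ : ∀ y, y ∈ Subgroup.zpowers ζ) (M : AddSubgroup F)
    (h : ∀ k : ℕ, ((ζ : F) ^ 2) ^ k ∈ M) (t : F) : t ∈ M := by
  obtain ⟨p, hch⟩ := CharP.exists F
  have hpp : p.Prime := (CharP.char_is_prime_or_zero F p).resolve_right (CharP.char_ne_zero_of_finite F p)
  have : Fact p.Prime := ⟨hpp⟩
  let _ : Algebra (ZMod p) F := ZMod.algebra F p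
  obtain ⟨l, rfl⟩ := exists_list (adjoin_sq_eq_top (p := p) hζ) t
  have key : ∀ (l : List ℤ) (i : ℕ), ((ζ : F) ^ 2) ^ i * ev ((ζ : F) ^ 2) l ∈ M := by
    intro l
    induction l with
    | nil => intro i; simp [zero_mem]
    | cons a l ih =>
      intro i
      rw [ev_cons, mul_add]
      refine add_mem ?_ ?_
      · have h1 : ((ζ : F) ^ 2) ^ i * (a : F) = a • (((ζ : F) ^ 2) ^ i) := by
          rw [zsmul_eq_mul, mul_comm]
        rw [h1]
        exact zsmul_mem (h _) a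
      · have h1 := ih (i + 1)
        have h2 : ((ζ : F) ^ 2) ^ i * ((ζ : F) ^ 2 * ev ((ζ : F) ^ 2) l) =
            ((ζ : F) ^ 2) ^ (i + 1) * ev ((ζ : F) ^ 2) l := by ring
        rwa [h2]
  have := key l 0
  simpa using this

end act

end Cfsg.Agent.H109

namespace Cfsg.Agent.H109.SLn

open scoped commutatorElement
open Cfsg.Agent.Lib Cfsg.Agent.AGraded Cfsg.Agent.CTFrame.Weyl Cfsg.Agent.CTFrame.Torus
open Matrix (SpecialLinearGroup)
open Equiv Equiv.Perm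

variable {ι : Type*} [Fintype ι] [DecidableEq ι] {p : Fin 4 → ι} (hp : Function.Injective p)

/-- an even permutation with `p 0 ↦ i`, `p 1 ↦ j` -/
noncomputable def sg (i j : ι) : alternatingGroup ι := if h : i ≠ j then (even_pair hp h).choose else 1

theorem sg_zero {i j : ι} (hij : i ≠ j) : (sg hp i j : Perm ι) (p 0) = i := by
  rw [sg, dif_pos hij]
  exact (even_pair hp hij).choose_spec.1

theorem sg_one {i j : ι} (hij : i ≠ j) : (sg hp i j : Perm ι) (p 1) = j := by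
  rw [sg, dif_pos hij]
  exact (even_pair hp hij).choose_spec.2

/-- the three-cycle -/
def cyc : alternatingGroup ι := ⟨swap (p 0) (p 1) * swap (p 1) (p 2), mem_alternatingGroup.2 (by
  rw [Perm.sign_mul, sign_swap (p01 hp), sign_swap (p12 hp)]; rfl)⟩

variable {F : Type*} [Field F] {J : Type*} [Group J]

/-- conjugates indexed by pairs -/
noncomputable def cj (ρ : alternatingGroup ι →* J) (y : J) (i j : ι) : J :=
  ρ (sg hp i j) * y * (ρ (sg hp i j))⁻¹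

/-- root elements -/
noncomputable def XX (ρ : alternatingGroup ι →* J) (x : F → J) (i j : ι) (t : F) : J := cj hp ρ (x t) i j

/-- the data -/
structure Dat (ρ : alternatingGroup ι →* J) (x : F → J) (h : J) (ζ : Fˣ) : Prop where
  add : ∀ s t, x (s + t) = x s * x t
  stx : ∀ γ : alternatingGroup ι, (γ : Perm ι) (p 0) = p 0 → (γ : Perm ι) (p 1) = p 1 →
    ∀ t, Commute (ρ γ) (x t)
  sth : ∀ γ : alternatingGroup ι, (γ : Perm ι) (p 0) = p 0 → (γ : Perm ι) (p 1) = p 1 → Commute (ρ γ) h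
  act : Act h x ((ζ : F) ^ 2)
  B : ∀ k, k ≠ p 0 → k ≠ p 1 → Act (cj hp ρ h (p 1) k) x (ζ : F)⁻¹
  T1 : cj hp ρ h (p 1) (p 0) = h⁻¹
  T2 : h * cj hp ρ h (p 1) (p 2) * cj hp ρ h (p 2) (p 0) = 1
  hg : Commute h (cj hp ρ h (p 1) (p 2))
  C : ∀ k, k ≠ p 0 → k ≠ p 1 → ⁅x 1, XX hp ρ x (p 1) k 1⁆ = XX hp ρ x (p 0) k 1
  D : ∀ k l, k ≠ p 0 → k ≠ p 1 → l ≠ p 0 → l ≠ p 1 → k ≠ l → Commute (x 1) (XX hp ρ x k l 1)
  H : h = t (XX hp ρ x) (p 0) (p 1) (ζ : F)
  Id : ρ (cyc hp) = (w (XX hp ρ x) (p 0) (p 1) 1)⁻¹ * (w (XX hp ρ x) (p 1) (p 2) 1)⁻¹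

/-- conjugation of `cj` -/
theorem conj_cj {ρ : alternatingGroup ι →* J} {y : J}
    (hy : ∀ γ : alternatingGroup ι, (γ : Perm ι) (p 0) = p 0 → (γ : Perm ι) (p 1) = p 1 → Commute (ρ γ) y)
    (γ : alternatingGroup ι) {i j : ι} (hij : i ≠ j) :
    ρ γ * cj hp ρ y i j * (ρ γ)⁻¹ = cj hp ρ y ((γ : Perm ι) i) ((γ : Perm ι) j) := by
  have hij' : (γ : Perm ι) i ≠ (γ : Perm ι) j := fun e => hij ((γ : Perm ι).injective e)
  set s := sg hp i j with hs
  set s' := sg hp ((γ : Perm ι) i) ((γ : Perm ι) j) with hs'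
  have h1 := hy (s'⁻¹ * γ * s) (by
    change (s' : Perm ι)⁻¹ ((γ : Perm ι) ((s : Perm ι) (p 0))) = p 0
    rw [hs, sg_zero hp hij, Perm.inv_eq_iff_eq, hs', sg_zero hp hij']) (by
    change (s' : Perm ι)⁻¹ ((γ : Perm ι) ((s : Perm ι) (p 1))) = p 1
    rw [hs, sg_one hp hij, Perm.inv_eq_iff_eq, hs', sg_one hp hij'])
  have h2 : ρ (s'⁻¹ * γ * s) * y * (ρ (s'⁻¹ * γ * s))⁻¹ = y := by
    rw [h1.eq, mul_inv_cancel_right]
  rw [map_mul, map_mul, map_inv] at h2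
  rw [cj, cj, ← hs, ← hs']
  calc ρ γ * (ρ s * y * (ρ s)⁻¹) * (ρ γ)⁻¹ =
      ρ s' * ((ρ s')⁻¹ * ρ γ * ρ s * y * ((ρ s')⁻¹ * ρ γ * ρ s)⁻¹) * (ρ s')⁻¹ := by group
    _ = _ := by rw [h2]

theorem cj_base {ρ : alternatingGroup ι →* J} {y : J}
    (hy : ∀ γ : alternatingGroup ι, (γ : Perm ι) (p 0) = p 0 → (γ : Perm ι) (p 1) = p 1 → Commute (ρ γ) y) :
    cj hp ρ y (p 0) (p 1) = y := by
  rw [cj, (hy (sg hp (p 0) (p 1)) (sg_zero hp (p01 hp)) (sg_one hp (p01 hp))).eq, mul_inv_cancel_right]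

namespace Dat

variable {hp} {ρ : alternatingGroup ι →* J} {x : F → J} {h : J} {ζ : Fˣ} (d : Dat hp ρ x h ζ)

include d

theorem conj_X (γ : alternatingGroup ι) {i j : ι} (hij : i ≠ j) (t : F) :
    ρ γ * XX hp ρ x i j t * (ρ γ)⁻¹ = XX hp ρ x ((γ : Perm ι) i) ((γ : Perm ι) j) t :=
  conj_cj hp (fun γ h0 h1 => d.stx γ h0 h1 t) γ hij

theorem conj_h (γ : alternatingGroup ι) {i j : ι} (hij : i ≠ j) :
    ρ γ * cj hp ρ h i j * (ρ γ)⁻¹ = cj hp ρ h ((γ : Perm ι) i) ((γ : Perm ι) j) :=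
  conj_cj hp d.sth γ hij

theorem X01 (t : F) : XX hp ρ x (p 0) (p 1) t = x t := cj_base hp (fun γ h0 h1 => d.stx γ h0 h1 t)

theorem h01 : cj hp ρ h (p 0) (p 1) = h := cj_base hp d.sth

theorem T1' {i j : ι} (hij : i ≠ j) : cj hp ρ h j i = (cj hp ρ h i j)⁻¹ := by
  have h1 := d.conj_h (sg hp i j) (p01 hp).symm
  rw [sg_zero hp hij, sg_one hp hij, d.T1] at h1
  rw [← h1]
  unfold cj
  group

theorem T2' {i j k : ι} (hij : i ≠ j) (hik : i ≠ k) (hjk : j ≠ k) :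
    cj hp ρ h i j * cj hp ρ h j k * cj hp ρ h k i = 1 := by
  have key : ∀ γ : alternatingGroup ι, cj hp ρ h ((γ : Perm ι) (p 0)) ((γ : Perm ι) (p 1)) *
      cj hp ρ h ((γ : Perm ι) (p 1)) ((γ : Perm ι) (p 2)) *
      cj hp ρ h ((γ : Perm ι) (p 2)) ((γ : Perm ι) (p 0)) = 1 := by
    intro γ
    rw [← d.conj_h γ (p01 hp), ← d.conj_h γ (p12 hp), ← d.conj_h γ (p02 hp).symm, d.h01]
    calc ρ γ * h * (ρ γ)⁻¹ * (ρ γ * cj hp ρ h (p 1) (p 2) * (ρ γ)⁻¹) *
        (ρ γ * cj hp ρ h (p 2) (p 0) * (ρ γ)⁻¹) =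
        ρ γ * (h * cj hp ρ h (p 1) (p 2) * cj hp ρ h (p 2) (p 0)) * (ρ γ)⁻¹ := by group
      _ = 1 := by rw [d.T2]; group
  obtain ⟨γ, h2, ⟨h0, h1⟩ | ⟨h0, h1⟩⟩ := even_triple hp hij hik hjk
  · have := key γ
    rwa [h0, h1, h2] at this
  · have := key γ
    rw [h0, h1, h2, d.T1' hij, d.T1' hik.symm, d.T1' hjk, mul_assoc, inv_mul_eq_one] at this
    rw [this]
    group

theorem W01 {k l : ι} (hkl : k ≠ l) :
    Act (cj hp ρ h k l) x (df k l (ζ : F) (p 0) * (df k l (ζ : F) (p 1))⁻¹) := by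
  have hz := ζ.ne_zero
  have h01 := p01 hp
  have hact : Act (cj hp ρ h (p 0) (p 1)) x ((ζ : F) ^ 2) := by rw [d.h01]; exact d.act
  -- weights of `h_{k,0}` and `h_{0,k}`
  have hk0 : ∀ k, k ≠ p 0 → k ≠ p 1 → Act (cj hp ρ h k (p 0)) x (ζ : F)⁻¹ := by
    intro k h0 h1
    have h2 := d.T2' h01 h0.symm h1.symm
    have h3 := ((hact.mul (d.B k h0 h1)).inv (mul_ne_zero (pow_ne_zero 2 hz) (inv_ne_zero hz)))
    refine h3.congr (eq_comm.1 (eq_inv_of_mul_eq_one_right h2)) (fun _ => rfl) ?_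
    field_simp
  have h0k : ∀ k, k ≠ p 0 → k ≠ p 1 → Act (cj hp ρ h (p 0) k) x (ζ : F) := by
    intro k h0 h1
    rw [d.T1' h0]
    have := (hk0 k h0 h1).inv (inv_ne_zero hz)
    rwa [inv_inv] at this
  have hk1 : ∀ k, k ≠ p 0 → k ≠ p 1 → Act (cj hp ρ h k (p 1)) x (ζ : F) := by
    intro k h0 h1
    rw [d.T1' h1.symm]
    have := (d.B k h0 h1).inv (inv_ne_zero hz)
    rwa [inv_inv] at this
  by_cases e0 : k = p 0
  · subst e0
    by_cases e1 : l = p 1
    · subst e1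
      refine hact.congr rfl (fun _ => rfl) ?_
      simp [df, h01.symm]; ring
    · refine (h0k l hkl.symm e1).congr rfl (fun _ => rfl) ?_
      simp [df, h01.symm, Ne.symm e1]
  by_cases e1 : k = p 1
  · subst e1
    by_cases e2 : l = p 0
    · subst e2
      rw [d.T1' h01, d.h01]
      refine (d.act.inv (pow_ne_zero 2 hz)).congr rfl (fun _ => rfl) ?_
      simp [df, h01]; ring
    · refine (d.B l e2 hkl.symm).congr rfl (fun _ => rfl) ?_
      simp [df, h01, Ne.symm e2]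
  by_cases e2 : l = p 0
  · subst e2
    refine (hk0 k e0 e1).congr rfl (fun _ => rfl) ?_
    simp [df, h01.symm, Ne.symm e0, Ne.symm e1]
  by_cases e3 : l = p 1
  · subst e3
    refine (hk1 k e0 e1).congr rfl (fun _ => rfl) ?_
    simp [df, h01, Ne.symm e0, Ne.symm e1]
  · have h2 := d.T2' (i := p 0) (j := l) (k := k) (Ne.symm e2) (Ne.symm e0) hkl.symm
    -- h_{0l} h_{lk} h_{k0} = 1
    have h3 : cj hp ρ h k l = cj hp ρ h k (p 0) * cj hp ρ h (p 0) l := by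
      rw [d.T1' (Ne.symm hkl)]
      have h4 : cj hp ρ h l k = (cj hp ρ h (p 0) l)⁻¹ * (cj hp ρ h k (p 0))⁻¹ := by
        rw [mul_assoc] at h2
        have h5 := eq_inv_of_mul_eq_one_right h2
        rw [← h5]; group
      rw [h4]; group
    rw [h3]
    refine ((hk0 k e0 e1).mul (h0k l e2 e3)).congr rfl (fun _ => rfl) ?_
    simp [df, Ne.symm e0, Ne.symm e1, Ne.symm e2, Ne.symm e3]

/-- the weights -/
theorem W {k l : ι} (hkl : k ≠ l) {i j : ι} (hij : i ≠ j) :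
    Act (cj hp ρ h k l) (XX hp ρ x i j) (df k l (ζ : F) i * (df k l (ζ : F) j)⁻¹) := by
  set γ := sg hp i j with hγ
  have g0 : (γ : Perm ι) (p 0) = i := sg_zero hp hij
  have g1 : (γ : Perm ι) (p 1) = j := sg_one hp hij
  set k' := (γ : Perm ι)⁻¹ k with hk'
  set l' := (γ : Perm ι)⁻¹ l with hl'
  have ek : (γ : Perm ι) k' = k := by rw [hk']; simp
  have el : (γ : Perm ι) l' = l := by rw [hl']; simp
  have hkl' : k' ≠ l' := fun e => hkl (by rw [← ek, ← el, e])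
  have h1 := (d.W01 hkl').conj (ρ γ)
  refine h1.congr ?_ (fun t => rfl) ?_
  · rw [d.conj_h γ hkl', ek, el]
  · have e : ∀ q, df k' l' (ζ : F) q = df k l (ζ : F) ((γ : Perm ι) q) := by
      intro q
      unfold df
      have a1 : q = k' ↔ (γ : Perm ι) q = k := by
        rw [← ek]; exact (γ : Perm ι).injective.eq_iff.symm
      have a2 : q = l' ↔ (γ : Perm ι) q = l := by
        rw [← el]; exact (γ : Perm ι).injective.eq_iff.symm
      simp only [a1, a2]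
    rw [e, e, g0, g1]

theorem addX {i j : ι} (hij : i ≠ j) (a b : F) :
    XX hp ρ x i j (a + b) = XX hp ρ x i j a * XX hp ρ x i j b := by
  unfold XX cj
  rw [d.add]
  group

theorem C' {i j k : ι} (hij : i ≠ j) (hik : i ≠ k) (hjk : j ≠ k) :
    ⁅XX hp ρ x i j 1, XX hp ρ x j k 1⁆ = XX hp ρ x i k (1 : F) := by
  set γ := sg hp i j with hγ
  have g0 : (γ : Perm ι) (p 0) = i := sg_zero hp hij
  have g1 : (γ : Perm ι) (p 1) = j := sg_one hp hij
  set k' := (γ : Perm ι)⁻¹ k with hk'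
  have ek : (γ : Perm ι) k' = k := by rw [hk']; simp
  have h0 : k' ≠ p 0 := fun e => hik (by rw [← ek, e, g0])
  have h1 : k' ≠ p 1 := fun e => hjk (by rw [← ek, e, g1])
  have h2 := d.C k' h0 h1
  have h3 := d.conj_X γ (p01 hp) 1
  have h4 := d.conj_X γ h1.symm 1
  have h5 := d.conj_X γ h0.symm 1
  rw [g0, g1] at h3
  rw [g1, ek] at h4
  rw [g0, ek] at h5
  rw [← h3, ← h4, ← h5, conj_br, d.X01, h2]

theorem D' {i j k l : ι} (hij : i ≠ j) (hik : i ≠ k) (hil : i ≠ l) (hjk : j ≠ k) (hjl : j ≠ l) (hkl : k ≠ l) :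
    Commute (XX hp ρ x i j (1 : F)) (XX hp ρ x k l 1) := by
  set γ := sg hp i j with hγ
  have g0 : (γ : Perm ι) (p 0) = i := sg_zero hp hij
  have g1 : (γ : Perm ι) (p 1) = j := sg_one hp hij
  set k' := (γ : Perm ι)⁻¹ k with hk'
  have ek : (γ : Perm ι) k' = k := by rw [hk']; simp
  set l' := (γ : Perm ι)⁻¹ l with hl'
  have el : (γ : Perm ι) l' = l := by rw [hl']; simp
  have h0 : k' ≠ p 0 := fun e => hik (by rw [← ek, e, g0])
  have h1 : k' ≠ p 1 := fun e => hjk (by rw [← ek, e, g1])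
  have h2 : l' ≠ p 0 := fun e => hil (by rw [← el, e, g0])
  have h3 : l' ≠ p 1 := fun e => hjl (by rw [← el, e, g1])
  have h4 : k' ≠ l' := fun e => hkl (by rw [← ek, ← el, e])
  have h5 := conj_comm (d.D k' l' h0 h1 h2 h3 h4) (ρ γ)
  have h6 := d.conj_X γ (p01 hp) 1
  have h7 := d.conj_X γ h4 1
  rw [g0, g1, d.X01] at h6
  rw [ek, el] at h7
  rwa [h6, h7] at h5

section gen

variable (hι : 4 ≤ Fintype.card ι) (hζ : ∀ y, y ∈ Subgroup.zpowers ζ)

omit d in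
theorem exists_pow [Finite F] (hζ : ∀ y, y ∈ Subgroup.zpowers ζ) (r : Fˣ) : ∃ n : ℕ, (ζ : F) ^ n = r := by
  obtain ⟨n, hn⟩ := (mem_powers_iff_mem_zpowers).2 (hζ r)
  refine ⟨n, ?_⟩
  rw [← hn]
  simp

include hι hζ

variable [Fintype F]

theorem trip {i j k : ι} (hij : i ≠ j) (hik : i ≠ k) (hjk : j ≠ k) :
    (∀ r s, ⁅XX hp ρ x i j r, XX hp ρ x j k s⁆ = XX hp ρ x i k (r * s)) ∧
    (∀ s c, Commute (XX hp ρ x j k s) (XX hp ρ x i k c)) ∧
    (∀ r c, Commute (XX hp ρ x i j r) (XX hp ρ x i k c)) := by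
  obtain ⟨l, hl⟩ := exists_not_mem {i, j, k} (lt_of_le_of_lt Finset.card_le_three hι)
  simp only [Finset.mem_insert, Finset.mem_singleton, not_or] at hl
  obtain ⟨hli, hlj, hlk⟩ := hl
  have hu : ∀ (M : AddSubgroup F), (∀ r : Fˣ, (r : F) ∈ M) → ∀ t, t ∈ M := by
    intro M hM t
    by_cases ht : t = 0
    · rw [ht]; exact zero_mem M
    · exact hM (Units.mk0 t ht)
  refine triple (d.addX hij) (d.addX hjk) (d.addX hik) (Set.univ : Set Fˣ) ?_ ?_ ?_
  · intro M hM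
    refine hu M fun r => ?_
    have := hM 1 r (Set.mem_univ _)
    simpa using this
  · intro M hM
    refine hu M fun r => ?_
    have := hM 1 r⁻¹ (Set.mem_univ _)
    simpa using this
  · intro r k' s _
    obtain ⟨a, ha⟩ := exists_pow hζ r
    obtain ⟨b, hb⟩ := exists_pow hζ (r * k' ^ 3 * s)
    have e : (r : F) * (k' : F) ^ 3 * (s : F) = (ζ : F) ^ b := by rw [hb]; simp
    rw [e, ← ha]
    have a1 := (((d.W (Ne.symm hli) hij).pow a).mul ((d.W hlk hij).pow b)) 1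
    have a2 := (((d.W (Ne.symm hli) hjk).pow a).mul ((d.W hlk hjk).pow b)) 1
    have a3 := (((d.W (Ne.symm hli) hik).pow a).mul ((d.W hlk hik).pow b)) 1
    have q1 : ((df i l (ζ : F) i * (df i l (ζ : F) j)⁻¹) ^ a * (df l k (ζ : F) i * (df l k (ζ : F) j)⁻¹) ^ b) * 1 =
        (ζ : F) ^ a := by
      simp [df, hij.symm, hlj, Ne.symm hlj, Ne.symm hli, hik, hjk]
    have q2 : ((df i l (ζ : F) j * (df i l (ζ : F) k)⁻¹) ^ a * (df l k (ζ : F) j * (df l k (ζ : F) k)⁻¹) ^ b) * 1 =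
        (ζ : F) ^ b := by
      simp [df, hij.symm, hlj, Ne.symm hlj, Ne.symm hli, hik.symm, hjk, Ne.symm hlk]
    have q3 : ((df i l (ζ : F) i * (df i l (ζ : F) k)⁻¹) ^ a * (df l k (ζ : F) i * (df l k (ζ : F) k)⁻¹) ^ b) * 1 =
        (ζ : F) ^ a * (ζ : F) ^ b := by
      simp [df, hij.symm, hlj, Ne.symm hlj, Ne.symm hli, hik.symm, hik, hjk, Ne.symm hlk]
    rw [q1] at a1
    rw [q2] at a2
    rw [q3] at a3
    rw [← a1, ← a2, ← a3, conj_br, d.C' hij hik hjk]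

theorem disj {i j k l : ι} (hij : i ≠ j) (hik : i ≠ k) (hil : i ≠ l) (hjk : j ≠ k) (hjl : j ≠ l) (hkl : k ≠ l)
    (a b : F) : Commute (XX hp ρ x i j a) (XX hp ρ x k l b) := by
  have h0 : ∀ i j : ι, i ≠ j → XX hp ρ x i j (0 : F) = 1 := fun i j hij => fam_zero (d.addX hij)
  by_cases ha : a = 0
  · rw [ha, h0 i j hij]; exact Commute.one_left _
  let M : AddSubgroup F :=
    { carrier := {c | Commute (XX hp ρ x i j a) (XX hp ρ x k l (a * c))}
      add_mem' := by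
        intro c c' hc hc'
        simp only [Set.mem_ofPred_eq] at *
        rw [mul_add, d.addX hkl]
        exact hc.mul_right hc'
      zero_mem' := by
        simp only [Set.mem_ofPred_eq, mul_zero, h0 k l hkl]
        exact Commute.one_right _
      neg_mem' := by
        intro c hc
        simp only [Set.mem_ofPred_eq] at *
        rw [mul_neg, fam_neg (d.addX hkl)]
        exact hc.inv_right }
  have hM : ∀ t, t ∈ M := by
    refine sq_span hζ M fun n => ?_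
    change Commute (XX hp ρ x i j a) (XX hp ρ x k l (a * _))
    obtain ⟨m, hm⟩ := exists_pow hζ (Units.mk0 a ha)
    rw [Units.val_mk0] at hm
    have a1 := (((d.W hil hij).pow m).mul ((d.W hkl hij).pow n)) 1
    have a2 := (((d.W hil hkl).pow m).mul ((d.W hkl hkl).pow n)) 1
    have q1 : ((df i l (ζ : F) i * (df i l (ζ : F) j)⁻¹) ^ m * (df k l (ζ : F) i * (df k l (ζ : F) j)⁻¹) ^ n) * 1 =
        a := by
      rw [← hm]
      simp [df, hij.symm, hjl, hik, hil, hjk]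
    have q2 : ((df i l (ζ : F) k * (df i l (ζ : F) l)⁻¹) ^ m * (df k l (ζ : F) k * (df k l (ζ : F) l)⁻¹) ^ n) * 1 =
        a * ((ζ : F) ^ 2) ^ n := by
      rw [← hm]
      simp [df, hik.symm, hil.symm, hkl, hkl.symm, sq]
    rw [q1] at a1
    rw [q2] at a2
    rw [← a1, ← a2]
    exact conj_comm (d.D' hij hik hil hjk hjl hkl) _
  have := hM (a⁻¹ * b)
  change Commute (XX hp ρ x i j a) (XX hp ρ x k l (a * _)) at this
  rwa [mul_inv_cancel_left₀ ha] at this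

theorem stein : SteinRel (XX hp ρ x) where
  add i j hij a b := d.addX hij a b
  br i j k hij hjk hik a b := (d.trip hι hζ hij hik hjk).1 a b
  comm i j k l hij hkl hjk hil a b := by
    by_cases hik : i = k
    · subst hik
      by_cases hjl : j = l
      · subst hjl
        rw [← d.addX hij, ← d.addX hij, add_comm]
      · exact ((d.trip hι hζ hij hil hjl).2.2 a b).eq
    · by_cases hjl : j = l
      · subst hjl
        exact ((d.trip hι hζ (Ne.symm hik) hkl hij).2.1 a b).eq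
      · exact (d.disj hι hζ hij hik hil hjk hjl hkl a b).eq

omit hι hζ [Fintype F] in
theorem conj_w (γ : alternatingGroup ι) {i j : ι} (hij : i ≠ j) (u : F) :
    ρ γ * w (XX hp ρ x) i j u * (ρ γ)⁻¹ = w (XX hp ρ x) ((γ : Perm ι) i) ((γ : Perm ι) j) u := by
  unfold w
  rw [← d.conj_X γ hij, ← d.conj_X γ hij.symm]
  group

omit hι hζ [Fintype F] in
theorem conj_t (γ : alternatingGroup ι) {i j : ι} (hij : i ≠ j) (u : F) :
    ρ γ * t (XX hp ρ x) i j u * (ρ γ)⁻¹ = t (XX hp ρ x) ((γ : Perm ι) i) ((γ : Perm ι) j) u := by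
  unfold t
  rw [← d.conj_w γ hij, ← d.conj_w γ hij]
  group

theorem t_pow (n : ℕ) : t (XX hp ρ x) (p 0) (p 1) ((ζ : F) ^ n) = h ^ n := by
  have hs := d.stein hι hζ
  have hz := ζ.ne_zero
  have hι3 : 3 ≤ Fintype.card ι := by omega
  induction n with
  | zero => rw [pow_zero, pow_zero]; exact t_one hs (p01 hp)
  | succ n ih =>
    set g := (cj hp ρ h (p 1) (p 2))⁻¹ with hg
    have hw : Act g (XX hp ρ x (p 0) (p 1)) (ζ : F) := by
      have := (d.W (p12 hp) (p01 hp)).inv (mul_ne_zero (df_ne hz _) (inv_ne_zero (df_ne hz _)))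
      refine this.congr rfl (fun _ => rfl) ?_
      simp [df, p01 hp, p02 hp]
    have hw' : Act g (XX hp ρ x (p 1) (p 0)) (ζ : F)⁻¹ := by
      have := (d.W (p12 hp) (p01 hp).symm).inv (mul_ne_zero (df_ne hz _) (inv_ne_zero (df_ne hz _)))
      refine this.congr rfl (fun _ => rfl) ?_
      simp [df, p01 hp, p02 hp]
    have h1 : ∀ a, g * w (XX hp ρ x) (p 0) (p 1) a * g⁻¹ = w (XX hp ρ x) (p 0) (p 1) ((ζ : F) * a) := by
      intro a
      unfold w
      have e1 := hw a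
      have e2 := hw' (-a⁻¹)
      have e3 : -((ζ : F) * a)⁻¹ = (ζ : F)⁻¹ * -a⁻¹ := by rw [mul_inv]; ring
      rw [e3, ← e1, ← e2]
      group
    have h2 := conj_t_of hs (p01 hp) h1 ((ζ : F) ^ n)
    rw [ih, ← d.H] at h2
    have hc : Commute g h := d.hg.symm.inv_left
    have h3 : g * h ^ n * g⁻¹ = h ^ n := by rw [(hc.pow_right n).eq, mul_inv_cancel_right]
    rw [h3, eq_mul_inv_iff_mul_eq] at h2
    rw [pow_succ', pow_succ, ← h2]

theorem hrel : HRel (XX hp ρ x) := by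
  have key : ∀ a b : F, a ≠ 0 → b ≠ 0 → t (XX hp ρ x) (p 0) (p 1) a * t (XX hp ρ x) (p 0) (p 1) b =
      t (XX hp ρ x) (p 0) (p 1) (a * b) := by
    intro a b ha hb
    obtain ⟨m, hm⟩ := exists_pow hζ (Units.mk0 a ha)
    obtain ⟨n, hn⟩ := exists_pow hζ (Units.mk0 b hb)
    rw [Units.val_mk0] at hm hn
    rw [← hm, ← hn, ← pow_add, d.t_pow hι hζ, d.t_pow hι hζ, d.t_pow hι hζ, pow_add]
  intro i j hij a b ha hb
  have h1 := fun u => d.conj_t (sg hp i j) (p01 hp) u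
  rw [sg_zero hp hij, sg_one hp hij] at h1
  rw [← h1, ← h1, ← h1, ← key a b ha hb]
  group

omit hι hζ [Fintype F] in
theorem conj_cyc (γ : alternatingGroup ι) : ρ (γ * cyc hp * γ⁻¹) =
    (w (XX hp ρ x) ((γ : Perm ι) (p 0)) ((γ : Perm ι) (p 1)) 1)⁻¹ *
    (w (XX hp ρ x) ((γ : Perm ι) (p 1)) ((γ : Perm ι) (p 2)) 1)⁻¹ := by
  rw [map_mul, map_mul, map_inv, d.Id, ← d.conj_w γ (p01 hp), ← d.conj_w γ (p12 hp)]
  group

end gen

end Dat

end Cfsg.Agent.H109.SLn
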