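import Mathlib
import Cfsg.Agent.H109.SLnD
import Cfsg.Agent.H110.AltPres

/-!
# Presentations of `SLₙ(F)`, `n ≥ 4` (helper109)
-/

set_option autoImplicit false
set_option linter.unusedSectionVars false
set_option linter.unusedSimpArgs false

universe v

namespace Cfsg.Agent.H109.SLn

open Equiv Equiv.Perm
open Cfsg.Agent.H111 (HasPres)

/-- generators from a presentation -/
theorem exists_gens {G : Type*} [Group G] {k m : ℕ} (h : HasPres G k m) :
    ∃ L : List G, L.length = k ∧ Subgroup.closure {s | s ∈ L} = ⊤ := by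
  obtain ⟨R, -, ⟨e⟩⟩ := h
  refine ⟨(List.finRange k).map fun i => e (PresentedGroup.of i), by simp, ?_⟩
  have h1 : {s | s ∈ (List.finRange k).map fun i => e (PresentedGroup.of i)} =
      e.toMonoidHom '' Set.range (PresentedGroup.of (rels := (↑R : Set (FreeGroup (Fin k))))) := by
    ext s
    simp
  rw [h1, ← MonoidHom.map_closure, PresentedGroup.closure_range_of, ← MonoidHom.range_eq_map,
    MonoidHom.range_eq_top]
  exact e.surjective

section stab

variable {ι : Type} [Fintype ι] [DecidableEq ι] (p : Fin 4 → ι)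

/-- the complement of two points -/
abbrev Q : Type := {i : ι // i ≠ p 0 ∧ i ≠ p 1}

/-- even permutations of the complement of two points -/
def altOf : alternatingGroup (Q p) →* alternatingGroup ι where
  toFun γ := ⟨ofSubtype (γ : Perm (Q p)), mem_alternatingGroup.2 (by
    rw [sign_ofSubtype]; exact mem_alternatingGroup.1 γ.2)⟩
  map_one' := Subtype.ext (map_one _)
  map_mul' a b := Subtype.ext (map_mul _ _ _)

theorem altOf_surj (γ : alternatingGroup ι) (h0 : (γ : Perm ι) (p 0) = p 0) (h1 : (γ : Perm ι) (p 1) = p 1) :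
    ∃ γ', altOf p γ' = γ := by
  have hq : ∀ x, (fun i => i ≠ p 0 ∧ i ≠ p 1) ((γ : Perm ι) x) ↔ (fun i => i ≠ p 0 ∧ i ≠ p 1) x := by
    intro x
    simp only
    have a0 : (γ : Perm ι) x = p 0 ↔ x = p 0 := by
      conv_lhs => rw [← h0]
      exact (γ : Perm ι).injective.eq_iff
    have a1 : (γ : Perm ι) x = p 1 ↔ x = p 1 := by
      conv_lhs => rw [← h1]
      exact (γ : Perm ι).injective.eq_iff
    rw [Ne, Ne, a0, a1]
  have hs : ofSubtype (subtypePerm (p := fun i => i ≠ p 0 ∧ i ≠ p 1) (γ : Perm ι) hq) = (γ : Perm ι) := by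
    apply ofSubtype_subtypePerm
    intro x hx
    exact ⟨fun e => hx (by rw [e, h0]), fun e => hx (by rw [e, h1])⟩
  refine ⟨⟨subtypePerm (p := fun i => i ≠ p 0 ∧ i ≠ p 1) (γ : Perm ι) hq, mem_alternatingGroup.2 ?_⟩, Subtype.ext hs⟩
  rw [← sign_ofSubtype, hs]
  exact mem_alternatingGroup.1 γ.2

theorem altOf_fix (γ : alternatingGroup (Q p)) :
    (altOf p γ : Perm ι) (p 0) = p 0 ∧ (altOf p γ : Perm ι) (p 1) = p 1 := by
  refine ⟨?_, ?_⟩
  · exact ofSubtype_apply_of_not_mem _ (by simp)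
  · exact ofSubtype_apply_of_not_mem _ (by simp)

theorem exists_L {L' : List (alternatingGroup (Q p))} (h : Subgroup.closure {s | s ∈ L'} = ⊤) :
    ∃ L : List (alternatingGroup ι), L.length = L'.length ∧
      (∀ γ ∈ L, (γ : Perm ι) (p 0) = p 0 ∧ (γ : Perm ι) (p 1) = p 1) ∧
      (∀ γ : alternatingGroup ι, (γ : Perm ι) (p 0) = p 0 → (γ : Perm ι) (p 1) = p 1 →
        γ ∈ Subgroup.closure {s | s ∈ L}) := by
  refine ⟨L'.map (altOf p), by simp, ?_, ?_⟩
  · intro γ hγ
    obtain ⟨γ', -, rfl⟩ := List.mem_map.1 hγ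
    exact altOf_fix p γ'
  · intro γ h0 h1
    obtain ⟨γ', rfl⟩ := altOf_surj p γ h0 h1
    have h2 : {s | s ∈ L'.map (altOf p)} = altOf p '' {s | s ∈ L'} := by
      ext s; simp
    rw [h2, ← MonoidHom.map_closure, h]
    exact ⟨γ', trivial, rfl⟩

theorem card_Q (hp : Function.Injective p) : Fintype.card (Q p) = Fintype.card ι - 2 := by
  have h1 : Fintype.card (Q p) = Fintype.card {i : ι // ¬ (i = p 0 ∨ i = p 1)} := by
    apply Fintype.card_congr
    apply Equiv.subtypeEquivRight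
    intro x
    rw [not_or]
  rw [h1, Fintype.card_subtype_compl]
  congr 1
  rw [Fintype.card_subtype]
  have h2 : (Finset.univ.filter fun i : ι => i = p 0 ∨ i = p 1) = {p 0, p 1} := by
    ext x; simp
  rw [h2, Finset.card_pair (p01 hp)]

end stab

section lists

variable {ι : Type} [Fintype ι] [DecidableEq ι] {p : Fin 4 → ι} (hp : Function.Injective p)

include hp

theorem lists_six (h6 : 6 ≤ Fintype.card ι) : ∃ L : List (alternatingGroup ι), L.length = 2 ∧
    Lists (p := p) L [] [p 2] [(p 2, p 3)] := by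
  have e : Fin (Fintype.card ι - 2) ≃ Q p := (Fintype.equivFinOfCardEq (card_Q p hp)).symm
  have h2 := (Cfsg.Agent.H110.AltPres.hasPres_alt_two (Fintype.card ι - 2)).of_mulEquiv e.altCongrHom
  obtain ⟨L', hl, hL'⟩ := exists_gens h2
  obtain ⟨L, hL1, hL2, hL3⟩ := exists_L p hL'
  refine ⟨L, by rw [hL1, hl], hL2, hL3, by simp, ?_, ?_, ?_, ?_, ?_⟩
  · simp [(p02 hp).symm, (p12 hp).symm]
  · simp [(p02 hp).symm, (p12 hp).symm, (p03 hp).symm, (p13 hp).symm, p23 hp]
  · intro k h0 h1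
    obtain ⟨γ, g0, g1, g2⟩ := stab_one hp (by omega) h0 h1
    exact ⟨γ, g0, g1, p 2, by simp, g2⟩
  · intro k h0 h1
    obtain ⟨γ, g0, g1, g2⟩ := stab_one hp (by omega) h0 h1
    exact ⟨γ, g0, g1, p 2, by simp, g2⟩
  · intro k l hk0 hk1 hl0 hl1 hkl
    obtain ⟨γ, g0, g1, g2, g3⟩ := stab_two hp h6 hk0 hk1 hl0 hl1 hkl
    exact ⟨γ, g0, g1, (p 2, p 3), by simp, g2, g3⟩

theorem lists_five (h5 : Fintype.card ι = 5) : ∃ L : List (alternatingGroup ι), L.length = 1 ∧
    Lists (p := p) L [] [p 2] [(p 2, p 3), (p 3, p 2)] := by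
  have hc : Nat.card (alternatingGroup (Q p)) = 3 := by
    have hn : Nontrivial (Q p) := by
      rw [← Fintype.one_lt_card_iff_nontrivial, card_Q p hp, h5]
      norm_num
    have h1 := two_mul_card_alternatingGroup (α := Q p)
    rw [Fintype.card_perm, card_Q p hp, h5] at h1
    rw [Nat.card_eq_fintype_card]
    have : Nat.factorial (5 - 2) = 6 := rfl
    omega
  have : Fact (Nat.Prime 3) := ⟨Nat.prime_three⟩
  have hcy : IsCyclic (alternatingGroup (Q p)) := isCyclic_of_prime_card hc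
  obtain ⟨g, hg⟩ := hcy.exists_generator
  have hL' : Subgroup.closure {s | s ∈ [g]} = ⊤ := by
    rw [eq_top_iff]
    intro y _
    have h1 := hg y
    rw [Subgroup.zpowers_eq_closure] at h1
    convert h1 using 2
    ext; simp
  obtain ⟨L, hL1, hL2, hL3⟩ := exists_L p hL'
  refine ⟨L, by rw [hL1]; rfl, hL2, hL3, by simp, ?_, ?_, ?_, ?_, ?_⟩
  · simp [(p02 hp).symm, (p12 hp).symm]
  · simp [(p02 hp).symm, (p12 hp).symm, (p03 hp).symm, (p13 hp).symm, p23 hp, (p23 hp).symm]
  · intro k h0 h1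
    obtain ⟨γ, g0, g1, g2⟩ := stab_one hp (by omega) h0 h1
    exact ⟨γ, g0, g1, p 2, by simp, g2⟩
  · intro k h0 h1
    obtain ⟨γ, g0, g1, g2⟩ := stab_one hp (by omega) h0 h1
    exact ⟨γ, g0, g1, p 2, by simp, g2⟩
  · intro k l hk0 hk1 hl0 hl1 hkl
    obtain ⟨γ, g0, g1, ⟨g2, g3⟩ | ⟨g2, g3⟩⟩ := stab_quad hp hk0 hk1 hl0 hl1 hkl
    · exact ⟨γ, g0, g1, (p 2, p 3), by simp, g2, g3⟩
    · exact ⟨γ, g0, g1, (p 3, p 2), by simp, g3, g2⟩

theorem lists_four (h4 : Fintype.card ι = 4) :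
    Lists (p := p) [] [p 3] [p 2, p 3] [(p 2, p 3), (p 3, p 2)] := by
  have hc : Subsingleton (alternatingGroup (Q p)) := by
    have hn : Nontrivial (Q p) := by
      rw [← Fintype.one_lt_card_iff_nontrivial, card_Q p hp, h4]
      norm_num
    have h1 := two_mul_card_alternatingGroup (α := Q p)
    rw [Fintype.card_perm, card_Q p hp, h4] at h1
    have : Nat.factorial (4 - 2) = 2 := rfl
    rw [← Fintype.card_le_one_iff_subsingleton]
    omega
  have hs : ∀ k, k ≠ p 0 → k ≠ p 1 → k = p 2 ∨ k = p 3 := by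
    intro k h0 h1
    have hb : Function.Bijective p := by
      rw [Fintype.bijective_iff_injective_and_card]
      exact ⟨hp, by rw [h4]; simp⟩
    obtain ⟨i, rfl⟩ := hb.2 k
    fin_cases i
    · exact absurd rfl h0
    · exact absurd rfl h1
    · exact Or.inl rfl
    · exact Or.inr rfl
  refine ⟨by simp, ?_, ?_, ?_, ?_, ?_, ?_, ?_⟩
  · intro γ h0 h1
    obtain ⟨γ', rfl⟩ := altOf_surj p γ h0 h1
    rw [Subsingleton.elim γ' 1, map_one]
    exact one_mem _
  · simp [(p03 hp).symm, (p13 hp).symm]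
  · simp [(p02 hp).symm, (p12 hp).symm, (p03 hp).symm, (p13 hp).symm]
  · simp [(p02 hp).symm, (p12 hp).symm, (p03 hp).symm, (p13 hp).symm, p23 hp, (p23 hp).symm]
  · intro k h0 h1
    rcases hs k h0 h1 with rfl | rfl
    · exact ⟨1, rfl, rfl, p 2, by simp, rfl⟩
    · exact ⟨1, rfl, rfl, p 3, by simp, rfl⟩
  · intro k h0 h1
    rcases hs k h0 h1 with rfl | rfl
    · exact ⟨1, rfl, rfl, p 2, by simp, rfl⟩
    · exact ⟨1, rfl, rfl, p 3, by simp, rfl⟩
  · intro k l hk0 hk1 hl0 hl1 hkl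
    obtain ⟨γ, g0, g1, ⟨g2, g3⟩ | ⟨g2, g3⟩⟩ := stab_quad hp hk0 hk1 hl0 hl1 hkl
    · exact ⟨γ, g0, g1, (p 2, p 3), by simp, g2, g3⟩
    · exact ⟨γ, g0, g1, (p 3, p 2), by simp, g3, g2⟩

end lists

section final

variable {F : Type v} [Field F] [Fintype F]

theorem hasPres_of {n k m a : ℕ} (hA : HasPres (alternatingGroup (Fin n)) k m)
    (hq : H111.Quo (Monoid.Coprod (alternatingGroup (Fin n)) (FreeGroup (Fin 2)))
      (Matrix.SpecialLinearGroup (Fin n) F) a) :
    HasPres (Matrix.SpecialLinearGroup (Fin n) F) (k + 2) (m + a) :=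
  (hA.coprod (HasPres.free 2)).quo hq

/-- `SLₙ(F)`, `n ≥ 6` : five generators, twenty-three relators -/
theorem sln_six {n : ℕ} (hn : 6 ≤ n) : HasPres (Matrix.SpecialLinearGroup (Fin n) F) 5 23 := by
  have hp : Function.Injective (Fin.castLE (show 4 ≤ n by omega)) := Fin.castLE_injective _
  obtain ⟨L, hl, hL⟩ := lists_six hp (by simpa using hn)
  have hq := quo hp (F := F) (by simpa using (show 4 ≤ n by omega)) hL
  have := hasPres_of (Cfsg.Agent.H110.AltPres.hasPres_alt n) hq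
  refine this.mono ?_
  simp [hl]

/-- `SL₅(F)` : four generators, nineteen relators -/
theorem sln_five : HasPres (Matrix.SpecialLinearGroup (Fin 5) F) 4 19 := by
  have hp : Function.Injective (Fin.castLE (show 4 ≤ 5 by omega)) := Fin.castLE_injective _
  obtain ⟨L, hl, hL⟩ := lists_five hp (by simp)
  have hq := quo hp (F := F) (by simp) hL
  have := hasPres_of (H173.Pres.presOn_a5.hasPres) hq
  refine this.mono ?_
  simp [hl]

/-- `SL₄(F)` : four generators, nineteen relators -/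
theorem sln_four : HasPres (Matrix.SpecialLinearGroup (Fin 4) F) 4 19 := by
  have hp : Function.Injective (id : Fin 4 → Fin 4) := Function.injective_id
  have hL := lists_four hp (by simp)
  have hq := quo hp (F := F) (by simp) hL
  have := hasPres_of (H173.Pres.presOn_a4.hasPres) hq
  refine this.mono ?_
  simp

end final

end Cfsg.Agent.H109.SLn
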