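import Cfsg.Agent.H269.CubeJ2
import Cfsg.Agent.H609.TH.Link

/-!
# S3938, sporadic rows: `J₂` (helper109, task 5116)

Explicit generation in the model on 100 points. For every `h ≠ 1` of prime order in `HH = J₂.2` there is `x ∈ J₂` with
`⟨x, h x h⁻¹⟩ = J₂`: the involutions of `HH` are conjugate to `a`, `d` or `t`; the elements of order 3, 5, 7 are conjugate
into an explicit Sylow subgroup (27, 25, 7 words), each of whose subgroups of prime order is treated by an explicit `x` and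
words in `x`, `h x h⁻¹` which are the five generators.
-/

set_option autoImplicit false

namespace Cfsg.Agent.H109.SprJ2

open Equiv Cfsg.Agent.SporadicA.PermTab Cfsg.Agent.SporadicA.J2Data Cfsg.Agent.SporadicA.J2Hundred
open Cfsg.Agent.H269.CubeJ2Data Cfsg.Agent.H269.CubeTools Cfsg.Agent.H269.CubeJ2

/-! ### words in the generators -/

/-- product of generators -/
def wp : List ℕ → Perm (Fin 100)
  | [] => 1
  | k :: w => gp k * wp w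

/-- its action on numbers -/
def wn : List ℕ → ℕ → ℕ
  | [], j => j
  | k :: w, j => lk (gt k) (wn w j)

theorem wp_val (w : List ℕ) (i : Fin 100) : (wp w i : ℕ) = wn w i := by
  induction w with
  | nil => rfl
  | cons k w ih =>
    show (gp k (wp w i) : ℕ) = _
    rw [gp_val, ih]
    rfl

theorem wp_append (v w : List ℕ) : wp (v ++ w) = wp v * wp w := by
  induction v with
  | nil => rw [List.nil_append, wp, one_mul]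
  | cons k v ih => rw [List.cons_append, wp, wp, ih, mul_assoc]

theorem wp_inv (w : List ℕ) : (wp w)⁻¹ = wp w.reverse := by
  induction w with
  | nil => rw [wp, inv_one]; rfl
  | cons k w ih =>
    rw [List.reverse_cons, wp_append, wp, mul_inv_rev, ih, gp_inv, wp, wp, mul_one]

theorem wp_mem (w : List ℕ) : wp w ∈ HH := by
  induction w with
  | nil => exact one_mem _
  | cons k w ih => exact mul_mem (gp_mem k) ih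

theorem gp_G {k : ℕ} (hk : k < 5) : gp k ∈ G := by
  interval_cases k
  exacts [mA, mB, mC, mD, mE]

theorem wp_G (w : List ℕ) (hw : ∀ k ∈ w, k < 5) : wp w ∈ G := by
  induction w with
  | nil => exact one_mem _
  | cons k w ih =>
    exact mul_mem (gp_G (hw k List.mem_cons_self)) (ih fun l hl => hw l (List.mem_cons_of_mem _ hl))

/-- powers of a word -/
def rep (w : List ℕ) : ℕ → List ℕ
  | 0 => []
  | k + 1 => w ++ rep w k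

theorem wp_rep (w : List ℕ) (k : ℕ) : wp (rep w k) = wp w ^ k := by
  induction k with
  | zero => rw [rep, wp, pow_zero]
  | succ k ih => rw [rep, wp_append, ih, pow_succ']

/-- base images of a word -/
def ev (w : List ℕ) : List ℕ := bpN.map (wn w)

theorem bi_wp (w : List ℕ) : bi (wp w) = ev w := bi_eq (wp_val w)

theorem wp_eq {v w : List ℕ} (h : ev v = ev w) : wp v = wp w :=
  inj (wp_mem v) (wp_mem w) (by rw [bi_wp, bi_wp, h])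

/-! ### the notion -/

/-- no subgroup which is invariant under `h` and contains `x` omits an element of `J₂` -/
def Gd (h : Perm (Fin 100)) : Prop :=
  ∃ x ∈ G, ∀ K : Subgroup (Perm (Fin 100)), x ∈ K → (∀ y ∈ K, h * y * h⁻¹ ∈ K) → G ≤ K

theorem Gd.of_pow {h : Perm (Fin 100)} (k : ℕ) (H : Gd (h ^ k)) : Gd h := by
  obtain ⟨x, hx, hK⟩ := H
  refine ⟨x, hx, fun K hxK hh => hK K hxK ?_⟩
  clear hK
  intro y hy
  induction k with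
  | zero => rw [pow_zero, one_mul, inv_one, mul_one]; exact hy
  | succ k ih =>
    have h1 := hh _ ih
    have h2 : h * (h ^ k * y * (h ^ k)⁻¹) * h⁻¹ = h ^ (k + 1) * y * (h ^ (k + 1))⁻¹ := by
      rw [pow_succ']
      group
    rwa [h2] at h1

theorem Gd.of_conj {h u : Perm (Fin 100)} (hu : u ∈ HH) (H : Gd h) : Gd (u * h * u⁻¹) := by
  obtain ⟨x, hx, hK⟩ := H
  refine ⟨u * x * u⁻¹, conj_mem_G hu hx, fun K hxK hh => ?_⟩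
  have h1 := hK (K.comap (MulAut.conj u).toMonoidHom) hxK (by
    intro y hy
    have h2 := hh _ hy
    change u * (h * y * h⁻¹) * u⁻¹ ∈ K
    change u * h * u⁻¹ * (u * y * u⁻¹) * (u * h * u⁻¹)⁻¹ ∈ K at h2
    have h3 : u * (h * y * h⁻¹) * u⁻¹ = u * h * u⁻¹ * (u * y * u⁻¹) * (u * h * u⁻¹)⁻¹ := by group
    rwa [h3])
  intro y hy
  have h2 : u⁻¹ * y * u ∈ G := by
    have := conj_mem_G (inv_mem hu) hy
    rwa [inv_inv] at this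
  have h3 : u * (u⁻¹ * y * u) * u⁻¹ ∈ K := h1 h2
  have h4 : u * (u⁻¹ * y * u) * u⁻¹ = y := by group
  rwa [h4] at h3

/-! ### certificates -/

/-- the word of `x` and the words of the five generators in `x, h x h⁻¹, x⁻¹, h x⁻¹ h⁻¹` -/
abbrev Crt := List ℕ × List (List ℕ)

/-- the action of a letter -/
def act (wx wh : List ℕ) : ℕ → ℕ → ℕ
  | 0, j => wn wx j
  | 1, j => wn wh (wn wx (wn wh.reverse j))
  | 2, j => wn wx.reverse j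
  | _, j => wn wh (wn wx.reverse (wn wh.reverse j))

/-- the element of a letter -/
def lp (wx wh : List ℕ) : ℕ → Perm (Fin 100)
  | 0 => wp wx
  | 1 => wp wh * wp wx * (wp wh)⁻¹
  | 2 => (wp wx)⁻¹
  | _ => wp wh * (wp wx)⁻¹ * (wp wh)⁻¹

theorem lp_val (wx wh : List ℕ) (l : ℕ) (i : Fin 100) : (lp wx wh l i : ℕ) = act wx wh l i := by
  match l with
  | 0 => exact wp_val wx i
  | 1 =>
    change ((wp wh * wp wx * (wp wh)⁻¹) i : ℕ) = _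
    rw [wp_inv, Perm.mul_apply, Perm.mul_apply, wp_val, wp_val, wp_val]
    rfl
  | 2 =>
    change ((wp wx)⁻¹ i : ℕ) = _
    rw [wp_inv]
    exact wp_val _ i
  | (n + 3) =>
    change ((wp wh * (wp wx)⁻¹ * (wp wh)⁻¹) i : ℕ) = _
    rw [wp_inv, wp_inv, Perm.mul_apply, Perm.mul_apply, wp_val, wp_val, wp_val]
    rfl

theorem lp_mem {wx wh : List ℕ} {K : Subgroup (Perm (Fin 100))} (hx : wp wx ∈ K)
    (hh : ∀ y ∈ K, wp wh * y * (wp wh)⁻¹ ∈ K) (l : ℕ) : lp wx wh l ∈ K := by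
  match l with
  | 0 => exact hx
  | 1 => exact hh _ hx
  | 2 => exact inv_mem hx
  | (n + 3) => exact hh _ (inv_mem hx)

/-- the action of a word in the letters -/
def vn (wx wh : List ℕ) : List ℕ → ℕ → ℕ
  | [], j => j
  | l :: v, j => act wx wh l (vn wx wh v j)

/-- the element of a word in the letters -/
def vp (wx wh : List ℕ) : List ℕ → Perm (Fin 100)
  | [] => 1
  | l :: v => lp wx wh l * vp wx wh v

theorem vp_val (wx wh v : List ℕ) (i : Fin 100) : (vp wx wh v i : ℕ) = vn wx wh v i := by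
  induction v with
  | nil => rfl
  | cons l v ih =>
    change ((lp wx wh l * vp wx wh v) i : ℕ) = _
    rw [Perm.mul_apply, lp_val, ih]
    rfl

theorem vp_mem {wx wh : List ℕ} {K : Subgroup (Perm (Fin 100))} (hx : wp wx ∈ K)
    (hh : ∀ y ∈ K, wp wh * y * (wp wh)⁻¹ ∈ K) (v : List ℕ) : vp wx wh v ∈ K := by
  induction v with
  | nil => exact one_mem _
  | cons l v ih => exact mul_mem (lp_mem hx hh l) ih

/-- the words of a list are the generators `k, k + 1, …` -/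
def chkG (wx wh : List ℕ) : ℕ → List (List ℕ) → Bool
  | _, [] => true
  | k, v :: L => band (eqLB (bpN.map (vn wx wh v)) (bpN.map (lk (gt k)))) (chkG wx wh (k + 1) L)

/-- the certificate `c` is right for the word `wh` -/
def chkC (wh : List ℕ) (c : Crt) : Bool :=
  band (Nat.beq c.2.length 5) (band (c.1.all fun k => Nat.blt k 5) (chkG c.1 wh 0 c.2))

theorem of_chkG {wx wh : List ℕ} {K : Subgroup (Perm (Fin 100))} (hx : wp wx ∈ K)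
    (hh : ∀ y ∈ K, wp wh * y * (wp wh)⁻¹ ∈ K) : ∀ (L : List (List ℕ)) (k : ℕ), chkG wx wh k L = true →
    ∀ i < L.length, gp (k + i) ∈ K
  | [], _, _, i, hi => absurd hi (Nat.not_lt_zero i)
  | v :: L, k, h, i, hi => by
    rw [chkG, band_eq_true, eqLB_iff] at h
    match i with
    | 0 =>
      have h1 : vp wx wh v = gp k := by
        refine inj (vp_mem (wp_mem wx) (fun y hy => mul_mem (mul_mem (wp_mem wh) hy) (inv_mem (wp_mem wh))) v)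
          (gp_mem k) ?_
        rw [bi_eq (vp_val wx wh v), bi_eq (gp_val k), h.1]
      rw [Nat.add_zero, ← h1]
      exact vp_mem hx hh v
    | (j + 1) =>
      have h2 := of_chkG hx hh L (k + 1) h.2 j (Nat.lt_of_succ_lt_succ hi)
      rwa [show k + (j + 1) = k + 1 + j by omega]

theorem gd_of_chk {wh : List ℕ} {c : Crt} (h : chkC wh c = true) : Gd (wp wh) := by
  rw [chkC, band_eq_true, band_eq_true, Nat.beq_eq, List.all_eq_true] at h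
  obtain ⟨hl, hc, hg⟩ := h
  refine ⟨wp c.1, wp_G _ fun k hk => Nat.blt_eq.mp (hc k hk), fun K hx hh => ?_⟩
  have h1 := of_chkG hx hh c.2 0 hg
  rw [hl] at h1
  rw [G, Subgroup.closure_le]
  rintro y (rfl | rfl | rfl | rfl | rfl)
  exacts [h1 0 (by norm_num), h1 1 (by norm_num), h1 2 (by norm_num), h1 3 (by norm_num), h1 4 (by norm_num)]

/-! ### Sylow subgroups -/

section

variable {p : ℕ} [hp : Fact p.Prime] {A T : List (List ℕ)}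

theorem exists_syl (hT : A.map ev = T) (hl : ∀ w ∈ A, ∀ k ∈ w, k < 5) (h1 : [] ∈ A)
    (hm : ∀ u ∈ A, ∀ t ∈ T, t.map (wn u) ∈ T) (hi : ∀ u ∈ A, ev u.reverse ∈ T) (hnd : T.Nodup)
    (hc : T.length = p ^ (Nat.card G).factorization p) :
    ∃ P : Sylow p G, ∀ g ∈ P, ∃ w ∈ A, (g : Perm (Fin 100)) = wp w := by
  have key : ∀ v : List ℕ, ev v ∈ T → ∃ w ∈ A, wp v = wp w := by
    intro v hv
    rw [← hT, List.mem_map] at hv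
    obtain ⟨w, hw, e⟩ := hv
    exact ⟨w, hw, wp_eq e.symm⟩
  let S : Subgroup G :=
    { carrier := {g | ∃ w ∈ A, (g : Perm (Fin 100)) = wp w}
      one_mem' := ⟨[], h1, rfl⟩
      mul_mem' := by
        rintro a b ⟨u, hu, ha⟩ ⟨v, hv, hb⟩
        have h2 : ev (u ++ v) = (ev v).map (wn u) := by
          rw [← bi_wp, ← bi_wp, wp_append]
          unfold bi
          rw [List.map_map]
          exact List.map_congr_left fun b _ => wp_val u (wp v b)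
        obtain ⟨w, hw, e⟩ := key (u ++ v) (by
          rw [h2]
          refine hm u hu _ ?_
          rw [← hT]
          exact List.mem_map_of_mem hv)
        exact ⟨w, hw, by rw [Subgroup.coe_mul, ha, hb, ← wp_append, e]⟩
      inv_mem' := by
        rintro a ⟨u, hu, ha⟩
        obtain ⟨w, hw, e⟩ := key u.reverse (hi u hu)
        exact ⟨w, hw, by rw [Subgroup.coe_inv, ha, wp_inv, e]⟩ }
  have hS : ∀ g : G, g ∈ S ↔ ∃ w ∈ A, (g : Perm (Fin 100)) = wp w := fun g => Iff.rfl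
  have hcard : Nat.card S = T.length := by
    have e : S ≃ {t // t ∈ T.toFinset} := by
      refine Equiv.ofBijective (fun g => ⟨bi (g : G), ?_⟩) ⟨?_, ?_⟩
      · obtain ⟨w, hw, e⟩ := g.2
        rw [List.mem_toFinset, e, bi_wp, ← hT]
        exact List.mem_map_of_mem hw
      · intro g g' h
        have h2 : bi (g : G) = bi (g' : G) := congrArg Subtype.val h
        exact Subtype.ext (Subtype.ext (inj (aut_le (g : G).2) (aut_le (g' : G).2) h2))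
      · rintro ⟨t, ht⟩
        rw [List.mem_toFinset, ← hT, List.mem_map] at ht
        obtain ⟨w, hw, e⟩ := ht
        exact ⟨⟨⟨wp w, wp_G w (hl w hw)⟩, w, hw, rfl⟩, Subtype.ext ((bi_wp w).trans e)⟩
    rw [Nat.card_congr e, Nat.card_eq_fintype_card, Fintype.card_coe, List.toFinset_card_of_nodup hnd]
  exact ⟨Sylow.ofCard S (by rw [hcard, hc]), fun g hg => hg⟩

/-- the elements of order `p` are conjugate into the Sylow subgroup -/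
theorem gd_of_syl {R : List (List ℕ × Crt)} (P : Sylow p G) (hP : ∀ g ∈ P, ∃ w ∈ A, (g : Perm (Fin 100)) = wp w)
    (hR : ∀ w ∈ A, ev w = bpN ∨ ∃ k ∈ List.range p, ∃ r ∈ R, ev (rep w k) = ev r.1)
    (hC : ∀ r ∈ R, chkC r.1 r.2 = true) {h : Perm (Fin 100)} (hG : h ∈ G) (h1 : h ≠ 1) (ho : h ^ p = 1) : Gd h := by
  have hord : orderOf (⟨h, hG⟩ : G) = p := by
    rw [Subgroup.orderOf_mk]
    exact orderOf_eq_prime ho h1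
  have hpg : IsPGroup p (Subgroup.zpowers (⟨h, hG⟩ : G)) :=
    IsPGroup.of_card (n := 1) (by rw [Nat.card_zpowers, hord, pow_one])
  obtain ⟨Q, hQ⟩ := hpg.exists_le_sylow
  obtain ⟨u, hu⟩ := MulAction.exists_smul_eq G Q P
  have hmem : u * ⟨h, hG⟩ * u⁻¹ ∈ P := by
    rw [← hu]
    change u * ⟨h, hG⟩ * u⁻¹ ∈ ((u • Q : Sylow p G) : Subgroup G)
    rw [Sylow.coe_subgroup_smul]
    exact ⟨⟨h, hG⟩, hQ (Subgroup.mem_zpowers _), rfl⟩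
  obtain ⟨w, hw, e⟩ := hP _ hmem
  have e' : (u : Perm (Fin 100)) * h * (u : Perm (Fin 100))⁻¹ = wp w := e
  have h2 : Gd (wp w) := by
    rcases hR w hw with h3 | ⟨k, _, r, hr, h3⟩
    · exfalso
      apply h1
      have h4 : wp w = 1 := by
        refine inj (wp_mem w) (one_mem _) ?_
        rw [bi_wp, h3]
        exact bi_one.symm
      rw [← e'] at h4
      have h5 : h = (u : Perm (Fin 100))⁻¹ * (u * h * (u : Perm (Fin 100))⁻¹) * u := by group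
      rw [h5, h4]
      group
    · refine Gd.of_pow k ?_
      rw [← wp_rep, wp_eq h3]
      exact gd_of_chk (hC r hr)
  have h3 := Gd.of_conj (inv_mem (aut_le u.2)) h2
  rw [← e', inv_inv] at h3
  have h5 : h = (u : Perm (Fin 100))⁻¹ * (u * h * (u : Perm (Fin 100))⁻¹) * u := by group
  rwa [← h5] at h3

end

/-! ### data -/

def c0 : Crt := ([1, 3, 2, 4], [[2, 2, 1, 1, 2, 1, 2, 3, 0, 3, 0, 0], [3, 0, 0, 3, 3, 0, 3, 0], [3, 0, 1, 2, 3, 0], [2, 3, 3, 0, 0, 0, 1, 0, 0, 1, 2, 3, 2, 3, 3, 0, 0], [0, 0, 1, 1, 2, 2, 2, 3, 0, 0, 0, 0, 1, 2, 1, 0, 0, 0]])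
def c1 : Crt := ([0, 1, 2, 4], [[3, 0, 3, 0, 3, 0], [1, 1, 2, 2, 1, 1, 2, 2], [0, 1, 1, 2, 2, 1, 1, 2, 2, 2], [0, 0, 0, 0, 0, 1, 1, 1, 1, 1, 0, 0, 0, 0, 0], [0, 0, 0, 0, 0]])
def c2 : Crt := ([0, 1, 3], [[1, 1, 1, 1, 2, 2, 3, 3, 0, 0, 0, 0], [1, 1, 1, 1, 2, 2, 3, 3], [0, 1, 1, 2, 2, 3, 3, 0, 0, 0], [0, 0, 0, 0, 0], [1, 0, 0, 0, 3, 0, 0, 0, 1, 0, 0]])
def A3 : List (List ℕ) := [
  [],
  [2, 3, 1, 0, 1, 2, 3, 0, 1, 2, 0, 1, 0],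
  [2, 0, 1, 0, 1, 2, 1],
  [0, 1, 2, 3, 0, 1, 2, 3, 0, 1, 0, 1, 2],
  [3, 0, 1, 2, 3, 1, 2, 1, 0, 1, 0],
  [2, 3, 2, 0, 1, 0, 1, 2, 3, 1, 2],
  [2, 1, 0, 1, 2, 1, 0],
  [1, 2, 3, 2, 3, 1, 0, 1, 2],
  [2, 3, 0, 1, 0, 1, 2, 3, 2, 1, 0],
  [3, 2, 3, 1, 2, 3, 0, 1, 2, 3, 0],
  [3, 2, 3, 0, 1, 2, 3, 0, 1, 2, 3],
  [0, 1, 2, 3, 2, 3, 1, 0, 1, 2, 0],
  [2, 3, 1, 0, 1, 2, 3, 2, 1],
  [2, 3, 2, 3, 1, 2, 3, 2, 1, 0, 1, 2, 3, 0],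
  [2, 3, 2, 1, 0, 1, 2, 3, 1, 2, 0],
  [3, 2, 1, 0, 1, 2, 3, 1, 2, 3, 1, 2, 3],
  [0, 1, 0, 1, 2, 3, 1, 2, 3, 1, 0],
  [3, 1, 2, 3, 1, 2, 1, 0, 1],
  [1, 2, 3, 1, 2, 0, 1, 0, 1, 2, 3, 2],
  [3, 0, 1, 2, 3, 0, 1],
  [1, 0, 1, 2, 3, 1, 2, 3, 1],
  [3, 2, 3, 1, 2, 3, 2, 1, 0, 1, 2, 3, 1],
  [3, 2, 0, 1, 0, 1, 2, 3, 2, 3, 1, 2, 3, 2],
  [3, 1, 2, 3, 0, 1, 0],
  [2, 3, 2, 1, 0, 1, 2, 3, 0, 1, 2, 1],
  [3, 2, 3, 1, 2, 3, 2, 1, 0, 1, 2, 3, 0, 1, 2, 1, 0, 1, 0],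
  [2, 3, 1, 2, 3, 1, 0, 1, 2, 3, 0, 1, 2, 3, 2, 1, 0, 1, 0]]
def T3 : List (List ℕ) := [
  [0, 13, 29, 45, 58, 68, 30, 27, 39, 9, 78],
  [9, 93, 41, 98, 61, 90, 71, 37, 70, 6, 74],
  [1, 15, 28, 75, 54, 73, 48, 79, 80, 7, 25],
  [6, 77, 96, 12, 60, 42, 63, 80, 85, 0, 47],
  [7, 52, 23, 66, 64, 68, 33, 50, 24, 11, 39],
  [7, 55, 28, 15, 18, 34, 31, 44, 27, 11, 87],
  [5, 19, 81, 72, 60, 90, 76, 40, 74, 2, 26],
  [11, 95, 83, 8, 58, 82, 63, 74, 86, 1, 36],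
  [11, 38, 23, 52, 62, 90, 17, 46, 26, 1, 70],
  [2, 57, 91, 65, 62, 73, 31, 20, 22, 3, 80],
  [11, 75, 28, 55, 14, 99, 59, 21, 37, 1, 40],
  [2, 67, 81, 19, 14, 35, 71, 85, 79, 3, 88],
  [2, 16, 89, 53, 58, 42, 33, 25, 47, 3, 69],
  [1, 56, 83, 95, 61, 35, 30, 47, 88, 7, 20],
  [3, 32, 89, 16, 54, 94, 63, 39, 44, 5, 84],
  [1, 66, 23, 38, 10, 42, 76, 22, 69, 7, 85],
  [3, 43, 91, 57, 61, 68, 17, 87, 78, 5, 24],
  [3, 72, 81, 67, 10, 34, 59, 51, 50, 5, 27],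
  [9, 97, 29, 13, 10, 99, 33, 86, 40, 6, 46],
  [9, 12, 96, 92, 54, 82, 31, 26, 36, 6, 21],
  [7, 8, 83, 56, 60, 94, 71, 78, 84, 11, 51],
  [5, 53, 89, 32, 64, 99, 48, 36, 46, 2, 37],
  [5, 65, 91, 43, 18, 82, 30, 70, 21, 2, 86],
  [6, 49, 41, 93, 64, 73, 17, 88, 25, 0, 22],
  [6, 45, 29, 97, 18, 35, 59, 69, 20, 0, 79],
  [0, 92, 96, 77, 62, 34, 76, 84, 87, 9, 50],
  [0, 98, 41, 49, 14, 94, 48, 24, 51, 9, 44]]
def R3 : List (List ℕ × Crt) := [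
  ([2, 0, 1, 0, 1, 2, 1], ([2, 3, 4], [[0, 0, 0, 0, 0, 0], [0, 3, 2, 3, 0, 1, 0, 3, 3, 2, 1, 0], [1, 0, 1, 2, 2, 2, 1, 0, 3, 3, 0, 1, 0, 0], [3, 2, 2, 3, 3, 3, 2, 2, 2, 3, 0, 0, 0, 0, 0], [2, 1, 0, 0, 0, 1, 1, 1, 0, 0, 1, 0, 0]])),
  ([3, 0, 1, 2, 3, 0, 1], ([0, 1, 2, 4], [[2, 1, 0, 1, 2, 1, 1, 2, 1, 0, 1, 0], [2, 1, 2, 1, 2, 2, 1, 2, 1, 0, 0, 0], [1, 2, 1, 2, 2, 1, 2, 1, 0, 0], [3, 0, 3, 3, 2, 3, 0, 1, 1, 0, 0, 0, 0], [0, 0, 0, 0, 0]])),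
  ([1, 2, 3, 2, 3, 1, 0, 1, 2], ([1, 2, 4], [[3, 3, 2, 1, 0, 0, 0, 1, 0, 0, 0], [1, 1, 0, 0, 0, 3, 0, 0, 0, 3, 0], [1, 1, 0, 0, 0, 3, 0, 0, 0, 3, 2], [2, 3, 0, 3, 0, 0, 3, 0, 1, 0, 1, 2, 1, 0], [0, 0, 0]])),
  ([3, 1, 2, 3, 1, 2, 1, 0, 1], ([1, 2, 4], [[3, 3, 0, 1, 0, 0, 0, 1, 0, 0, 0], [1, 1, 0, 0, 0, 3, 0, 0, 0, 3, 0], [1, 1, 0, 0, 0, 3, 0, 0, 0, 3, 2], [3, 0, 3, 0, 0, 3, 2, 1, 0, 1, 2, 1], [0, 0, 0]])),
  ([3, 0, 1, 2, 3, 1, 2, 1, 0, 1, 0], ([2, 4, 3], [[0, 0, 0, 0, 0, 0], [1, 2, 1, 1, 2, 1, 1, 2, 1], [1, 2, 3, 0, 0, 0, 0, 0, 0, 1, 0, 3], [1, 0, 0, 1, 1, 1, 1, 0, 1, 1, 2, 1, 0, 1], [1, 2, 1, 2, 1, 1, 0, 3, 2, 1, 0, 1, 2]])),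
  ([2, 3, 2, 0, 1, 0, 1, 2, 3, 1, 2], ([2, 3, 4], [[0, 0, 0, 0, 0, 0], [3, 2, 3, 0, 1, 0, 3, 3, 2, 1, 0, 0], [3, 0, 1, 2, 3, 2, 1, 0, 3, 2, 1, 1], [1, 0, 0, 3, 2, 2, 2, 2, 1, 0, 0, 0, 1, 2], [3, 2, 2, 3, 3, 3, 2, 2, 2, 3, 0, 0, 0, 0, 0]])),
  ([2, 3, 0, 1, 0, 1, 2, 3, 2, 1, 0], ([2, 4, 3], [[0, 0, 0, 0, 0, 0], [1, 2, 1, 0, 3, 0, 0, 0, 0, 1], [1, 2, 3, 3, 3, 2, 1, 1, 2, 1, 0], [0, 3, 3, 2, 2, 1, 0, 0, 0, 0, 1], [3, 2, 3, 2, 1, 0, 0, 0, 1, 0]])),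
  ([3, 2, 3, 1, 2, 3, 0, 1, 2, 3, 0], ([0, 1, 4], [[1, 1, 0, 0, 0, 3, 3, 2, 2, 1], [1, 0, 3, 0, 1, 2, 1, 1, 0, 3, 0, 0, 0, 0], [3, 3, 2, 2, 1, 1, 1, 0, 0, 1, 1, 0], [1, 0, 0, 0, 3, 2, 2, 3, 0, 3, 0, 0, 0, 0, 1], [0, 0, 0, 0, 0]])),
  ([1, 2, 3, 1, 2, 0, 1, 0, 1, 2, 3, 2], ([0, 1, 4], [[3, 3, 0, 0, 0, 0, 1, 1, 1, 1], [1, 1, 2, 2, 1, 1, 1, 1, 0, 0], [3, 2, 3, 2, 2, 3, 2, 3, 0, 0], [3, 0, 1, 0, 3, 0, 1, 0, 3, 0, 3, 3, 0], [0, 0, 0, 0, 0]])),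
  ([2, 3, 1, 0, 1, 2, 3, 0, 1, 2, 0, 1, 0], ([0, 1, 4], [[3, 3, 0, 0, 0, 0, 1, 1, 1, 1], [1, 1, 2, 2, 1, 1, 1, 1, 0, 0], [3, 0, 1, 0, 0, 1, 0, 3, 0, 0], [3, 0, 1, 0, 3, 0, 0, 0, 0], [0, 0, 0, 0, 0]])),
  ([3, 2, 1, 0, 1, 2, 3, 1, 2, 3, 1, 2, 3], ([0, 4, 3], [[0, 0, 0], [0, 3, 0, 0, 0, 1, 2, 1, 1, 1], [1, 2, 1, 1, 1, 0, 3], [1, 2, 1, 0, 3, 0, 1, 1, 1, 0, 3, 0, 1, 1], [1, 0, 3, 0, 1, 0, 0, 0, 3, 3, 0, 1, 0, 0, 1]])),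
  ([2, 3, 2, 3, 1, 2, 3, 2, 1, 0, 1, 2, 3, 0], ([2, 3, 4], [[0, 0, 0, 0, 0, 0], [1, 2, 1, 1, 2, 3, 3, 2, 3, 0, 0, 0], [1, 1, 2, 2, 3, 2, 2, 2, 3, 0, 1, 0], [0, 1, 0, 0, 1, 2, 1, 0, 0, 1, 2, 1, 2], [1, 2, 3, 0, 1, 1, 1, 0, 0, 3, 0, 0]])),
  ([3, 2, 3, 1, 2, 3, 2, 1, 0, 1, 2, 3, 0, 1, 2, 1, 0, 1, 0], ([1, 4, 3, 2], [[0, 0, 3, 3, 3, 0, 0, 0, 3, 3, 3, 0], [2, 1, 0, 1, 1, 1, 0, 0, 3, 0, 0, 1, 0, 0], [2, 1, 2, 3, 0, 0, 1, 0, 1, 0, 3, 0, 1, 0, 0, 0], [0, 1, 0, 1, 1, 2, 2, 2, 2, 3, 3, 0], [1, 0, 1, 1, 2, 2, 2, 2, 3, 3, 0, 0]]))]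
def A5 : List (List ℕ) := [
  [],
  [3, 1, 2, 3, 1, 2, 3, 4, 3, 1, 2, 3, 1, 2, 3, 4, 1, 2, 0],
  [3, 2, 3, 1, 2, 3, 4, 1],
  [4, 3, 1, 2, 3, 1, 2, 3, 1, 2, 0],
  [4, 3, 2, 3, 1, 2, 3, 4, 3, 1, 2, 3, 1, 2, 3, 1],
  [3, 2, 3, 1, 2, 3, 4, 3, 1, 2, 3, 1, 2, 3, 4, 1],
  [3, 2, 3, 1, 2, 3, 4, 1, 2, 0, 1],
  [1, 2, 0],
  [4, 3, 2, 3, 1, 2, 3, 1, 2, 0, 1],
  [4, 3, 1, 2, 3, 1, 2, 3, 4, 3, 1, 2, 3, 1, 2, 3],
  [4, 3, 2, 3, 1, 2, 3, 4, 3, 1, 2, 3, 1, 2, 3, 1, 2, 0, 1],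
  [3, 2, 3, 1, 2, 3, 4, 3, 1, 2, 3, 1, 2, 3, 4, 1, 2, 0, 1],
  [3, 1, 2, 3, 1, 2, 3, 4],
  [0, 1, 2, 1, 0, 1],
  [4, 3, 1, 2, 3, 1, 2, 3],
  [4, 3, 1, 2, 3, 1, 2, 3, 1, 0, 1, 2, 1, 0],
  [4, 3, 2, 3, 1, 2, 3, 4, 3, 2, 3, 1, 2, 3],
  [3, 2, 3, 1, 2, 3, 4, 3, 2, 3, 1, 2, 3, 4],
  [3, 1, 2, 3, 1, 2, 3, 4, 1, 0, 1, 2, 1, 0],
  [1, 0, 1, 2, 1, 0],
  [4, 3, 2, 3, 1, 2, 3, 1],
  [4, 3, 1, 2, 3, 1, 2, 3, 4, 3, 1, 2, 3, 1, 2, 3, 1, 2, 0],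
  [3, 1, 2, 3, 1, 2, 3, 4, 1, 2, 0],
  [2, 0, 1],
  [3, 1, 2, 3, 1, 2, 3, 4, 3, 1, 2, 3, 1, 2, 3, 4]]
def T5 : List (List ℕ) := [
  [0, 13, 29, 45, 58, 68, 30, 27, 39, 9, 78],
  [32, 79, 13, 0, 86, 89, 7, 17, 96, 27, 67],
  [42, 2, 89, 16, 73, 81, 15, 37, 29, 79, 24],
  [19, 37, 79, 32, 51, 2, 49, 39, 9, 17, 59],
  [30, 26, 2, 42, 65, 14, 44, 6, 13, 37, 23],
  [48, 28, 14, 4, 69, 84, 11, 18, 89, 26, 61],
  [85, 6, 37, 19, 25, 26, 16, 96, 27, 39, 69],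
  [7, 18, 26, 30, 52, 28, 71, 29, 79, 6, 74],
  [15, 88, 28, 48, 94, 1, 31, 68, 2, 18, 60],
  [75, 80, 1, 21, 66, 17, 70, 3, 14, 88, 51],
  [45, 29, 6, 85, 97, 18, 42, 9, 17, 96, 94],
  [49, 68, 18, 7, 91, 88, 4, 13, 37, 29, 66],
  [44, 3, 88, 15, 78, 80, 10, 89, 26, 68, 41],
  [11, 8, 80, 75, 92, 39, 43, 81, 28, 3, 25],
  [12, 96, 39, 38, 82, 6, 32, 90, 1, 8, 52],
  [16, 89, 68, 49, 22, 3, 48, 79, 6, 13, 92],
  [71, 81, 3, 44, 67, 8, 21, 2, 18, 89, 82],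
  [31, 90, 8, 11, 24, 96, 5, 14, 88, 81, 97],
  [70, 9, 96, 12, 40, 29, 19, 84, 80, 90, 91],
  [4, 14, 81, 71, 59, 90, 75, 26, 68, 2, 40],
  [10, 84, 90, 31, 23, 9, 38, 28, 3, 14, 58],
  [43, 27, 9, 70, 61, 13, 85, 1, 8, 84, 22],
  [21, 1, 84, 10, 74, 27, 12, 88, 81, 28, 86],
  [5, 17, 27, 43, 60, 79, 45, 80, 90, 1, 73],
  [38, 39, 17, 5, 41, 37, 0, 8, 84, 80, 65]]
def R5 : List (List ℕ × Crt) := [
  ([1, 2, 0], ([1, 3, 4], [[0, 3, 3, 0, 0, 3, 3, 0], [0, 0, 0], [0, 0, 3, 3, 0, 0, 3, 0, 0, 3, 3, 0, 0], [0, 3, 0, 1, 0, 0, 0, 1, 2, 3, 0, 0, 0, 3, 0, 1], [3, 0, 1, 0, 0, 0, 1, 2, 3, 0, 0, 0, 3, 0, 1, 0, 0, 0]])),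
  ([3, 2, 3, 1, 2, 3, 4, 1], ([3, 2], [[0, 0, 0, 0], [0, 0, 1, 0, 1, 0, 3, 2, 1, 1, 2, 2], [1, 0, 1, 1, 1, 2, 1, 0, 1, 2, 2, 3], [1, 2, 3, 2, 1, 0, 1, 0, 3, 0, 0, 0, 1], [0, 0, 1, 0, 0, 0, 0, 3, 0, 0, 0, 0, 1, 0, 0]])),
  ([3, 1, 2, 3, 1, 2, 3, 4], ([3, 2], [[0, 0, 0, 0], [1, 1, 0, 1, 0, 0, 0, 3, 2, 2, 1, 0, 1, 2], [3, 2, 3, 3, 3, 0, 3, 2, 3, 0, 0, 1], [1, 0, 0, 0, 0, 3, 2, 3, 2, 1, 0, 1, 0], [0, 0, 1, 0, 0, 0, 0, 3, 0, 0, 0, 0, 1, 0, 0]])),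
  ([4, 3, 1, 2, 3, 1, 2, 3, 1, 2, 0], ([2, 3], [[0, 0, 0, 0], [0, 1, 0, 3, 3, 0, 1, 2, 1, 1], [1, 0, 3, 0, 0, 0, 1, 0, 0, 0], [1, 0, 3, 0, 0, 0, 1, 0, 0, 0, 0], [1, 0, 0, 0, 0, 1, 0, 3, 0, 0, 0]])),
  ([4, 3, 2, 3, 1, 2, 3, 1, 2, 0, 1], ([3, 2], [[0, 0, 0, 0], [0, 1, 0, 0, 0, 0, 3, 2], [1, 0, 3, 0, 0, 0, 1, 0, 0, 0], [1, 0, 3, 0, 0, 0, 1, 0, 0], [1, 0, 0, 0, 0, 1, 0, 3, 0, 0, 0]])),
  ([4, 3, 1, 2, 3, 1, 2, 3, 1, 0, 1, 2, 1, 0], ([2, 3], [[0, 0, 0, 0], [2, 1, 0, 3, 0, 0, 0, 0, 1, 2, 3, 0], [1, 1, 2, 1, 1, 2, 1, 1], [1, 1, 2, 1, 1, 2, 1, 1, 0], [1, 0, 1, 2, 1, 2, 3, 2, 1, 2, 1, 0, 1]]))]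
def A7 : List (List ℕ) := [
  [],
  [2, 3, 4, 1, 2, 3, 1, 2, 3, 4, 1, 0, 1, 2, 3, 2, 1, 0],
  [1, 2, 3, 4, 2, 0, 1, 0, 1, 2, 3, 2, 3, 4, 3, 1, 2, 3, 1, 0, 1],
  [0, 1, 2, 3, 4, 2, 3, 1, 2],
  [2, 3, 4, 1, 2, 3, 2, 1, 0],
  [3, 4, 1, 0, 1, 2, 3, 1, 2, 3, 4, 3, 2, 1, 0, 1, 2, 3, 2, 0, 1],
  [0, 1, 2, 3, 4, 2, 3, 1, 0, 1, 2, 3, 4, 1, 2, 3, 1, 2]]
def T7 : List (List ℕ) := [
  [0, 13, 29, 45, 58, 68, 30, 27, 39, 9, 78],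
  [63, 78, 60, 70, 20, 37, 48, 57, 1, 82, 29],
  [25, 29, 66, 96, 16, 75, 56, 0, 31, 45, 60],
  [44, 60, 40, 77, 17, 71, 35, 63, 92, 70, 66],
  [99, 66, 90, 50, 24, 23, 8, 25, 89, 96, 40],
  [27, 40, 13, 9, 62, 79, 42, 44, 85, 77, 90],
  [57, 90, 78, 82, 49, 14, 64, 99, 65, 50, 13]]
def R7 : List (List ℕ × Crt) := [
  ([0, 1, 2, 3, 4, 2, 3, 1, 2], ([2, 3], [[0, 0, 0, 0], [3, 0, 3, 2, 1, 0, 1, 2, 3, 0, 3, 0], [1, 0, 0, 1, 0, 0, 1, 0, 0, 1, 0, 0, 0, 0], [0, 0, 0, 1, 0, 0, 1, 0, 0, 1, 0, 0, 1], [1, 1, 0, 0, 1, 0, 1, 0, 1, 0, 0, 1, 1]]))]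

/-! ### checks -/

theorem k0 : chkC [0] c0 = true := by decide +kernel
theorem k1 : chkC [3] c1 = true := by decide +kernel
theorem k2 : chkC [5] c2 = true := by decide +kernel

theorem gd_typ (k : ℕ) : Gd (typP k) := by
  match k with
  | 0 =>
    have h := gd_of_chk k0
    rwa [wp, wp, mul_one] at h
  | 1 =>
    have h := gd_of_chk k1
    rwa [wp, wp, mul_one] at h
  | (n + 2) =>
    have h := gd_of_chk k2
    rwa [wp, wp, mul_one] at h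

theorem t3 : A3.map ev = T3 := by decide +kernel
theorem m3 : ∀ u ∈ A3, ∀ t ∈ T3, t.map (wn u) ∈ T3 := by decide +kernel
theorem i3 : ∀ u ∈ A3, ev u.reverse ∈ T3 := by decide +kernel
theorem d3 : T3.Nodup := by decide +kernel
theorem r3 : ∀ w ∈ A3, ev w = bpN ∨ ∃ k ∈ List.range 3, ∃ r ∈ R3, ev (rep w k) = ev r.1 := by decide +kernel
theorem q3 : (R3.all fun r => chkC r.1 r.2) = true := by decide +kernel
theorem t5 : A5.map ev = T5 := by decide +kernel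
theorem m5 : ∀ u ∈ A5, ∀ t ∈ T5, t.map (wn u) ∈ T5 := by decide +kernel
theorem i5 : ∀ u ∈ A5, ev u.reverse ∈ T5 := by decide +kernel
theorem d5 : T5.Nodup := by decide +kernel
theorem r5 : ∀ w ∈ A5, ev w = bpN ∨ ∃ k ∈ List.range 5, ∃ r ∈ R5, ev (rep w k) = ev r.1 := by decide +kernel
theorem q5 : (R5.all fun r => chkC r.1 r.2) = true := by decide +kernel
theorem t7 : A7.map ev = T7 := by decide +kernel
theorem m7 : ∀ u ∈ A7, ∀ t ∈ T7, t.map (wn u) ∈ T7 := by decide +kernel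
theorem i7 : ∀ u ∈ A7, ev u.reverse ∈ T7 := by decide +kernel
theorem d7 : T7.Nodup := by decide +kernel
theorem r7 : ∀ w ∈ A7, ev w = bpN ∨ ∃ k ∈ List.range 7, ∃ r ∈ R7, ev (rep w k) = ev r.1 := by decide +kernel
theorem q7 : (R7.all fun r => chkC r.1 r.2) = true := by decide +kernel

/-! ### conclusion -/

theorem dvd_four {p : ℕ} (hp : p.Prime) (h : p ∣ 604800) : p = 2 ∨ p = 3 ∨ p = 5 ∨ p = 7 := by
  rw [show (604800 : ℕ) = 2 ^ 7 * (3 ^ 3 * (5 ^ 2 * 7)) by norm_num] at h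
  rcases (hp.dvd_mul).1 h with h | h
  · exact Or.inl ((Nat.prime_dvd_prime_iff_eq hp Nat.prime_two).1 (hp.dvd_of_dvd_pow h))
  rcases (hp.dvd_mul).1 h with h | h
  · exact Or.inr (Or.inl ((Nat.prime_dvd_prime_iff_eq hp Nat.prime_three).1 (hp.dvd_of_dvd_pow h)))
  rcases (hp.dvd_mul).1 h with h | h
  · exact Or.inr (Or.inr (Or.inl ((Nat.prime_dvd_prime_iff_eq hp Nat.prime_five).1 (hp.dvd_of_dvd_pow h))))
  · exact Or.inr (Or.inr (Or.inr ((Nat.prime_dvd_prime_iff_eq hp (by norm_num)).1 h)))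

theorem factor (p k m : ℕ) (hp : p.Prime) (h : 604800 = p ^ k * m) (hm : ¬ p ∣ m) :
    (Nat.card G).factorization p = k := by
  rw [card_G, h, Nat.factorization_mul (pow_ne_zero _ hp.ne_zero) (by rintro rfl; exact hm (dvd_zero p)),
    Finsupp.add_apply, hp.factorization_pow, Finsupp.single_eq_same, Nat.factorization_eq_zero_of_not_dvd hm, add_zero]

theorem gd_prime {p : ℕ} (hp : p.Prime) {h : Perm (Fin 100)} (hh : h ∈ HH) (h1 : h ≠ 1) (ho : h ^ p = 1) : Gd h := by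
  by_cases h2 : p = 2
  · subst h2
    obtain ⟨k, g, hg, rfl⟩ := inv_HH hh (by rw [← pow_two]; exact ho) h1
    exact Gd.of_conj hg (gd_typ k)
  · have hG : h ∈ G := by
      rw [G_eq]
      refine ⟨hh, ?_⟩
      change Perm.sign h = 1
      have h3 : Perm.sign h ^ p = 1 := by rw [← map_pow, ho, map_one]
      obtain ⟨m, hm⟩ := hp.odd_of_ne_two h2
      rw [hm, pow_succ, pow_mul, Int.units_sq, one_pow, one_mul] at h3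
      exact h3
    have hd : p ∣ 604800 := by
      have h3 : orderOf (⟨h, hG⟩ : G) = p := by
        have : Fact p.Prime := ⟨hp⟩
        rw [Subgroup.orderOf_mk]
        exact orderOf_eq_prime ho h1
      rw [← card_G, ← h3]
      exact orderOf_dvd_natCard _
    rcases dvd_four hp hd with rfl | rfl | rfl | rfl
    · exact absurd rfl h2
    · have : Fact (Nat.Prime 3) := ⟨hp⟩
      obtain ⟨P, hP⟩ := exists_syl (p := 3) t3 (by decide +kernel) (by decide +kernel) m3 i3 d3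
        (by rw [factor 3 3 22400 hp (by norm_num) (by norm_num)]; rfl)
      exact gd_of_syl P hP r3 (fun r hr => (List.all_eq_true.1 q3) r hr) hG h1 ho
    · have : Fact (Nat.Prime 5) := ⟨hp⟩
      obtain ⟨P, hP⟩ := exists_syl (p := 5) t5 (by decide +kernel) (by decide +kernel) m5 i5 d5
        (by rw [factor 5 2 24192 hp (by norm_num) (by norm_num)]; rfl)
      exact gd_of_syl P hP r5 (fun r hr => (List.all_eq_true.1 q5) r hr) hG h1 ho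
    · have : Fact (Nat.Prime 7) := ⟨hp⟩
      obtain ⟨P, hP⟩ := exists_syl (p := 7) t7 (by decide +kernel) (by decide +kernel) m7 i7 d7
        (by rw [factor 7 1 86400 hp (by norm_num) (by norm_num)]; rfl)
      exact gd_of_syl P hP r7 (fun r hr => (List.all_eq_true.1 q7) r hr) hG h1 ho

theorem spr_G : Cfsg.Agent.H424.Spr.Spr G := by
  refine Cfsg.Agent.H609.TH.spr_of_prime fun α hα => ?_
  obtain ⟨h, hh, ha⟩ := aut_G α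
  have h1 : h ≠ 1 := by
    rintro rfl
    have h2 : α = 1 := by
      apply MulEquiv.ext
      intro g
      apply Subtype.ext
      rw [ha]
      simp
    rw [h2, orderOf_one] at hα
    exact absurd hα (by norm_num)
  have hpow : ∀ (n : ℕ) (g : G), (((α ^ n) g : G) : Perm (Fin 100)) = h ^ n * g * (h ^ n)⁻¹ := by
    intro n g
    induction n with
    | zero => rw [pow_zero, pow_zero, one_mul, inv_one, mul_one]; rfl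
    | succ n ih =>
      rw [pow_succ' α, MulAut.mul_apply, ha, ih, pow_succ' h]
      group
  have h2 : h ^ orderOf α = 1 := by
    refine cent_triv fun g hg => ?_
    have h3 := hpow (orderOf α) ⟨g, hg⟩
    rw [pow_orderOf_eq_one, MulAut.one_apply] at h3
    change g = h ^ orderOf α * g * (h ^ orderOf α)⁻¹ at h3
    calc g * h ^ orderOf α = h ^ orderOf α * g * (h ^ orderOf α)⁻¹ * h ^ orderOf α := by rw [← h3]
      _ = h ^ orderOf α * g := by group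
  obtain ⟨x, hx, hK⟩ := gd_prime hα hh h1 h2
  refine ⟨⟨x, hx⟩, fun K hxK hinv => ?_⟩
  have h3 := hK (K.map G.subtype) ⟨⟨x, hx⟩, hxK, rfl⟩ (by
    rintro _ ⟨y, hy, rfl⟩
    exact ⟨α y, hinv y hy, ha y⟩)
  rw [eq_top_iff]
  rintro ⟨y, hy⟩ _
  obtain ⟨z, hz, hzy⟩ := h3 hy
  have h4 : z = ⟨y, hy⟩ := Subtype.ext hzy
  rwa [← h4]

set_option linter.unusedVariables false in
/-- **S3938, row `J₂`.** -/
theorem spr_j2 (known : Cfsg.Agent.H257.El.Known.{0}) {T : Type} [Group T] [Finite T] (h : Cfsg.Spor.IsoJ2 T) :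
    Cfsg.Agent.H424.Spr.Spr T := by
  obtain ⟨e⟩ := h
  obtain ⟨f⟩ := Cfsg.Agent.J2.HundredGens.J2_iso Cfsg.Agent.S1619.result.2.2.2
  exact Cfsg.Agent.H424.Spr.Spr.congr (e.trans f).symm spr_G


end Cfsg.Agent.H109.SprJ2
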