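import Mathlib
import Cfsg.Agent.H109.Root2
import Cfsg.Agent.H109.FieldGen

/-!
# Few relations for a root group under a torus element (helper109)

* `URel γ m` : `m` relators in `u, h` which force, in a group with `h ^ (q - 1) = 1`, a root group
  `x : F → G` with `x 1 = u`, `x(t)^h = x(γ t)`.
* `uRel_odd` : `URel (ζ²) 4` for every finite field of odd order, `ζ` a generator of the units.
* `uRel_two` : the same in characteristic two with three relators, without the hypothesis `h ^ (q - 1) = 1`.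
-/

set_option autoImplicit false

universe v

namespace Cfsg.Agent.H109

open Polynomial

/-- `m` relators force a root group. -/
def URel {F : Type v} [Field F] [Fintype F] (γ : F) (m : ℕ) : Prop :=
  ∃ R : List (FreeGroup (Fin 2)), R.length ≤ m ∧
    (∀ (G : Type v) [Group G] (x : F → G) (h : G), (∀ s t, x (s + t) = x s * x t) →
      (∀ t, h * x t * h⁻¹ = x (γ * t)) → ∀ r ∈ R, FreeGroup.lift ![x 1, h] r = 1) ∧
    (∀ (J : Type) [Group J] (u h : J), h ^ (Fintype.card F - 1) = 1 →
      (∀ r ∈ R, FreeGroup.lift ![u, h] r = 1) →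
      ∃ x : F → J, (∀ s t, x (s + t) = x s * x t) ∧ x 1 = u ∧ (∀ t, h * x t * h⁻¹ = x (γ * t)) ∧
        (∀ t, x t ∈ Subgroup.closure {u, h}))

/-- the same without a hypothesis on the order of `h` -/
def URelS {F : Type v} [Field F] [Fintype F] (γ : F) (m : ℕ) : Prop :=
  ∃ R : List (FreeGroup (Fin 2)), R.length ≤ m ∧
    (∀ (G : Type v) [Group G] (x : F → G) (h : G), (∀ s t, x (s + t) = x s * x t) →
      (∀ t, h * x t * h⁻¹ = x (γ * t)) → ∀ r ∈ R, FreeGroup.lift ![x 1, h] r = 1) ∧
    (∀ (J : Type) [Group J] (u h : J),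
      (∀ r ∈ R, FreeGroup.lift ![u, h] r = 1) →
      ∃ x : F → J, (∀ s t, x (s + t) = x s * x t) ∧ x 1 = u ∧ (∀ t, h * x t * h⁻¹ = x (γ * t)) ∧
        (∀ t, x t ∈ Subgroup.closure {u, h}))

section aux

variable {G : Type*} [Group G]

theorem x_zero {F : Type*} [Ring F] {x : F → G} (hx : ∀ s t, x (s + t) = x s * x t) : x 0 = 1 := by
  have := hx 0 0
  rw [add_zero] at this
  exact (mul_eq_left.1 this.symm)

theorem x_neg {F : Type*} [Ring F] {x : F → G} (hx : ∀ s t, x (s + t) = x s * x t) (s : F) :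
    x (-s) = (x s)⁻¹ := by
  rw [eq_inv_iff_mul_eq_one, ← hx, neg_add_cancel, x_zero hx]

theorem x_pow {F : Type*} [Ring F] {x : F → G} (hx : ∀ s t, x (s + t) = x s * x t) (n : ℕ) (s : F) :
    x s ^ n = x (n * s) := by
  induction n with
  | zero => simp [x_zero hx]
  | succ n ih => rw [pow_succ, ih, ← hx]; congr 1; push_cast; rw [add_mul, one_mul]

theorem x_conj_pow {F : Type*} [Ring F] {x : F → G} {h : G} {γ : F} (hh : ∀ t, h * x t * h⁻¹ = x (γ * t))
    (n : ℕ) (t : F) : h ^ n * x t * (h ^ n)⁻¹ = x (γ ^ n * t) := by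
  induction n generalizing t with
  | zero => simp
  | succ n ih =>
    have : h ^ (n + 1) * x t * (h ^ (n + 1))⁻¹ = h * (h ^ n * x t * (h ^ n)⁻¹) * h⁻¹ := by
      rw [pow_succ']; group
    rw [this, ih, hh, pow_succ', mul_assoc]

theorem cu_le_closure (a u h : G) (ha : a ∈ Subgroup.closure {u, h}) : cu a u ≤ Subgroup.closure {u, h} := by
  unfold cu
  rw [Subgroup.closure_le]
  rintro _ ⟨i, rfl⟩
  have hu : u ∈ Subgroup.closure {u, h} := Subgroup.subset_closure (by simp)
  exact mul_mem (mul_mem (zpow_mem ha i) hu) (inv_mem (zpow_mem ha i))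

theorem lift_pw {k : ℕ} (a : Fin k → G) (h u : FreeGroup (Fin k)) (l : List ℤ) :
    FreeGroup.lift a (pw h u l) = pw (FreeGroup.lift a h) (FreeGroup.lift a u) l := map_pw _ _ _ _

theorem pw_one_left (u : G) (l : List ℤ) : pw 1 u l = u ^ (ev (1 : ℤ) l) := by
  induction l with
  | nil => simp
  | cons a l ih => simp [ih, zpow_add]

theorem pow_eq_one_of_cast {p : ℕ} [Fact p.Prime] {u : G} (hp : u ^ p = 1) {z : ℤ} (hz : (z : ZMod p) = 0) :
    u ^ z = 1 := by
  obtain ⟨m, rfl⟩ := (ZMod.intCast_zmod_eq_zero_iff_dvd z p).1 hz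
  rw [zpow_mul, zpow_natCast, hp, one_zpow]

end aux

/-- The prime field. -/
theorem exists_x_prime {G : Type*} [Group G] {p : ℕ} [Fact p.Prime] {F : Type*} [Field F] [Fintype F]
    [Algebra (ZMod p) F] (hF : Fintype.card F = p) {u h : G} (hp : u ^ p = 1) {γ : F} {n : ℕ} (hn : 0 < n)
    (hh : h ^ n = 1) {s : ℕ} (hs : (s : F) = γ) (hact : h * u * h⁻¹ = u ^ s) :
    ∃ x : F → G, (∀ s t, x (s + t) = x s * x t) ∧ x 1 = u ∧ (∀ t, h * x t * h⁻¹ = x (γ * t)) ∧
      (∀ t, x t ∈ cu 1 u) := by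
  have hc : ∀ i j : ℤ, Commute ((1 : G) ^ i * u * (1 ^ i)⁻¹) (1 ^ j * u * (1 ^ j)⁻¹) := by
    intro i j; simp
  have hbij : Function.Bijective (algebraMap (ZMod p) F) := by
    rw [Fintype.bijective_iff_injective_and_card]
    exact ⟨(algebraMap (ZMod p) F).injective, by rw [hF, ZMod.card]⟩
  have hα : Algebra.adjoin (ZMod p) {(1 : F)} = ⊤ := by
    rw [eq_top_iff]
    intro y _
    obtain ⟨z, rfl⟩ := hbij.2 y
    exact Subalgebra.algebraMap_mem _ z
  obtain ⟨x, h1, h2, -, h4, h5⟩ := exists_x_fin (p := p) (F := F) hp hc (Commute.one_left h) hn hh hα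
    (γ := γ) (l := [(s : ℤ)]) (by simp [hs]) (by simp [hact]) (by
      rw [pw_one_left]
      apply pow_eq_one_of_cast hp
      have h1 : ((ev (1 : ℤ) (lst (minpoly (ZMod p) (1 : F))) : ℤ) : ZMod p) =
          ev (1 : ZMod p) (lst (minpoly (ZMod p) (1 : F))) := by
        have := map_ev (Int.castRingHom (ZMod p)) 1 (lst (minpoly (ZMod p) (1 : F)))
        simpa using this
      rw [h1]
      apply (algebraMap (ZMod p) F).injective
      rw [map_ev, map_zero, map_one, ev_lst, minpoly.aeval])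
  exact ⟨x, h1, h2, h4, h5⟩

section odd

variable {F : Type v} [Field F] [Fintype F]

/-- odd order: four relators -/
theorem uRel_odd {ζ : Fˣ} (hζ : ∀ y, y ∈ Subgroup.zpowers ζ) (h2 : (2 : F) ≠ 0) : URel ((ζ : F) ^ 2) 4 := by
  obtain ⟨p, hch⟩ := CharP.exists F
  have hpp : p.Prime := (CharP.char_is_prime_or_zero F p).resolve_right (CharP.char_ne_zero_of_finite F p)
  have : Fact p.Prime := ⟨hpp⟩
  let _ : Algebra (ZMod p) F := ZMod.algebra F p
  have hcard1 : 1 < Fintype.card F := Fintype.one_lt_card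
  have hcp : ((p : ℕ) : F) = 0 := CharP.cast_eq_zero F p
  by_cases hFp : Fintype.card F = p
  · -- prime field
    obtain ⟨s, hs⟩ : ∃ s : ℕ, (s : F) = (ζ : F) ^ 2 := by
      have hbij : Function.Bijective (algebraMap (ZMod p) F) := by
        rw [Fintype.bijective_iff_injective_and_card]
        exact ⟨(algebraMap (ZMod p) F).injective, by rw [hFp, ZMod.card]⟩
      obtain ⟨z, hz⟩ := hbij.2 ((ζ : F) ^ 2)
      refine ⟨z.val, ?_⟩
      rw [← hz, ← map_natCast (algebraMap (ZMod p) F), ZMod.natCast_zmod_val]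
    refine ⟨[FreeGroup.of 0 ^ p, FreeGroup.of 1 * FreeGroup.of 0 * (FreeGroup.of 1)⁻¹ * (FreeGroup.of 0 ^ s)⁻¹],
      by simp, ?_, ?_⟩
    · intro G _ x h hx hh r hr
      simp only [List.mem_cons, List.not_mem_nil, or_false] at hr
      rcases hr with rfl | rfl
      · simp only [map_pow, FreeGroup.lift_apply_of, Matrix.cons_val_zero]
        rw [x_pow hx, hcp, zero_mul, x_zero hx]
      · simp only [map_mul, map_pow, map_inv, FreeGroup.lift_apply_of, Matrix.cons_val_zero, Matrix.cons_val_one,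
          Matrix.cons_val_fin_one]
        rw [hh, x_pow hx, hs, mul_inv_cancel]
    · intro J _ u h hh hr
      have r1 := hr (FreeGroup.of 0 ^ p) (by simp)
      have r2 := hr (FreeGroup.of 1 * FreeGroup.of 0 * (FreeGroup.of 1)⁻¹ * (FreeGroup.of 0 ^ s)⁻¹) (by simp)
      simp only [map_mul, map_pow, map_inv, FreeGroup.lift_apply_of, Matrix.cons_val_zero, Matrix.cons_val_one,
          Matrix.cons_val_fin_one] at r1 r2
      obtain ⟨x, h1, h2, h3, h4⟩ := exists_x_prime hFp r1 (by omega) hh hs (mul_inv_eq_one.1 r2)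
      exact ⟨x, h1, h2, h3, fun t => cu_le_closure 1 u h (one_mem _) (h4 t)⟩
  by_cases h9 : Fintype.card F = 9
  · -- nine elements
    have ho : orderOf ζ = 8 := by rw [order_gen hζ, h9]
    have hp3 : p = 3 := by
      obtain ⟨n, -, hn⟩ := FiniteField.card F p
      rw [h9] at hn
      have : p ∣ 9 := by rw [hn]; exact dvd_pow_self p n.ne_zero
      have h3 : p ∣ 3 := hpp.dvd_of_dvd_pow (n := 2) (by simpa using this)
      exact (Nat.prime_dvd_prime_iff_eq hpp Nat.prime_three).1 h3
    subst hp3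
    have hz4 : (ζ : F) ^ 4 = -1 := by
      have h8 : (ζ : F) ^ 8 = 1 := by
        have := congrArg Units.val (pow_orderOf_eq_one ζ)
        rw [ho, Units.val_pow_eq_pow_val, Units.val_one] at this
        exact this
      have hne : (ζ : F) ^ 4 ≠ 1 := by
        intro h
        have : ζ ^ 4 = 1 := Units.ext (by rw [Units.val_pow_eq_pow_val, h, Units.val_one])
        have := orderOf_dvd_of_pow_eq_one this
        rw [ho] at this
        omega
      have h1 : ((ζ : F) ^ 4 - 1) * ((ζ : F) ^ 4 + 1) = 0 := by linear_combination h8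
      rcases mul_eq_zero.1 h1 with h | h
      · exact absurd (sub_eq_zero.1 h) hne
      · exact eq_neg_of_add_eq_zero_left h
    set γ : F := (ζ : F) ^ 2 with hγ
    have hγ2 : γ ^ 2 = -1 := by rw [hγ, ← pow_mul]; exact hz4
    have hα := adjoin_sq_eq_top (p := 3) hζ
    rw [← hγ] at hα
    refine ⟨[FreeGroup.of 0 ^ 3,
      FreeGroup.of 0 * (FreeGroup.of 1 * FreeGroup.of 0 * (FreeGroup.of 1)⁻¹) *
        (FreeGroup.of 0)⁻¹ * (FreeGroup.of 1 * FreeGroup.of 0 * (FreeGroup.of 1)⁻¹)⁻¹,
      FreeGroup.of 1 ^ 2 * FreeGroup.of 0 * (FreeGroup.of 1 ^ 2)⁻¹ * FreeGroup.of 0,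
      pw (FreeGroup.of 1) (FreeGroup.of 0) (lst (minpoly (ZMod 3) γ))], by simp, ?_, ?_⟩
    · intro G _ x h hx hh r hr
      simp only [List.mem_cons, List.not_mem_nil, or_false] at hr
      rcases hr with rfl | rfl | rfl | rfl
      · simp only [map_pow, FreeGroup.lift_apply_of, Matrix.cons_val_zero]
        rw [x_pow hx, hcp, zero_mul, x_zero hx]
      · simp only [map_mul, map_pow, map_inv, FreeGroup.lift_apply_of, Matrix.cons_val_zero, Matrix.cons_val_one,
          Matrix.cons_val_fin_one]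
        rw [hh, ← hx, add_comm, hx]
        group
      · simp only [map_mul, map_pow, map_inv, FreeGroup.lift_apply_of, Matrix.cons_val_zero, Matrix.cons_val_one,
          Matrix.cons_val_fin_one]
        rw [x_conj_pow hh, hγ2, ← hx]
        simp [x_zero hx]
      · simp only [lift_pw, FreeGroup.lift_apply_of, Matrix.cons_val_zero, Matrix.cons_val_one,
          Matrix.cons_val_fin_one]
        rw [pw_root hx hh, ev_lst, minpoly.aeval, zero_mul, x_zero hx]
    · intro J _ u h hh hr
      have r1 := hr (FreeGroup.of 0 ^ 3) (by simp)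
      have r2 := hr (FreeGroup.of 0 * (FreeGroup.of 1 * FreeGroup.of 0 * (FreeGroup.of 1)⁻¹) *
        (FreeGroup.of 0)⁻¹ * (FreeGroup.of 1 * FreeGroup.of 0 * (FreeGroup.of 1)⁻¹)⁻¹) (by simp)
      have r3 := hr (FreeGroup.of 1 ^ 2 * FreeGroup.of 0 * (FreeGroup.of 1 ^ 2)⁻¹ * FreeGroup.of 0) (by simp)
      have r4 := hr (pw (FreeGroup.of 1) (FreeGroup.of 0) (lst (minpoly (ZMod 3) γ))) (by simp)
      simp only [map_mul, map_pow, map_inv, FreeGroup.lift_apply_of, Matrix.cons_val_zero, Matrix.cons_val_one,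
          Matrix.cons_val_fin_one, lift_pw] at r1 r2 r3 r4
      have hcm : Commute u (h * u * h⁻¹) := by
        have e : u * (h * u * h⁻¹) * u⁻¹ * (h * u * h⁻¹)⁻¹ = 1 := r2
        rw [mul_inv_eq_one, mul_inv_eq_iff_eq_mul] at e
        exact e
      have hsq : h ^ 2 * u * (h ^ 2)⁻¹ = u⁻¹ := eq_inv_of_mul_eq_one_left r3
      -- the conjugates
      have hev : ∀ i : ℤ, h ^ i * u * (h ^ i)⁻¹ = u ∨ h ^ i * u * (h ^ i)⁻¹ = u⁻¹ ∨
          h ^ i * u * (h ^ i)⁻¹ = h * u * h⁻¹ ∨ h ^ i * u * (h ^ i)⁻¹ = (h * u * h⁻¹)⁻¹ := by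
        have h2m : ∀ m : ℤ, (h ^ 2) ^ m * u * ((h ^ 2) ^ m)⁻¹ = u ∨ (h ^ 2) ^ m * u * ((h ^ 2) ^ m)⁻¹ = u⁻¹ := by
          have hnat : ∀ m : ℕ, (h ^ 2) ^ m * u * ((h ^ 2) ^ m)⁻¹ = u ∨ (h ^ 2) ^ m * u * ((h ^ 2) ^ m)⁻¹ = u⁻¹ := by
            intro m
            induction m with
            | zero => simp
            | succ m ih =>
              have e : (h ^ 2) ^ (m + 1) * u * ((h ^ 2) ^ (m + 1))⁻¹ =
                  h ^ 2 * ((h ^ 2) ^ m * u * ((h ^ 2) ^ m)⁻¹) * (h ^ 2)⁻¹ := by
                rw [pow_succ' (h ^ 2)]; group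
              rcases ih with h1 | h1
              · rw [e, h1, hsq]; simp
              · rw [e, h1]
                left
                rw [← hsq]
                have : h ^ 2 * (h ^ 2 * u * (h ^ 2)⁻¹) * (h ^ 2)⁻¹ = h ^ 2 * (u⁻¹) * (h ^ 2)⁻¹ := by rw [hsq]
                rw [this]
                have : h ^ 2 * u⁻¹ * (h ^ 2)⁻¹ = (h ^ 2 * u * (h ^ 2)⁻¹)⁻¹ := by group
                rw [this, hsq, inv_inv]
          intro m
          obtain ⟨n, rfl | rfl⟩ := m.eq_nat_or_neg
          · rw [zpow_natCast]; exact hnat n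
          · rw [zpow_neg, zpow_natCast]
            rcases hnat n with h1 | h1
            · left
              have := congrArg (fun z => ((h ^ 2) ^ n)⁻¹ * z * (h ^ 2) ^ n) h1
              rw [inv_inv, ← this]
              group
            · right
              have := congrArg (fun z => ((h ^ 2) ^ n)⁻¹ * z * (h ^ 2) ^ n) h1
              rw [inv_inv]
              have e1 : ((h ^ 2) ^ n)⁻¹ * ((h ^ 2) ^ n * u * ((h ^ 2) ^ n)⁻¹) * (h ^ 2) ^ n = u := by group
              rw [e1] at this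
              calc ((h ^ 2) ^ n)⁻¹ * u * (h ^ 2) ^ n = (((h ^ 2) ^ n)⁻¹ * u⁻¹ * (h ^ 2) ^ n)⁻¹ := by group
                _ = u⁻¹ := by rw [← this]
        intro i
        obtain ⟨m, rfl | rfl⟩ : ∃ m, i = 2 * m ∨ i = 2 * m + 1 := ⟨i / 2, by omega⟩
        · rw [zpow_mul]
          have : h ^ (2 : ℤ) = h ^ 2 := by exact_mod_cast zpow_natCast h 2
          rw [this]
          rcases h2m m with h1 | h1
          · exact Or.inl h1
          · exact Or.inr (Or.inl h1)
        · have e : h ^ (2 * m + 1) * u * (h ^ (2 * m + 1))⁻¹ = h * ((h ^ 2) ^ m * u * ((h ^ 2) ^ m)⁻¹) * h⁻¹ := by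
            rw [add_comm, zpow_add, zpow_one, zpow_mul]
            have : h ^ (2 : ℤ) = h ^ 2 := by exact_mod_cast zpow_natCast h 2
            rw [this]
            group
          rw [e]
          rcases h2m m with h1 | h1
          · rw [h1]; simp
          · rw [h1]
            right; right; right
            group
      have hcc : ∀ i j : ℤ, Commute (h ^ i * u * (h ^ i)⁻¹) (h ^ j * u * (h ^ j)⁻¹) := by
        intro i j
        rcases hev i with e | e | e | e <;> rcases hev j with e' | e' | e' | e' <;> rw [e, e'] <;>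
          first
          | exact Commute.refl _
          | exact (Commute.refl _).inv_right
          | exact (Commute.refl _).inv_left
          | exact hcm
          | exact hcm.inv_right
          | exact hcm.inv_left
          | exact hcm.inv_inv
          | exact hcm.symm
          | exact hcm.symm.inv_right
          | exact hcm.symm.inv_left
          | exact hcm.symm.inv_inv
      obtain ⟨x, h1, h2, h3, h4⟩ := exists_x_self (p := 3) r1 hcc hα r4
      refine ⟨x, h1, h2, h3, fun t => cu_le_closure h u h (Subgroup.subset_closure (by simp)) (h4 t)⟩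
  · -- the general case
    have hz := ζ.ne_zero
    have hz2 : (ζ : F) ^ 2 ≠ 1 := by
      intro h
      have h1 : ζ ^ 2 = 1 := Units.ext (by rw [Units.val_pow_eq_pow_val, h, Units.val_one])
      have h3 := orderOf_dvd_of_pow_eq_one h1
      rw [order_gen hζ] at h3
      have h4 := Nat.le_of_dvd (by norm_num) h3
      obtain ⟨n, hn, hc⟩ := FiniteField.card F p
      have hp2 : p ≠ 2 := by
        rintro rfl
        exact h2 (by exact_mod_cast hcp)
      have hp3 : 3 ≤ p := by have := hpp.two_le; omega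
      have h5 : p ^ (n : ℕ) ≤ 3 := by omega
      have hn1 : (n : ℕ) = 1 := by
        by_contra hne
        have : 2 ≤ (n : ℕ) := by have := n.pos; omega
        have h6 : p ^ 2 ≤ p ^ (n : ℕ) := Nat.pow_le_pow_right hpp.pos this
        nlinarith
      rw [hn1, pow_one] at hc
      exact hFp hc
    have hz2' : (ζ : F) ^ 2 ≠ -1 := by
      intro h
      have h1 : ζ ^ 4 = 1 := Units.ext (by
        push_cast
        have : (ζ : F) ^ 4 = ((ζ : F) ^ 2) ^ 2 := by ring
        rw [this, h]; ring)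
      have h3 := orderOf_dvd_of_pow_eq_one h1
      rw [order_gen hζ] at h3
      have h4 := Nat.le_of_dvd (by norm_num) h3
      obtain ⟨n, hn, hc⟩ := FiniteField.card F p
      have hp2 : p ≠ 2 := by
        rintro rfl
        exact h2 (by exact_mod_cast hcp)
      have hp3 : 3 ≤ p := by have := hpp.two_le; omega
      have h5 : p ^ (n : ℕ) ≤ 5 := by omega
      have hn1 : (n : ℕ) = 1 := by
        by_contra hne
        have : 2 ≤ (n : ℕ) := by have := n.pos; omega
        have h6 : p ^ 2 ≤ p ^ (n : ℕ) := Nat.pow_le_pow_right hpp.pos this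
        nlinarith
      rw [hn1, pow_one] at hc
      exact hFp hc
    have ha0 : (1 - (ζ : F) ^ 2) / (2 * ζ) ≠ 0 := by
      refine div_ne_zero (sub_ne_zero.2 hz2.symm) (mul_ne_zero h2 hz)
    have hb0 : (1 + (ζ : F) ^ 2) / (2 * ζ) ≠ 0 := by
      refine div_ne_zero ?_ (mul_ne_zero h2 hz)
      intro h
      exact hz2' (eq_neg_of_add_eq_zero_right h)
    obtain ⟨k, hk⟩ : ∃ k : ℕ, (ζ : F) ^ k = (1 - (ζ : F) ^ 2) / (2 * ζ) := by
      obtain ⟨k, hk⟩ := (mem_powers_iff_mem_zpowers).2 (hζ (Units.mk0 _ ha0))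
      refine ⟨k, ?_⟩
      have := congrArg Units.val hk
      simpa using this
    obtain ⟨l, hl⟩ : ∃ k : ℕ, (ζ : F) ^ k = (1 + (ζ : F) ^ 2) / (2 * ζ) := by
      obtain ⟨k, hk⟩ := (mem_powers_iff_mem_zpowers).2 (hζ (Units.mk0 _ hb0))
      refine ⟨k, ?_⟩
      have := congrArg Units.val hk
      simpa using this
    have hα := adjoin_alpha_eq_top (p := p) hζ h2 h9
    set γ : F := (ζ : F) ^ 2 with hγ
    have hγk : γ ^ k = ((1 - γ) / (2 * ζ)) ^ 2 := by rw [← hk, hγ]; ring
    have hγl : γ ^ l = 1 + γ ^ k := by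
      have : γ ^ l = ((1 + γ) / (2 * ζ)) ^ 2 := by rw [← hl, hγ]; ring
      rw [this, hγk, hγ]
      field_simp
      ring
    rw [← hγk] at hα
    obtain ⟨f, g, hf, hfg⟩ := exists_poly (p := p) (γ ^ k) hα γ
    refine ⟨[FreeGroup.of 0 ^ p,
      FreeGroup.of 0 * (FreeGroup.of 1 ^ k * FreeGroup.of 0 * (FreeGroup.of 1 ^ k)⁻¹) *
        (FreeGroup.of 1 ^ l * FreeGroup.of 0 * (FreeGroup.of 1 ^ l)⁻¹)⁻¹,
      (FreeGroup.of 1 ^ k * FreeGroup.of 0 * (FreeGroup.of 1 ^ k)⁻¹) * FreeGroup.of 0 *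
        (FreeGroup.of 1 ^ l * FreeGroup.of 0 * (FreeGroup.of 1 ^ l)⁻¹)⁻¹,
      FreeGroup.of 1 * FreeGroup.of 0 * (FreeGroup.of 1)⁻¹ *
        (pw (FreeGroup.of 1 ^ k) (FreeGroup.of 0) (lst f))⁻¹], by simp, ?_, ?_⟩
    · intro G _ x h hx hh r hr
      simp only [List.mem_cons, List.not_mem_nil, or_false] at hr
      rcases hr with rfl | rfl | rfl | rfl
      · simp only [map_pow, FreeGroup.lift_apply_of, Matrix.cons_val_zero]
        rw [x_pow hx, hcp, zero_mul, x_zero hx]
      · simp only [map_mul, map_pow, map_inv, FreeGroup.lift_apply_of, Matrix.cons_val_zero, Matrix.cons_val_one,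
          Matrix.cons_val_fin_one]
        rw [x_conj_pow hh, x_conj_pow hh, ← hx, mul_inv_eq_one]
        congr 1
        rw [hγl]; ring
      · simp only [map_mul, map_pow, map_inv, FreeGroup.lift_apply_of, Matrix.cons_val_zero, Matrix.cons_val_one,
          Matrix.cons_val_fin_one]
        rw [x_conj_pow hh, x_conj_pow hh, ← hx, mul_inv_eq_one]
        congr 1
        rw [hγl]; ring
      · simp only [map_mul, map_pow, map_inv, FreeGroup.lift_apply_of, Matrix.cons_val_zero, Matrix.cons_val_one,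
          Matrix.cons_val_fin_one, lift_pw]
        rw [hh, pw_root hx (x_conj_pow hh k), ev_lst, hf, mul_inv_cancel]
    · intro J _ u h hh hr
      have r1 := hr _ (List.mem_cons_self)
      have r2 := hr _ (List.mem_cons_of_mem _ (List.mem_cons_self))
      have r3 := hr _ (List.mem_cons_of_mem _ (List.mem_cons_of_mem _ (List.mem_cons_self)))
      have r4 := hr _ (List.mem_cons_of_mem _ (List.mem_cons_of_mem _ (List.mem_cons_of_mem _ (List.mem_cons_self))))
      simp only [map_mul, map_pow, map_inv, FreeGroup.lift_apply_of, Matrix.cons_val_zero, Matrix.cons_val_one,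
          Matrix.cons_val_fin_one, lift_pw] at r1 r2 r3 r4
      have hcm : Commute (h ^ k) (h ^ l) := (Commute.refl h).pow_pow k l
      obtain ⟨x, h1, h2, -, h4, h5⟩ := exists_x_f (p := p) (F := F) r1
        (comm_of_trinomial hcm (mul_inv_eq_one.1 r2) (mul_inv_eq_one.1 r3))
        ((Commute.refl h).pow_left k) hh (by rw [← pow_mul, mul_comm, pow_mul, hh, one_pow])
        hα hf hfg (mul_inv_eq_one.1 r4)
      refine ⟨x, h1, h2, h4, fun t => cu_le_closure (h ^ k) u h
        (pow_mem (Subgroup.subset_closure (by simp)) k) (h5 t)⟩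

end odd

end Cfsg.Agent.H109
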